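import Groth.Agent.L26.Pic0.Basic
import Groth.Agent.L17.BC.GenApply
import Groth.Agent.L21.RR.Twist
import Mathlib.Topology.JacobsonSpace

/-!
# Direct images detected on closed points and away from finitely many points
-/

set_option autoImplicit false
set_option linter.style.haveILetI false
set_option linter.unusedSectionVars false
set_option backward.isDefEq.respectTransparency false

universe u

open CategoryTheory CategoryTheory.Limits AlgebraicGeometry TopologicalSpace Opposite

noncomputable section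

namespace Groth.Agent.Pic0

open Groth.L18.Frame (rs rs_rs rs_self)

variable {X Y : Scheme.{u}}

theorem isFlatOver_of_isInvertible (f : X ⟶ Y) [Flat f] {M : X.Modules} (hM : PicF.IsInvertible M) :
    FlatMod.IsFlatOver f M := fun x => by
  letI := FlatMod.moduleStalkOver f M x
  letI := (f.stalkMap x).hom.toAlgebra
  haveI : IsScalarTower (Y.presheaf.stalk (f.base x)) (X.presheaf.stalk x) (M.presheaf.stalk x) :=
    ⟨fun r a m => by
      show ((f.stalkMap x).hom r * a) • m = (f.stalkMap x).hom r • (a • m)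
      rw [mul_smul]⟩
  haveI : Module.Flat (Y.presheaf.stalk (f.base x)) (X.presheaf.stalk x) := Flat.stalkMap f x
  haveI : Module.Flat (X.presheaf.stalk x) (M.presheaf.stalk x) := Groth.L21.RR.isFlat_of_isInvertible hM x
  exact Module.Flat.trans (Y.presheaf.stalk (f.base x)) (X.presheaf.stalk x) (M.presheaf.stalk x)

theorem subsingleton_Γ_of_restrict {N : Y.Modules} {U W : Y.Opens} (hW : W ≤ U) (h : IsZero (N.restrict U.ι)) :
    Subsingleton Γ(N, W) := by
  have h1 := subsingleton_Γ_of_isZero h (U.ι ⁻¹ᵁ W)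
  have h2 : U.ι ''ᵁ (U.ι ⁻¹ᵁ W) = W := by
    rw [Scheme.Hom.image_preimage_eq_opensRange_inf, Scheme.Opens.opensRange_ι, inf_eq_right.2 hW]
  haveI : Subsingleton Γ(N, U.ι ''ᵁ (U.ι ⁻¹ᵁ W)) := h1
  exact h2 ▸ this

/-- A module without sections is zero. -/
theorem isZero_of_forall_Γ {N : Y.Modules} (h : ∀ W : Y.Opens, Subsingleton Γ(N, W)) : IsZero N := by
  rw [IsZero.iff_id_eq_zero]
  refine Scheme.Modules.hom_ext _ _ fun W => ?_
  ext s
  exact (h W).elim _ _

/-- A module vanishing off a finite set of closed points, without global sections, is zero. -/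
theorem isZero_of_off_finite (N : Y.Modules) (F : Set Y) (hF : F.Finite) (hFc : ∀ y ∈ F, IsClosed ({y} : Set Y))
    (U : Y.Opens) (hU : Fᶜ ⊆ (U : Set Y)) (h0 : IsZero (N.restrict U.ι)) (hΓ : Subsingleton Γ(N, ⊤)) :
    IsZero N := by
  let OM : TopCat.Sheaf Ab.{u} Y.toTopCat := ⟨N.presheaf, N.isSheaf⟩
  refine isZero_of_forall_Γ fun W => subsingleton_of_forall_eq 0 fun s => ?_
  have hcl : ∀ y, IsClosed (F \ {y}) := fun y => by
    have := (hF.subset (Set.diff_subset (t := {y}))).isClosed_biUnion (f := fun z => ({z} : Set Y))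
      fun z hz => hFc z hz.1
    rwa [Set.biUnion_of_singleton] at this
  let Wy : Y → Y.Opens := fun y => W ⊓ ⟨(F \ {y})ᶜ, (hcl y).isOpen_compl⟩
  refine OM.eq_of_locally_eq' Wy W (fun y => homOfLE inf_le_left)
    (fun y hy => Opens.mem_iSup.2 ⟨y, hy, fun h => h.2 rfl⟩) s 0 fun y => ?_
  refine Eq.trans ?_ (map_zero _).symm
  show rs N (inf_le_left : Wy y ≤ W) s = 0
  generalize hV : rs N (inf_le_left : Wy y ≤ W) s = t
  by_cases hy : y ∈ F
  swap
  · haveI := subsingleton_Γ_of_restrict (N := N) (W := Wy y)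
      (fun z hz => hU fun hzF => hz.2 ⟨hzF, fun h => hy ((Set.mem_singleton_iff.1 h) ▸ hzF)⟩) h0
    exact Subsingleton.elim _ _
  -- glue with zero away from `y`
  let C : Y.Opens := ⟨{y}ᶜ, (hFc y hy).isOpen_compl⟩
  let cov : Bool → Y.Opens := fun b => cond b (Wy y) C
  let sf : ∀ b, Γ(N, cov b) := fun b => match b with
    | true => t
    | false => 0
  have hVC : Wy y ⊓ C ≤ U := fun z hz => hU fun hzF => hz.1.2 ⟨hzF, hz.2⟩
  have hcompat : TopCat.Presheaf.IsCompatible OM.obj cov sf := by
    intro a b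
    cases a <;> cases b
    · rfl
    · haveI := subsingleton_Γ_of_restrict (N := N) (W := C ⊓ Wy y) (by rw [inf_comm]; exact hVC) h0
      exact Subsingleton.elim (α := Γ(N, C ⊓ Wy y)) _ _
    · haveI := subsingleton_Γ_of_restrict (N := N) (W := Wy y ⊓ C) hVC h0
      exact Subsingleton.elim (α := Γ(N, Wy y ⊓ C)) _ _
    · rfl
  by_cases hyW : y ∈ W
  · obtain ⟨g, hg, -⟩ := OM.existsUnique_gluing' cov ⊤ (fun b => homOfLE le_top)
      (fun z _ => by
        by_cases hz : z = y
        · subst hz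
          exact Opens.mem_iSup.2 ⟨true, hyW, fun h => h.2 rfl⟩
        · exact Opens.mem_iSup.2 ⟨false, hz⟩) sf hcompat
    have h := hg true
    rw [hΓ.elim g 0, map_zero] at h
    exact h.symm
  · haveI := subsingleton_Γ_of_restrict (N := N) (W := Wy y)
      (fun z hz => hU fun hzF => hz.2 ⟨hzF, fun h => hyW (Set.mem_singleton_iff.1 h ▸ hz.1)⟩) h0
    exact Subsingleton.elim _ _

variable (f : X ⟶ Y) [IsProper f] [LocallyOfFinitePresentation f]
  (M : X.Modules) [Coh.IsQCoh M] (hfp : CohB1.IsFP M) (hfl : FlatMod.IsFlatOver f M)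

include hfp hfl in
/-- Vanishing of the cohomology of the fibres at the closed points of an open kills the direct image there. -/
theorem isZero_restrict_Rpush [JacobsonSpace Y] [HasInjectiveResolutions X.Modules] (p : ℕ) (U : Y.Opens)
    (h : ∀ y ∈ U, IsClosed ({y} : Set Y) → Subsingleton (CohIII.fiberH f M y p)) :
    IsZero (((Coh.Rpush f p).obj M).restrict U.ι) := by
  let good : Set Y := {y | ∃ U' : Y.Opens, y ∈ U' ∧ IsZero (((Coh.Rpush f p).obj M).restrict U'.ι)}
  have hgood : IsOpen good := isOpen_iff_forall_mem_open.2 fun y ⟨U', hy, hz⟩ =>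
    ⟨U', fun z hz' => ⟨U', hz', hz⟩, U'.2, hy⟩
  refine Groth.L17.BC.isZero_restrict_of_forall _ U fun y hy => ?_
  by_contra hbad
  obtain ⟨z, hz, hzc⟩ := nonempty_inter_closedPoints (Z := (U : Set Y) ∩ goodᶜ) ⟨y, hy, hbad⟩
    (U.2.isLocallyClosed.inter hgood.isClosed_compl.isLocallyClosed)
  exact hz.2 (Groth.L17.BC.exists_isZero_of_vanishing f M hfp hfl z p (h z hz.1 hzc))

end Groth.Agent.Pic0
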