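import Groth.Agent.L16.SectCmp.LerayAffine
import Groth.Agent.L17.ProperCoh

/-!
# The edge map of a composite below which the higher direct images vanish
-/

set_option autoImplicit false
set_option linter.style.haveILetI false
set_option linter.unusedSectionVars false
set_option backward.isDefEq.respectTransparency false

universe v v' u u'

open CategoryTheory CategoryTheory.Limits AlgebraicGeometry TopologicalSpace Opposite HomologicalComplex

noncomputable section

namespace Groth.Agent.Pic0

open Groth.L16.SectCmp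

section Comparison

variable {B : Type u} [Category.{v} B] [Abelian B] {C : Type u'} [Category.{v'} C] [Abelian C]
  (Ψ : B ⥤ C) [Ψ.Additive] [PreservesFiniteLimits Ψ]
  {P : B → Prop} (hP : ExactClass Ψ P) (K : CochainComplex B ℕ)

include hP in
theorem cycles_mem_below (hX : ∀ i, P (K.X i)) :
    ∀ m, (∀ i ≤ m, P (K.homology i)) → P (K.cycles m) := by
  intro m
  induction m with
  | zero => exact fun h => hP.of_iso K.isoHomologyπ₀.symm (h 0 le_rfl)
  | succ m ih =>
    exact fun h => hP.middle (shortExact_image_homology K m)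
      (image_mem Ψ hP K m (hX m) (ih fun i hi => h i (by omega))) (h (m + 1) le_rfl)

include hP in
/-- The comparison is invertible as soon as the homology below the degree is in the class. -/
theorem isIso_homologyComparison_below (hX : ∀ i, P (K.X i)) (n : ℕ) (hH : ∀ i < n, P (K.homology i)) :
    IsIso (RDer.homologyComparison Ψ K n) := by
  let c := ComplexShape.up ℕ
  let K' := (Ψ.mapHomologicalComplex c).obj K
  haveI : IsIso (RDer.cyclesComparison Ψ K n) :=
    ((K'.cyclesIsKernel n (c.next n) rfl).conePointUniqueUpToIso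
      (KernelFork.mapIsLimit _ (K.cyclesIsKernel n (c.next n) rfl) Ψ)).isIso_hom
  obtain ⟨i, hi⟩ : ∃ i, i = c.prev n := ⟨_, rfl⟩
  have hz : Ψ.map (K.toCycles i n) ≫ Ψ.map (K.homologyπ n) = 0 := by
    rw [← Ψ.map_comp, toCycles_comp_homologyπ, Ψ.map_zero]
  have key : (ShortComplex.mk (Ψ.map (K.toCycles i n)) (Ψ.map (K.homologyπ n)) hz).Exact ∧
      Epi (Ψ.map (K.homologyπ n)) := by
    cases n with
    | zero =>
      haveI : IsIso (K.homologyπ 0) := K.isoHomologyπ₀.isIso_hom
      refine ⟨(ShortComplex.exact_iff_mono _ ?_).2 inferInstance, inferInstance⟩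
      have h0 : K.toCycles i 0 = 0 := by
        rw [← cancel_mono (K.iCycles 0), toCycles_i, zero_comp]
        exact K.shape _ _ (by simp)
      simp [h0]
    | succ m =>
      obtain rfl : i = m := hi.trans (CochainComplex.prev_nat_succ m)
      have hZ : P (K.cycles i) := cycles_mem_below Ψ hP K hX i fun j hj => hH j (by omega)
      have hI := image_mem Ψ hP K i (hX i) hZ
      have hT := shortExact_image_homology K i
      haveI := hP.epi hT hI
      haveI hf : Epi (Ψ.map (Abelian.factorThruImage (K.toCycles i (i + 1)))) :=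
        hP.epi (shortExact_cycles_image K i) hZ
      haveI := hT.mono_f
      have h1 := hT.exact.map_of_mono_of_preservesKernel Ψ inferInstance inferInstance
      refine ⟨?_, inferInstance⟩
      let φ : ShortComplex.mk (Ψ.map (K.toCycles i (i + 1))) (Ψ.map (K.homologyπ (i + 1))) hz ⟶
          (ShortComplex.mk (Abelian.image.ι (K.toCycles i (i + 1))) (K.homologyπ (i + 1))
            (by rw [← cancel_epi (Abelian.factorThruImage (K.toCycles i (i + 1))), ← Category.assoc, Abelian.image.fac,
              toCycles_comp_homologyπ, comp_zero])).map Ψ :=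
        { τ₁ := Ψ.map (Abelian.factorThruImage _), τ₂ := 𝟙 _, τ₃ := 𝟙 _
          comm₁₂ := by simp [← Ψ.map_comp]
          comm₂₃ := by simp }
      haveI : Epi φ.τ₁ := hf
      haveI : IsIso φ.τ₂ := inferInstanceAs (IsIso (𝟙 _))
      haveI : Mono φ.τ₃ := inferInstanceAs (Mono (𝟙 _))
      exact (ShortComplex.exact_iff_of_epi_of_isIso_of_mono φ).2 h1
  haveI := key.2
  have hc : IsColimit (CokernelCofork.ofπ (f := K'.toCycles i n)
      (RDer.cyclesComparison Ψ K n ≫ Ψ.map (K.homologyπ n)) (by
        subst hi; rw [RDer.toCycles_cyclesComparison_assoc, hz])) := by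
    refine CokernelCofork.IsColimit.ofπ' _ _ fun {A} g hg => ?_
    refine ⟨key.1.desc (inv (RDer.cyclesComparison Ψ K n) ≫ g) ?_, ?_⟩
    · subst hi
      show Ψ.map (K.toCycles (c.prev n) n) ≫ inv (RDer.cyclesComparison Ψ K n) ≫ g = 0
      rw [← RDer.toCycles_cyclesComparison, Category.assoc, IsIso.hom_inv_id_assoc, hg]
    · rw [Category.assoc]
      erw [key.1.g_desc]
      rw [IsIso.hom_inv_id_assoc]
  subst hi
  exact ((K'.homologyIsCokernel (c.prev n) n rfl).coconePointUniqueUpToIso hc).isIso_hom

end Comparison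

section Edge

variable {X Y Z : Scheme.{u}}

/-- If the higher direct images vanish below degree `p`, the edge map in degree `p` is invertible. -/
theorem isIso_lerayEdgeOut_of_isZero (f : X ⟶ Y) (g : Y ⟶ Z) [HasInjectiveResolutions X.Modules]
    (M : X.Modules) (p : ℕ) (h : ∀ b < p, IsZero ((Coh.Rpush f b).obj M)) :
    IsIso (CohBC.lerayEdgeOut f g p M) := by
  haveI : IsIso (RDer.homologyComparison (Scheme.Modules.pushforward g)
      (((Scheme.Modules.pushforward f).mapHomologicalComplex _).obj (injectiveResolution M).cocomplex) p) := by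
    refine isIso_homologyComparison_below _ (exactClass_push g) _ (fun i W _ => ?_) p (fun i hi W _ => ?_)
    · haveI := (injectiveResolution M).injective i
      exact acy_push_injective f _ _
    · exact Acy.of_iso ((injectiveResolution M).isoRightDerivedObj (Scheme.Modules.pushforward f) i)
        (Acy.of_isZero (h i hi) _)
  haveI : IsIso (RDer.edgeOut (Scheme.Modules.pushforward f) (Scheme.Modules.pushforward g) p M) :=
    IsIso.comp_isIso' inferInstance (IsIso.comp_isIso' inferInstance inferInstance)
  exact IsIso.comp_isIso' inferInstance inferInstance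

end Edge

section Affine

variable {R : CommRingCat.{u}} {X Y : Scheme.{u}}

theorem isZero_of_subsingleton_Γ_spec (N : (Spec R).Modules) [Coh.IsQCoh N]
    (h : Subsingleton Γ(N, ⊤)) : IsZero N := by
  haveI : Subsingleton ↑((moduleSpecΓFunctor (R := R)).obj N) := h
  exact ((tilde.functor R).map_isZero (ModuleCat.isZero_of_subsingleton _)).of_iso
    (Groth.L18.TildeF.counitIso N).symm

theorem subsingleton_Γ_of_isZero {N : X.Modules} (h : IsZero N) (U : X.Opens) : Subsingleton Γ(N, U) :=
  subsingleton_of_forall_eq 0 fun s =>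
    (congr(($(h.eq_of_src (𝟙 N) 0)).app U s) : _)

/-- Cohomology vanishes iff the higher direct image to the affine base does. -/
theorem subsingleton_HH_iff (g : X ⟶ Spec R) [QuasiCompact g] [QuasiSeparated g]
    [HasInjectiveResolutions X.Modules] (M : X.Modules) [Coh.IsQCoh M] (n : ℕ) :
    Subsingleton (Coh.HH X M n) ↔ IsZero ((Coh.Rpush g n).obj M) := by
  letI : Module R (Coh.HH X M n) := Module.compHom _ (Coh.toGlobal (A := R) g)
  obtain ⟨e⟩ := Groth.L17.ProperCoh.nonempty_Γ_Rpush_equiv g M n
  haveI := Groth.L17.PushQCoh.isQCoh_Rpush g M n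
  refine ⟨fun h => isZero_of_subsingleton_Γ_spec _ (e.toEquiv.symm.subsingleton), fun h => ?_⟩
  haveI : Subsingleton ↑((moduleSpecΓFunctor (R := R)).obj ((Coh.Rpush g n).obj M)) :=
    subsingleton_Γ_of_isZero h _
  exact e.toEquiv.subsingleton

/-- With vanishing below, cohomology is the space of sections of the higher direct image. -/
theorem nonempty_HH_equiv_Γ (f : X ⟶ Y) (g : Y ⟶ Spec R) [QuasiCompact (f ≫ g)] [QuasiSeparated (f ≫ g)]
    [HasInjectiveResolutions X.Modules] (M : X.Modules) [Coh.IsQCoh M] (p : ℕ)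
    (h : ∀ b < p, IsZero ((Coh.Rpush f b).obj M)) :
    Nonempty (Coh.HH X M p ≃+ Γ((Coh.Rpush f p).obj M, ⊤)) := by
  letI : Module R (Coh.HH X M p) := Module.compHom _ (Coh.toGlobal (A := R) (f ≫ g))
  obtain ⟨e⟩ := Groth.L17.ProperCoh.nonempty_Γ_Rpush_equiv (f ≫ g) M p
  haveI := isIso_lerayEdgeOut_of_isZero f g M p h
  exact ⟨e.toAddEquiv.trans ((moduleSpecΓFunctor (R := R)).mapIso
    (asIso (CohBC.lerayEdgeOut f g p M))).toLinearEquiv.toAddEquiv⟩

/-- Vanishing of the higher direct images in all degrees gives vanishing of cohomology. -/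
theorem subsingleton_HH_of_isZero (f : X ⟶ Y) (g : Y ⟶ Spec R) [QuasiCompact (f ≫ g)] [QuasiSeparated (f ≫ g)]
    [HasInjectiveResolutions X.Modules] (M : X.Modules) [Coh.IsQCoh M] (p : ℕ)
    (h : ∀ b ≤ p, IsZero ((Coh.Rpush f b).obj M)) : Subsingleton (Coh.HH X M p) := by
  obtain ⟨e⟩ := nonempty_HH_equiv_Γ f g M p fun b hb => h b hb.le
  haveI := subsingleton_Γ_of_isZero (h p le_rfl) (⊤ : Y.Opens)
  exact e.toEquiv.subsingleton

end Affine

end Groth.Agent.Pic0
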