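import Groth.Agent.L26.Pic0.EulerDev
import Groth.Agent.L03.Euler.Basic
import Groth.Agent.L03.Euler.Push
import Groth.Agent.L22.CurveDeg.Det.Free
import Groth.Agent.L27.Deg.PushRank
import Groth.Agent.L29.LocFree
import Groth.Agent.L17.FlatBase.CxTools
import Groth.Agent.L19.ProjBdl.Points
import Groth.Agent.L16.AffineBC.Pullback
import Groth.Agent.L16.Exist.PushPull
import Groth.Agent.S12131

/-!
# Euler characteristics of pullbacks along finite flat morphisms with free fibre square
-/

set_option autoImplicit false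
set_option linter.style.haveILetI false
set_option linter.unusedSectionVars false
set_option backward.isDefEq.respectTransparency false

universe u

open CategoryTheory CategoryTheory.Limits AlgebraicGeometry

noncomputable section

namespace Groth.Agent.Pic0.EulerPull

open Groth.L22.CurveDeg.Det (freeN inj desc desc_comp desc_inj inj_desc euler_freeN)

/-- Affine base change of a quasi-coherent module. -/
theorem nonempty_bc {X S X' S' : Scheme.{u}} (f : X ⟶ S) (g : S' ⟶ S) (g' : X' ⟶ X) (f' : X' ⟶ S')
    (h : IsPullback g' f' f g) [IsAffineHom f] (F : X.Modules) [Coh.IsQCoh F] :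
    Nonempty ((Scheme.Modules.pullback g).obj ((Coh.push f).obj F) ≅
      (Coh.push f').obj ((Scheme.Modules.pullback g').obj F)) := by
  haveI := Groth.Agent.S12131.result f g g' f' h F
  exact ⟨asIso (((Scheme.Modules.pullbackPushforwardAdjunction g).homEquiv ((Scheme.Modules.pushforward f).obj F)
      ((Scheme.Modules.pushforward f').obj ((Scheme.Modules.pullback g').obj F))).symm
      ((Scheme.Modules.pushforward f).map ((Scheme.Modules.pullbackPushforwardAdjunction g').unit.app F) ≫
        (Scheme.Modules.pushforwardComp g' f).hom.app ((Scheme.Modules.pullback g').obj F) ≫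
        (Scheme.Modules.pushforwardCongr h.w).hom.app ((Scheme.Modules.pullback g').obj F) ≫
        (Scheme.Modules.pushforwardComp f' g).inv.app ((Scheme.Modules.pullback g').obj F)))⟩

variable (k : Type u) [Field k]

theorem euler_freeMod {X : Scheme.{u}} [X.Over (Spec (CommRingCat.of k))]
    [IsProper (X ↘ Spec (CommRingCat.of k))] (n : ℕ) :
    Curv2.euler k X (FlatMod.freeMod X n) = n * Curv2.euler k X (Coh.structureModule X) := by
  let a : freeN X n ⟶ FlatMod.freeMod X n := desc fun i => Sigma.ι (fun _ : Fin n => Coh.structureModule X) i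
  let e : freeN X n ≅ FlatMod.freeMod X n :=
    { hom := a
      inv := Sigma.desc inj
      hom_inv_id := by
        rw [desc_comp]
        simp only [Sigma.ι_desc]
        exact desc_inj n
      inv_hom_id := Sigma.hom_ext _ _ fun i => by
        rw [Sigma.ι_desc_assoc, inj_desc]
        exact (Category.comp_id _).symm }
  rw [← Groth.L03.Euler.euler_iso e, euler_freeN]

section

variable {P Q : Scheme.{u}} [P.Over (Spec (CommRingCat.of k))] [Q.Over (Spec (CommRingCat.of k))]
  [IsProper (P ↘ Spec (CommRingCat.of k))] [IsProper (Q ↘ Spec (CommRingCat.of k))]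
  (f : P ⟶ Q) [Flat f]

/-- `χ (f^* F) - d χ F`. -/
def defect (d : ℕ) (F : Q.Modules) : ℤ :=
  Curv2.euler k P ((Scheme.Modules.pullback f).obj F) - (d : ℤ) * Curv2.euler k Q F

theorem defect_eq_zero (d e : ℕ) (he : e ≠ 0)
    (h : ∀ (Z : Scheme.{u}) (i : Z ⟶ Q) [IsClosedImmersion i] [IsIntegral Z], ∃ M : Z.Modules,
      FlatMod.IsFinLocFreeOfRank e M ∧ Coh.IsCoh ((Coh.push i).obj M) ∧ defect k f d ((Coh.push i).obj M) = 0)
    {F : Q.Modules} (hF : Coh.IsCoh F) : defect k f d F = 0 := by
  haveI := Groth.L21.RR.isNoetherian_of_proper (X := P) k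
  haveI := Groth.L21.RR.isNoetherian_of_proper (X := Q) k
  haveI := Groth.L17.CxTools.preservesFiniteLimits_pullback f
  refine EulerDev.eq_zero_of_operation (defect k f d) (fun M N ⟨i⟩ => ?_) (fun M hM => ?_)
    (fun S hS h₁ h₂ h₃ => ?_) e he h hF
  · unfold defect
    rw [Groth.L03.Euler.euler_iso i, Groth.L03.Euler.euler_iso ((Scheme.Modules.pullback f).mapIso i)]
  · unfold defect
    rw [Groth.L03.Euler.euler_of_isZero hM,
      Groth.L03.Euler.euler_of_isZero ((Scheme.Modules.pullback f).map_isZero hM)]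
    simp
  · have e1 := Groth.L03.Euler.euler_add (k := k) hS h₁ h₂ h₃
    have e2 : Curv2.euler k P ((Scheme.Modules.pullback f).obj S.X₂) =
        Curv2.euler k P ((Scheme.Modules.pullback f).obj S.X₁) +
          Curv2.euler k P ((Scheme.Modules.pullback f).obj S.X₃) :=
      Groth.L03.Euler.euler_add (k := k)
        (S := ShortComplex.mk ((Scheme.Modules.pullback f).map S.f) ((Scheme.Modules.pullback f).map S.g)
          (by rw [← Functor.map_comp, S.zero, Functor.map_zero]))
        (hS.map_of_exact (Scheme.Modules.pullback f))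
        (Groth.L16.AffineBC.isCoh_pullback f h₁) (Groth.L16.AffineBC.isCoh_pullback f h₂)
        (Groth.L16.AffineBC.isCoh_pullback f h₃)
    unfold defect
    rw [e1, e2]
    ring

variable [IsFinite f] (hf : f ≫ (Q ↘ Spec (CommRingCat.of k)) = P ↘ Spec (CommRingCat.of k))

include hf in
/-- A morphism with free direct image multiplies Euler characteristics. -/
theorem euler_pullback_of_free (d : ℕ) (hfree : Nonempty ((Coh.push f).obj (Coh.structureModule P) ≅ FlatMod.freeMod Q d))
    {F : Q.Modules} (hF : Coh.IsCoh F) :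
    Curv2.euler k P ((Scheme.Modules.pullback f).obj F) = (d : ℤ) * Curv2.euler k Q F := by
  refine sub_eq_zero.1 (defect_eq_zero k f d 1 one_ne_zero (fun Z i _ _ => ?_) hF)
  haveI := Groth.L21.RR.isNoetherian_of_proper (X := P) k
  haveI := Groth.L21.RR.isNoetherian_of_proper (X := Q) k
  letI : Z.Over (Spec (CommRingCat.of k)) := ⟨i ≫ Q ↘ Spec (CommRingCat.of k)⟩
  haveI : IsProper (Z ↘ Spec (CommRingCat.of k)) := inferInstanceAs (IsProper (i ≫ Q ↘ Spec (CommRingCat.of k)))
  haveI := Groth.L21.RR.isNoetherian_of_proper (X := Z) k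
  haveI : Coh.IsQCoh (Coh.structureModule Z) := Groth.L16.CohClosedPush.isCoh_structure.1
  haveI : Coh.IsQCoh (Coh.structureModule P) := Groth.L16.CohClosedPush.isCoh_structure.1
  refine ⟨Coh.structureModule Z, Groth.L19.ProjBdl.isFinLocFreeOfRank_one_structureModule,
    Groth.L16.CohClosedPush.isCoh_push i Groth.L16.CohClosedPush.isCoh_structure, ?_⟩
  let Z' := pullback i f
  let i' : Z' ⟶ P := pullback.snd i f
  let h : Z' ⟶ Z := pullback.fst i f
  have sq : IsPullback h i' i f := IsPullback.of_hasPullback i f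
  letI : Z'.Over (Spec (CommRingCat.of k)) := ⟨i' ≫ P ↘ Spec (CommRingCat.of k)⟩
  haveI : IsProper (Z' ↘ Spec (CommRingCat.of k)) := inferInstanceAs (IsProper (i' ≫ P ↘ Spec (CommRingCat.of k)))
  haveI := Groth.L21.RR.isNoetherian_of_proper (X := Z') k
  haveI : P.IsSeparated := ⟨by rw [← terminal.comp_from (P ↘ Spec (CommRingCat.of k))]; infer_instance⟩
  haveI : Q.IsSeparated := ⟨by rw [← terminal.comp_from (Q ↘ Spec (CommRingCat.of k))]; infer_instance⟩
  haveI : Z.IsSeparated := ⟨by rw [← terminal.comp_from (Z ↘ Spec (CommRingCat.of k))]; infer_instance⟩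
  haveI : Coh.IsQCoh (Coh.structureModule Z') := Groth.L16.CohClosedPush.isCoh_structure.1
  obtain ⟨e₁⟩ := nonempty_bc i f h i' sq (Coh.structureModule Z)
  obtain ⟨e₂⟩ := nonempty_bc f i i' h sq.flip (Coh.structureModule P)
  obtain ⟨ef⟩ := hfree
  let e₃ : (Coh.push h).obj (Coh.structureModule Z') ≅ FlatMod.freeMod Z d :=
    (Coh.push h).mapIso (Groth.L29.LocFree.pullbackUnitIso i').symm ≪≫ e₂.symm ≪≫
      (Scheme.Modules.pullback i).mapIso ef ≪≫ Groth.L29.LocFree.pullbackFreeIso i d
  have hh : h ≫ (Z ↘ Spec (CommRingCat.of k)) = Z' ↘ Spec (CommRingCat.of k) := by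
    show h ≫ i ≫ _ = i' ≫ _
    rw [← hf, ← Category.assoc, ← Category.assoc, sq.w]
  unfold defect
  rw [Groth.L03.Euler.euler_iso (e₁ ≪≫ (Coh.push i').mapIso (Groth.L29.LocFree.pullbackUnitIso h)),
    Groth.L03.Euler.euler_push (k := k) i' _ Groth.L16.CohClosedPush.isCoh_structure.1 rfl,
    ← Groth.L03.Euler.euler_push (k := k) h _ Groth.L16.CohClosedPush.isCoh_structure.1 hh,
    Groth.L03.Euler.euler_iso e₃, euler_freeMod,
    Groth.L03.Euler.euler_push (k := k) i _ Groth.L16.CohClosedPush.isCoh_structure.1 rfl]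
  ring

end

variable {X Y : Scheme.{u}} [X.Over (Spec (CommRingCat.of k))] [Y.Over (Spec (CommRingCat.of k))]
  [IsProper (X ↘ Spec (CommRingCat.of k))] [IsProper (Y ↘ Spec (CommRingCat.of k))]
  (f : X ⟶ Y) [IsFinite f] [Flat f] (hf : f ≫ (Y ↘ Spec (CommRingCat.of k)) = X ↘ Spec (CommRingCat.of k))
  {P : Scheme.{u}} (p q : P ⟶ X) (hsq : IsPullback p q f f)

include hf hsq in
/-- A finite flat cover with trivial fibre square multiplies Euler characteristics by its degree. -/
theorem euler_pullback (d : ℕ) (hd0 : d ≠ 0) (hd : ∀ y, f.finrank y = d)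
    (hfree : Nonempty ((Coh.push q).obj (Coh.structureModule P) ≅ FlatMod.freeMod X d))
    {F : Y.Modules} (hF : Coh.IsCoh F) :
    Curv2.euler k X ((Scheme.Modules.pullback f).obj F) = (d : ℤ) * Curv2.euler k Y F := by
  refine sub_eq_zero.1 (defect_eq_zero k f d d hd0 (fun Z i _ _ => ?_) hF)
  haveI := Groth.L21.RR.isNoetherian_of_proper (X := X) k
  haveI := Groth.L21.RR.isNoetherian_of_proper (X := Y) k
  haveI : IsLocallyNoetherian Z := LocallyOfFiniteType.isLocallyNoetherian i
  haveI : X.IsSeparated := ⟨by rw [← terminal.comp_from (X ↘ Spec (CommRingCat.of k))]; infer_instance⟩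
  haveI : Y.IsSeparated := ⟨by rw [← terminal.comp_from (Y ↘ Spec (CommRingCat.of k))]; infer_instance⟩
  haveI : IsFinite q := MorphismProperty.of_isPullback hsq inferInstance
  haveI : Flat q := MorphismProperty.of_isPullback hsq inferInstance
  haveI : IsFinite p := MorphismProperty.of_isPullback hsq.flip inferInstance
  letI : P.Over (Spec (CommRingCat.of k)) := ⟨q ≫ X ↘ Spec (CommRingCat.of k)⟩
  haveI : IsProper (P ↘ Spec (CommRingCat.of k)) := inferInstanceAs (IsProper (q ≫ X ↘ Spec (CommRingCat.of k)))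
  have hp : p ≫ (X ↘ Spec (CommRingCat.of k)) = P ↘ Spec (CommRingCat.of k) := by
    show _ = q ≫ _
    rw [← hf, ← Category.assoc, ← Category.assoc, hsq.w]
  haveI := Groth.L21.RR.isNoetherian_of_proper (X := P) k
  haveI : LocallyOfFinitePresentation f := LocallyOfFinitePresentation.iff_locallyOfFiniteType.2 inferInstance
  haveI : Coh.IsQCoh (Coh.structureModule Z) := Groth.L16.CohClosedPush.isCoh_structure.1
  let W := pullback i f
  let i' : W ⟶ X := pullback.snd i f
  let h : W ⟶ Z := pullback.fst i f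
  have sq : IsPullback h i' i f := IsPullback.of_hasPullback i f
  haveI : IsLocallyNoetherian W := LocallyOfFiniteType.isLocallyNoetherian i'
  haveI : IsFinite h := MorphismProperty.of_isPullback sq.flip inferInstance
  haveI : Flat h := MorphismProperty.of_isPullback sq.flip inferInstance
  haveI : LocallyOfFinitePresentation h := MorphismProperty.of_isPullback sq.flip inferInstance
  let M := (Coh.push h).obj (Coh.structureModule W)
  have hM : FlatMod.IsFinLocFreeOfRank d M := Groth.L27.Deg.isFinLocFreeOfRank_push h fun z =>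
    (Scheme.Hom.finrank_of_isPullback _ _ _ _ sq.flip z).trans (hd _)
  have hMc : Coh.IsCoh M := Groth.L16.Exist.isCoh_pushforward h Groth.L16.CohClosedPush.isCoh_structure
  refine ⟨M, hM, Groth.L16.CohClosedPush.isCoh_push i hMc, ?_⟩
  -- the module is a direct image from `X`
  let G := (Coh.push i).obj (Coh.structureModule Z)
  have hG : Coh.IsCoh G := Groth.L16.CohClosedPush.isCoh_push i Groth.L16.CohClosedPush.isCoh_structure
  haveI := hG.1
  let H := (Scheme.Modules.pullback f).obj G
  have hH : Coh.IsCoh H := Groth.L16.AffineBC.isCoh_pullback f hG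
  haveI := hH.1
  haveI : Coh.IsQCoh ((Scheme.Modules.pullback q).obj H) := Groth.L16.AffineBC.isQCoh_pullback q H
  obtain ⟨e₁⟩ := nonempty_bc i f h i' sq (Coh.structureModule Z)
  let eT : (Coh.push i).obj M ≅ (Coh.push f).obj H :=
    (Scheme.Modules.pushforwardComp h i).app _ ≪≫ (Scheme.Modules.pushforwardCongr sq.w).app _ ≪≫
      ((Scheme.Modules.pushforwardComp i' f).app _).symm ≪≫
        (Coh.push f).mapIso ((Coh.push i').mapIso (Groth.L29.LocFree.pullbackUnitIso h).symm ≪≫ e₁.symm)
  obtain ⟨e₂⟩ := nonempty_bc f f p q hsq H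
  let e₃ : (Scheme.Modules.pullback p).obj H ≅ (Scheme.Modules.pullback q).obj H :=
    (Scheme.Modules.pullbackComp p f).app G ≪≫ (Scheme.Modules.pullbackCongr hsq.w).app G ≪≫
      ((Scheme.Modules.pullbackComp q f).app G).symm
  unfold defect
  rw [Groth.L03.Euler.euler_iso ((Scheme.Modules.pullback f).mapIso eT),
    Groth.L03.Euler.euler_iso (e₂ ≪≫ (Coh.push q).mapIso e₃),
    Groth.L03.Euler.euler_push (k := k) q _ inferInstance rfl,
    euler_pullback_of_free k q rfl d hfree hH, Groth.L03.Euler.euler_iso eT,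
    Groth.L03.Euler.euler_push (k := k) f _ hH.1 hf]
  ring

end Groth.Agent.Pic0.EulerPull
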