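import Groth.Agent.L22.CurveDeg.PushStalk
import Groth.Agent.L16.CohClosedPush
import Groth.Agent.L16.Devissage
import Groth.Agent.L12.FinCov.Basis
import Mathlib.RingTheory.Length

/-!
# An additive function killed by an operation of positive degree is zero
-/

set_option autoImplicit false
set_option linter.style.haveILetI false
set_option linter.unusedSectionVars false
set_option backward.isDefEq.respectTransparency false

universe u

open CategoryTheory CategoryTheory.Limits AlgebraicGeometry TopologicalSpace Opposite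

noncomputable section

namespace Groth.Agent.Pic0.EulerDev

open Groth.L16
open Groth.L12.FinCov (IsBasisOn lc rM rO exists_basisOn_of_rank)

variable {X Z : Scheme.{u}}

/-- A module of rank `d` on an integral scheme has generic length `d`. -/
theorem len_generic [IsIntegral Z] (M : Z.Modules) {d : ℕ} (hM : FlatMod.IsFinLocFreeOfRank d M) :
    CohSupport.len (genericPoint Z) M = d := by
  classical
  let η := genericPoint Z
  obtain ⟨W, b, -, hη, -, hb⟩ := exists_basisOn_of_rank hM η ⊤ trivial
  letI : Field (Z.presheaf.stalk η) := inferInstanceAs (Field Z.functionField)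
  let v : Fin d → M.presheaf.stalk η := fun i => M.presheaf.germ W η hη (b i)
  have hlc : ∀ (V : Z.Opens) (hV : η ∈ V) (h : V ≤ W) (c : Fin d → Γ(Z, V)),
      M.presheaf.germ V η hV (lc M b h c) = ∑ i, Z.presheaf.germ V η hV (c i) • v i := by
    intro V hV h c
    refine (map_sum _ _ _).trans (Finset.sum_congr rfl fun i _ => ?_)
    rw [Groth.L20.ModStalk.germ_smul]
    exact congrArg (_ • ·) (TopCat.Presheaf.germ_res_apply M.presheaf (homOfLE h) η hV (b i))
  let g := Fintype.linearCombination (Z.presheaf.stalk η) v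
  have hg : Function.Bijective g := by
    refine ⟨(injective_iff_map_eq_zero g).2 fun r hr => ?_, fun z => ?_⟩
    · choose U hU a ha using fun i => TopCat.Presheaf.exists_germ_eq (F := Z.presheaf) (x := η) (r i)
      let V : Z.Opens := W ⊓ Finset.univ.inf U
      have hV : η ∈ V := ⟨hη, by
        show η ∈ ((Finset.univ.inf U : Z.Opens) : Set Z)
        rw [TopologicalSpace.Opens.coe_finset_inf, Finset.inf_eq_iInf]
        simpa using hU⟩
      have hVU : ∀ i, V ≤ U i := fun i => inf_le_right.trans (Finset.inf_le (Finset.mem_univ i))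
      let c : Fin d → Γ(Z, V) := fun i => rO (hVU i) (a i)
      have hc : ∀ i, Z.presheaf.germ V η hV (c i) = r i := fun i =>
        (TopCat.Presheaf.germ_res_apply Z.presheaf (homOfLE (hVU i)) η hV (a i)).trans (ha i)
      have h0 : M.presheaf.germ V η hV (lc M b inf_le_left c) = M.presheaf.germ V η hV 0 := by
        rw [map_zero, hlc]
        simpa [hc, g, Fintype.linearCombination_apply] using hr
      obtain ⟨V', hV', i₁, i₂, h2⟩ := TopCat.Presheaf.germ_eq M.presheaf η hV hV _ _ h0
      have h3 : lc M b (i₁.le.trans inf_le_left) (fun i => rO i₁.le (c i)) = lc M b (i₁.le.trans inf_le_left) 0 := by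
        rw [← Groth.L12.FinCov.rM_lc b inf_le_left i₁.le c]
        refine (h2.trans (map_zero _)).trans ?_
        simp [lc]
      funext i
      have h4 := congrFun ((hb V' (i₁.le.trans inf_le_left)).1 h3) i
      rw [← hc i, ← TopCat.Presheaf.germ_res_apply Z.presheaf i₁ η hV' (c i)]
      exact (congrArg _ h4).trans (map_zero _)
    · obtain ⟨U, hU, m, rfl⟩ := TopCat.Presheaf.exists_germ_eq (F := M.presheaf) (x := η) z
      obtain ⟨c, hc⟩ := (hb (U ⊓ W) inf_le_right).2 (rM M inf_le_left m)
      refine ⟨fun i => Z.presheaf.germ (U ⊓ W) η ⟨hU, hη⟩ (c i), ?_⟩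
      rw [Fintype.linearCombination_apply, ← hlc (U ⊓ W) ⟨hU, hη⟩ inf_le_right c, hc]
      exact TopCat.Presheaf.germ_res_apply M.presheaf (homOfLE inf_le_left) η _ m
  show Module.length (Z.presheaf.stalk η) (M.presheaf.stalk η) = d
  rw [← (LinearEquiv.ofBijective g hg).length_eq, Module.length_pi_of_fintype]
  simp

/-- Pushing forward along a closed immersion keeps the generic length. -/
theorem len_push_of_rank [IsIntegral Z] (i : Z ⟶ X) [IsClosedImmersion i] (M : Z.Modules) {d : ℕ}
    (hM : FlatMod.IsFinLocFreeOfRank d M) :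
    CohSupport.len (i (genericPoint Z)) ((Coh.push i).obj M) = d := by
  let η := genericPoint Z
  haveI : IsIso (Groth.L17.ClosedPush.cHom i M η) :=
    (ConcreteCategory.isIso_iff_bijective _).2 (Groth.L17.ClosedPush.c₀_bijective i M η)
  let N := (ModuleCat.restrictScalars (Groth.L00.PullStalk.φ i η)).obj ((Groth.L00.Stk.F Z η).obj M)
  refine ((asIso (Groth.L17.ClosedPush.cHom i M η)).toLinearEquiv.length_eq).trans ?_
  letI : Algebra (X.presheaf.stalk (i η)) (Z.presheaf.stalk η) := (Groth.L00.PullStalk.φ i η).toAlgebra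
  letI : Module (X.presheaf.stalk (i η)) (M.presheaf.stalk η) := Module.compHom _ (Groth.L00.PullStalk.φ i η)
  haveI : IsScalarTower (X.presheaf.stalk (i η)) (Z.presheaf.stalk η) (M.presheaf.stalk η) :=
    IsScalarTower.of_algebraMap_smul fun _ _ => rfl
  exact (Module.length_eq_of_surjective (R := Z.presheaf.stalk η) (S := X.presheaf.stalk (i η))
    (M := M.presheaf.stalk η) (Groth.L17.ClosedPush.φ_surjective i η)).trans (len_generic M hM)

/-- An additive function killed by an operation of positive degree vanishes. -/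
theorem eq_zero_of_operation [IsNoetherian X] (δ : X.Modules → ℤ)
    (hiso : ∀ M N : X.Modules, Nonempty (M ≅ N) → δ M = δ N)
    (hzero : ∀ M : X.Modules, IsZero M → δ M = 0)
    (hadd : ∀ S : ShortComplex X.Modules, S.ShortExact → Coh.IsCoh S.X₁ → Coh.IsCoh S.X₂ → Coh.IsCoh S.X₃ →
      δ S.X₂ = δ S.X₁ + δ S.X₃)
    (d : ℕ) (hd : d ≠ 0)
    (hT : ∀ (Z : Scheme.{u}) (i : Z ⟶ X) [IsClosedImmersion i] [IsIntegral Z], ∃ M : Z.Modules,
      FlatMod.IsFinLocFreeOfRank d M ∧ Coh.IsCoh ((Coh.push i).obj M) ∧ δ ((Coh.push i).obj M) = 0)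
    {M : X.Modules} (hM : Coh.IsCoh M) : δ M = 0 := by
  suffices ∀ (T : Closeds X) (M : X.Modules), Coh.IsCoh M → CohB1.support M ⊆ T → δ M = 0 from
    this ⊤ M hM (Set.subset_univ _)
  intro T
  induction T using (wellFounded_lt (α := Closeds X)).induction with
  | _ T ih =>
    have hsmall : ∀ y ∈ T, closure ({y} : Set X) ≠ T → ∀ N : X.Modules, Coh.IsCoh N →
        CohB1.support N ⊆ closure {y} → δ N = 0 := fun y hy hne =>
      ih ⟨closure {y}, isClosed_closure⟩ (lt_of_le_of_ne
        (closure_minimal (Set.singleton_subset_iff.2 hy) T.isClosed) fun h => hne (congrArg (fun S : Closeds X => (S : Set X)) h))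
    intro M hM hs
    refine Devissage.devissage (fun N => δ N = 0) T.isClosed (fun A B h hA => (hiso A B h).symm.trans hA)
      hzero ?_ ?_ hM hs
    · intro S hS h₁ h₂ h₃ _
      have e := hadd S hS h₁ h₂ h₃
      refine ⟨?_, ?_, ?_⟩ <;> (intros; omega)
    intro y hy
    obtain ⟨Z, i, hi, hZ, hgen, hrange⟩ := CohClosedPush.exists_integral y
    haveI : IsLocallyNoetherian Z := LocallyOfFiniteType.isLocallyNoetherian i
    let G := (Coh.push i).obj (Coh.structureModule Z)
    have hG : Coh.IsCoh G := CohClosedPush.isCoh_push i CohClosedPush.isCoh_structure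
    have hlG : CohSupport.len y G = 1 := hgen ▸ CohClosedPush.len_push_structure i
    have hsG : CohB1.support G ⊆ closure {y} := (CohClosedPush.support_push_subset i _).trans hrange.le
    refine ⟨G, hG, ?_, hsG, hlG⟩
    by_cases hTy : closure ({y} : Set X) = T
    swap
    · exact hsmall y hy hTy G hG hsG
    have hprop : ∀ {N : X.Modules}, Coh.IsCoh N → CohB1.support N ⊆ closure {y} →
        ∃ n : ℕ, CohSupport.len y N = n ∧ δ N = n * δ G := by
      intro N hN hsN
      refine Devissage.devissage (fun N => ∃ n : ℕ, CohSupport.len y N = n ∧ δ N = n * δ G) isClosed_closure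
        (fun A B h ⟨n, hn, hn'⟩ => ⟨n, ?_, (hiso A B h).symm.trans hn'⟩)
        (fun A hA => ⟨0, ?_, by simpa using hzero A hA⟩) ?_ ?_ hN hsN
      · obtain ⟨e⟩ := h
        rw [← CohSupport.len_congr e, hn]
      · rw [Nat.cast_zero, CohSupport.len_eq_zero_iff]
        rw [(Groth.L21.Mod.isZero_iff_support_eq_empty A).1 hA]
        exact Set.notMem_empty _
      · intro S hS h₁ h₂ h₃ _
        have e := hadd S hS h₁ h₂ h₃
        have l := CohSupport.len_add hS y
        refine ⟨?_, ?_, ?_⟩
        · rintro ⟨a, ha, ha'⟩ ⟨b, hb, hb'⟩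
          obtain ⟨c, hc⟩ : ∃ c : ℕ, CohSupport.len y S.X₃ = c := ENat.ne_top_iff_exists.1 (fun h => by
            rw [h, add_top, hb] at l
            exact ENat.coe_ne_top _ l) |>.imp fun _ h => h.symm
          rw [ha, hb, hc] at l
          have : b = a + c := by exact_mod_cast l
          subst this
          exact ⟨c, hc, by push_cast at hb'; linarith⟩
        · rintro ⟨a, ha, ha'⟩ ⟨c, hc, hc'⟩
          exact ⟨a + c, by rw [l, ha, hc]; push_cast; rfl, by rw [e, ha', hc']; push_cast; ring⟩
        · rintro ⟨b, hb, hb'⟩ ⟨c, hc, hc'⟩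
          obtain ⟨a, ha⟩ : ∃ a : ℕ, CohSupport.len y S.X₁ = a := ENat.ne_top_iff_exists.1 (fun h => by
            rw [h, top_add, hb] at l
            exact ENat.coe_ne_top _ l) |>.imp fun _ h => h.symm
          rw [ha, hb, hc] at l
          have : b = a + c := by exact_mod_cast l
          subst this
          exact ⟨a, ha, by push_cast at hb'; linarith⟩
      · intro y' hy'
        rw [hTy] at hy'
        by_cases hyy : y' = y
        · subst hyy
          exact ⟨G, hG, ⟨1, hlG, by simp⟩, hsG, hlG⟩
        obtain ⟨Z', i', hi', hZ', hgen', hrange'⟩ := CohClosedPush.exists_integral y'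
        haveI : IsLocallyNoetherian Z' := LocallyOfFiniteType.isLocallyNoetherian i'
        let G' := (Coh.push i').obj (Coh.structureModule Z')
        have hG' : Coh.IsCoh G' := CohClosedPush.isCoh_push i' CohClosedPush.isCoh_structure
        have hsG' : CohB1.support G' ⊆ closure {y'} := (CohClosedPush.support_push_subset i' _).trans hrange'.le
        have hny : y ∉ closure ({y'} : Set X) := fun h => hyy
          ((specializes_iff_mem_closure.2 h).antisymm (specializes_iff_mem_closure.2 (hTy.ge hy'))).eq
        have hne : closure ({y'} : Set X) ≠ T := fun h => hny (h ▸ hy)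
        refine ⟨G', hG', ⟨0, ?_, by simpa using hsmall y' hy' hne G' hG' hsG'⟩, hsG', ?_⟩
        · rw [Nat.cast_zero, CohSupport.len_eq_zero_iff]
          exact fun h => hny (hsG' h)
        · exact hgen' ▸ CohClosedPush.len_push_structure i'
    obtain ⟨MT, hMT, hTc, hT0⟩ := hT Z i
    obtain ⟨n, hn, hn'⟩ := hprop hTc ((CohClosedPush.support_push_subset i _).trans hrange.le)
    rw [← hgen, len_push_of_rank i MT hMT] at hn
    have hdn : d = n := by exact_mod_cast hn
    rw [hT0, ← hdn] at hn'
    exact (mul_eq_zero.1 hn'.symm).resolve_left (by exact_mod_cast hd)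

end Groth.Agent.Pic0.EulerDev
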