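import Groth.Agent.L26.Pic0.Support
import Groth.Agent.L16.BaseChange.Amplitude

/-!
# Vanishing of all higher direct images kills the cohomology of every fibre
-/

set_option autoImplicit false
set_option linter.style.haveILetI false
set_option linter.unusedSectionVars false
set_option backward.isDefEq.respectTransparency false

universe u

open CategoryTheory CategoryTheory.Limits AlgebraicGeometry TopologicalSpace Opposite

noncomputable section

namespace Groth.Agent.Pic0

variable {X Y : Scheme.{u}} (f : X ⟶ Y) [IsProper f] [IsLocallyNoetherian Y]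

/-- If all higher direct images of a flat coherent module vanish, so does the cohomology of its fibres. -/
theorem subsingleton_fiberH_of_isZero [HasInjectiveResolutions X.Modules] (M : X.Modules) (hM : Coh.IsCoh M)
    (hfl : FlatMod.IsFlatOver f M) (h : ∀ p, IsZero ((Coh.Rpush f p).obj M)) (y : Y) (p : ℕ) :
    Subsingleton (CohIII.fiberH f M y p) := by
  obtain ⟨_, ⟨V, hV, rfl⟩, hyV, -⟩ :=
    Y.isBasis_affineOpens.exists_subset_of_mem_open (Set.mem_univ y) isOpen_univ
  haveI : IsNoetherianRing Γ(Y, V) := IsLocallyNoetherian.component_noetherian ⟨V, hV⟩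
  obtain ⟨l⟩ := Groth.L17.BC.nonempty_local f hV M hM hfl
  have hflat : ∀ i, Module.Flat Γ(Y, V) (l.L.X i) := fun i =>
    haveI := (l.finiteFree i).2
    inferInstance
  have hex : ∀ i, IsZero (l.L.homology i) := fun i => by
    rcases lt_or_ge i 0 with hi | hi
    · haveI : Subsingleton ((CohIII.TFun l.L i).obj (ModuleCat.of Γ(Y, V) Γ(Y, V))) :=
        ModuleCat.subsingleton_of_isZero (l.isZero_neg _ i hi)
      exact @ModuleCat.isZero_of_subsingleton _ _ _ (Groth.L01.FlatCx.unitEquiv l.L i).symm.toEquiv.subsingleton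
    · obtain ⟨q, rfl⟩ := Int.eq_ofNat_of_zero_le hi
      obtain ⟨e⟩ := l.rpush q
      have hz : IsZero (tilde (l.L.homology (q : ℤ))) :=
        ((Scheme.Modules.restrictFunctor hV.fromSpec).map_isZero (h q)).of_iso e.symm
      rw [IsZero.iff_id_eq_zero]
      refine (tilde.functor Γ(Y, V)).map_injective ?_
      exact hz.eq_of_src _ _
  have htop : ∀ (N : ModuleCat.{u} Γ(Y, V)) (i : ℤ), l.top < i → IsZero (CohIII.T l.L i N) := fun N i hi =>
    (HomologicalComplex.exactAt_iff_isZero_homology _ _).1 (ShortComplex.exact_of_isZero_X₂ _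
      ((MonoidalCategory.tensorRight N).map_isZero (l.isZero_above i hi)))
  let x := hV.primeIdealOf ⟨y, hyV⟩
  have hd : CohIII.dRank l.L (p : ℤ) x = 0 := by
    obtain ⟨e⟩ := Groth.L16.BaseChange.exists_addEquiv_bc x.asIdeal.ResidueField l.L (p : ℤ)
    haveI := ModuleCat.subsingleton_of_isZero (Groth.L17.BC.FlatModel.isZero_T_of_exact l.L hflat hex l.top htop
      (ModuleCat.of Γ(Y, V) x.asIdeal.ResidueField) (p : ℤ))
    haveI := e.toEquiv.subsingleton
    exact Module.finrank_zero_of_subsingleton
  haveI := l.finite_fiberH y hyV p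
  exact Module.finrank_zero_iff.1 ((l.fiberRank_eq y hyV p).trans hd)

end Groth.Agent.Pic0
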