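import Groth.Agent.L26.Pic0.AmpleVanish
import Groth.Agent.L26.Pic0.FiberZero
import Groth.Agent.L17.FlatBase.CxIso
import Groth.Agent.L08.Cube.RelCubical
import Groth.Agent.L18.RelAmpleLocal
import Groth.Agent.L26.AbSch.Bilinear

/-!
# Relatively ample modules on abelian schemes have no higher cohomology on the fibres
-/

set_option autoImplicit false
set_option linter.style.haveILetI false
set_option linter.unusedSectionVars false
set_option backward.isDefEq.respectTransparency false

universe u

open CategoryTheory CategoryTheory.Limits MonoidalCategory CartesianMonoidalCategory AlgebraicGeometry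
open scoped MonObj

noncomputable section

namespace Groth.Agent.Pic0

/-- Vanishing of cohomology descends along extensions of the ground field. -/
theorem subsingleton_HH_of_field_pullback {k K : Type u} [Field k] [Field K] {P Q : Scheme.{u}}
    (f : P ⟶ Spec (CommRingCat.of k)) [IsProper f] (φ : Spec (CommRingCat.of K) ⟶ Spec (CommRingCat.of k))
    [Flat φ] {f' : Q ⟶ Spec (CommRingCat.of K)} {g : Q ⟶ P} (sq : IsPullback g f' f φ) (M : P.Modules)
    (hM : Coh.IsCoh M) (n : ℕ) (h : Subsingleton (Coh.HH Q ((Scheme.Modules.pullback g).obj M) n)) :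
    Subsingleton (Coh.HH P M n) := by
  haveI : Coh.IsQCoh M := hM.1
  haveI : HasInjectiveResolutions P.Modules := Groth.L17.PushQCoh.hasInjectiveResolutions _
  haveI : HasInjectiveResolutions Q.Modules := Groth.L17.PushQCoh.hasInjectiveResolutions _
  haveI : IsProper f' := MorphismProperty.of_isPullback sq inferInstance
  haveI := Groth.L17.CxTools.preservesFiniteLimits_pullback φ
  haveI : Coh.IsQCoh ((Scheme.Modules.pullback g).obj M) := Groth.L16.AffineBC.isQCoh_pullback _ _
  let R := (Coh.Rpush f n).obj M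
  haveI : Coh.IsQCoh R := Groth.L17.PushQCoh.isQCoh_Rpush f M n
  obtain ⟨d, ⟨eR⟩⟩ := exists_iso_freeMod R (Groth.L17.ProperCoh.finite_Γ_Rpush_spec f M hM n)
  obtain ⟨eBC⟩ := Groth.L17.CxIso.nonempty_iso (M := M) f φ g f' sq n
  have hz : IsZero (FlatMod.freeMod (Spec (CommRingCat.of K)) d) :=
    ((subsingleton_HH_iff f' _ n).1 h).of_iso
      ((Groth.L29.LocFree.pullbackFreeIso φ d).symm ≪≫ (Scheme.Modules.pullback φ).mapIso eR.symm ≪≫ eBC)
  have hd : d = 0 := eq_zero_of_subsingleton_Γ_freeMod d (subsingleton_Γ_of_isZero hz ⊤)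
  subst hd
  exact (subsingleton_HH_iff f M n).2 ((Groth.L17.BC.isZero_freeMod_zero _).of_iso eR)

variable {S : Scheme.{u}} (A : Over S) [GrpObj A] [Smooth A.hom] [IsProper A.hom] [GeometricallyConnected A.hom]
  (L : A.left.Modules) (hL : RelAmple.IsRelAmple A.hom L)

include hL in
/-- Higher cohomology of a relatively ample module vanishes on every fibre. -/
theorem subsingleton_fiberH_of_isRelAmple [IsLocallyNoetherian S] (hL' : PicF.IsInvertible L) (s : S) (j : ℕ)
    (hj : 0 < j) : Subsingleton (CohIII.fiberH A.hom L s j) := by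
  haveI : IsLocallyNoetherian A.left := LocallyOfFiniteType.isLocallyNoetherian A.hom
  let κ := S.residueField s
  let K := AlgebraicClosure κ
  let ψ : Spec (CommRingCat.of K) ⟶ Spec κ := Spec.map (CommRingCat.ofHom (algebraMap κ K))
  haveI : Flat ψ := by
    rw [HasRingHomProperty.Spec_iff (P := @Flat)]
    exact RingHom.flat_algebraMap_iff.2 inferInstance
  let q := ψ ≫ S.fromSpecResidueField s
  let X := Red.bc q A
  let pr : X.left ⟶ A.left := pullback.fst A.hom q
  haveI : IsProper X.hom := inferInstanceAs (IsProper (pullback.snd A.hom q))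
  haveI : Smooth X.hom := inferInstanceAs (Smooth (pullback.snd A.hom q))
  haveI : GeometricallyConnected X.hom := inferInstanceAs (GeometricallyConnected (pullback.snd A.hom q))
  haveI : GeometricallyReduced X.hom := Groth.Agent.AV.geometricallyReduced_of_smooth X.hom
  haveI : GeometricallyIntegral X.hom := Groth.L08.Cube.geometricallyIntegral_of_group X
  haveI : IsCommMonObj X := isCommMonObj_of_isProper_of_geometricallyIntegral X
  -- ampleness on the geometric fibre
  obtain ⟨V, hV, hsV, -⟩ := exists_isAffineOpen_mem_and_subset (x := s) (U := (⊤ : S.Opens)) trivial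
  haveI : IsAffine V.toScheme := hV
  have hqV : Set.range q ⊆ Set.range V.ι := by
    rintro _ ⟨z, rfl⟩
    rw [Scheme.Opens.range_ι]
    exact ((Scheme.Hom.comp_apply ψ (S.fromSpecResidueField s) z).trans (Scheme.fromSpecResidueField_apply _ _)).symm ▸ hsV
  let q' := IsOpenImmersion.lift V.ι q hqV
  have hq' : q' ≫ V.ι = q := IsOpenImmersion.lift_fac _ _ _
  have hprV : Set.range pr ⊆ Set.range (A.hom ⁻¹ᵁ V).ι := by
    rintro _ ⟨z, rfl⟩
    rw [Scheme.Opens.range_ι]
    show A.hom (pr z) ∈ V
    rw [← Scheme.Hom.comp_apply, show pr ≫ A.hom = X.hom ≫ q from pullback.condition, Scheme.Hom.comp_apply]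
    exact (Scheme.Opens.range_ι V).le (hqV ⟨_, rfl⟩)
  let g := IsOpenImmersion.lift (A.hom ⁻¹ᵁ V).ι pr hprV
  have hg : g ≫ (A.hom ⁻¹ᵁ V).ι = pr := IsOpenImmersion.lift_fac _ _ _
  haveI : IsAffineHom g := by
    have big : IsPullback (g ≫ (A.hom ⁻¹ᵁ V).ι) X.hom A.hom (q' ≫ V.ι) := by
      rw [hg, hq']
      exact IsPullback.of_hasPullback A.hom q
    have w : g ≫ (A.hom ∣_ V) = X.hom ≫ q' := by
      rw [← cancel_mono V.ι, Category.assoc, morphismRestrict_ι, Category.assoc, hq', ← Category.assoc, hg]
      exact pullback.condition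
    exact MorphismProperty.of_isPullback (IsPullback.of_right big w (isPullback_morphismRestrict A.hom V).flip).flip
      inferInstance
  let M := (Scheme.Modules.pullback pr).obj L
  have hM : CohB1.IsAmple M := Groth.L18.Ample.isAmple_of_iso
    ((Scheme.Modules.pullback g).mapIso ((Scheme.Modules.restrictFunctorIsoPullback _).app L) ≪≫
      (Scheme.Modules.pullbackComp g (A.hom ⁻¹ᵁ V).ι).app L ≪≫ (Scheme.Modules.pullbackCongr hg).app L)
    (Groth.L18.Ample.isAmple_pullback_of_isAffineHom g (hL.2 ⟨V, hV⟩))
  have hv := (cohomology_of_isAmple M hM).1 j hj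
  -- descent to the fibre
  let r : X.left ⟶ A.hom.fiber s :=
    pullback.lift pr (X.hom ≫ ψ) (by rw [Category.assoc]; exact pullback.condition)
  have hr : r ≫ A.hom.fiberι s = pr := pullback.lift_fst _ _ _
  have sq : IsPullback r X.hom (A.hom.fiberToSpecResidueField s) ψ := by
    refine IsPullback.of_right ?_ (pullback.lift_snd _ _ _) (IsPullback.of_hasPullback A.hom (S.fromSpecResidueField s))
    rw [show r ≫ pullback.fst A.hom (S.fromSpecResidueField s) = pr from hr]
    exact IsPullback.of_hasPullback A.hom q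
  haveI : IsProper (A.hom.fiberToSpecResidueField s) :=
    inferInstanceAs (IsProper (pullback.snd A.hom (S.fromSpecResidueField s)))
  haveI : IsLocallyNoetherian (A.hom.fiber s) :=
    LocallyOfFiniteType.isLocallyNoetherian (A.hom.fiberToSpecResidueField s)
  refine subsingleton_HH_of_field_pullback (A.hom.fiberToSpecResidueField s) ψ sq (CohIII.fiberMod A.hom L s)
    (Groth.L18.Ample.isCoh_of_isInvertible (Groth.L18.Ample.isInvertible_pullback _ hL')) j ?_
  exact subsingleton_HH_congr ((Scheme.Modules.pullbackCongr hr.symm).app L ≪≫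
    ((Scheme.Modules.pullbackComp r (A.hom.fiberι s)).app L).symm) j hv

end Groth.Agent.Pic0
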