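import Groth.Agent.L26.Pic0.NonDeg
import Groth.Agent.L26.Poincare.RosatiAlg
import Groth.Agent.L08.Cube.NPull

/-!
# Algebraic equivalence to zero and translation invariance on an abelian variety
-/

set_option autoImplicit false
set_option linter.style.haveILetI false
set_option linter.unusedSectionVars false
set_option backward.isDefEq.respectTransparency false

universe u

open CategoryTheory CategoryTheory.Limits MonoidalCategory CartesianMonoidalCategory AlgebraicGeometry
open scoped MonObj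

noncomputable section

namespace Groth.Agent.Pic0

open Groth.Agent.AV Groth.Agent.Poincare Groth.Agent.Poincare.Rosati Groth.Agent.Poincare.Orth DegreeForm
open Groth.L08.Cube (trK pc kpt slice pullCl_mul pullCl_one pullCl_pc isInvertibleCl_pc exists_inverseCl)

attribute [local instance] Groth.L08.Cube.clMonoid InterPic.picLaw

variable {K : Type u} [Field K] [IsAlgClosed K] {A : Over (Spec (CommRingCat.of K))} [GrpObj A]
  [IsCommMonObj A] [IsProper A.hom] [GeometricallyIntegral A.hom]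

theorem fixed_iff_bil (M : A.left.Modules) (hM : PicF.IsInvertible M) (a : 𝟙_ (Over (Spec (CommRingCat.of K))) ⟶ A) :
    pc M (trK a) = PicF.cl M ↔ Orth.bil M hM (𝟙 A) (toUnit A ≫ a) = 0 := by
  constructor
  · intro h
    have h' : F M hM (trK a) = F M hM (𝟙 A) := ext_val (h.trans (pc_id M).symm)
    rwa [F_trK, add_eq_right] at h'
  · intro h
    have h' := F_trK M hM a
    rw [h, zero_add] at h'
    exact (congrArg (fun z => (Additive.toMul z).1) h').trans (pc_id M)

theorem fixed_of_algEquiv (M : A.left.Modules) (hM : PicF.IsInvertible M) (h : Pic13.IsAlgEquivZero K A.left M)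
    (a : 𝟙_ (Over (Spec (CommRingCat.of K))) ⟶ A) : pc M (trK a) = PicF.cl M :=
  (fixed_iff_bil M hM a).2 (RosatiAlg.bil_eq_zero_of_algEquiv M hM h _ _)

/-- Differences of translates are algebraically equivalent to zero. -/
theorem isAlgEquivZero_translate_diff (L N M : A.left.Modules) (hL : PicF.IsInvertible L) (hN : PicF.IsInvertible N)
    (hLN : PicF.cl L * PicF.cl N = 1) (a : 𝟙_ (Over (Spec (CommRingCat.of K))) ⟶ A)
    (h : PicF.cl M = pc L (trK a) * PicF.cl N) : Pic13.IsAlgEquivZero K A.left M := by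
  haveI : AlgebraicGeometry.IsIntegral A.left := GeometricallyIntegral.isIntegral_of_subsingleton A.hom
  obtain ⟨P, hP, hPinv⟩ : PicF.IsInvertibleCl (pc L μ[A] * pc N (fst A A) * pc N (snd A A)) :=
    Groth.Agent.AbDualLib.isInvertibleCl_mulCl (Groth.Agent.AbDualLib.isInvertibleCl_mulCl
      (isInvertibleCl_pc L hL _) (isInvertibleCl_pc N hN _)) (isInvertibleCl_pc N hN _)
  have hs : ∀ x : 𝟙_ (Over (Spec (CommRingCat.of K))) ⟶ A,
      PicF.pullCl (slice A x).left (PicF.cl P) = pc L (trK x) * PicF.cl N := fun x => by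
    rw [hP, pullCl_mul, pullCl_mul, pullCl_pc, pullCl_pc, pullCl_pc, show μ[A] = fst A A * snd A A by
      simp [Hom.mul_def], MonObj.comp_mul, lift_fst, lift_snd, pc_const N hN, _root_.mul_one, pc_id]
  have e : ∀ (x : 𝟙_ (Over (Spec (CommRingCat.of K))) ⟶ A),
      Pic13.sliceAt K A.left A.hom x.left (Over.w x) = (slice A x).left := fun x => by
    apply (Groth.L08.Cube.isPullback_prod A A).hom_ext
    · rw [← Over.comp_left, lift_fst, Over.id_left]
      exact pullback.lift_fst _ _ _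
    · rw [← Over.comp_left, lift_snd]
      exact (pullback.lift_snd _ _ _).trans rfl
  refine ⟨A.left, A.hom, inferInstance, inferInstance, inferInstance, P, hPinv, a.left,
    (1 : 𝟙_ (Over (Spec (CommRingCat.of K))) ⟶ A).left, Over.w a, Over.w (1 : 𝟙_ (Over (Spec (CommRingCat.of K))) ⟶ A),
    (PicGrp.cl_eq_cl_iff _ _).1 ?_, (PicGrp.cl_eq_cl_iff _ _).1 ?_⟩
  · show PicF.pullCl (Pic13.sliceAt K A.left A.hom a.left (Over.w a)) (PicF.cl P) = _
    rw [e, hs, h]
  · show PicF.pullCl (Pic13.sliceAt K A.left A.hom (1 : 𝟙_ (Over (Spec (CommRingCat.of K))) ⟶ A).left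
      (Over.w (1 : 𝟙_ (Over (Spec (CommRingCat.of K))) ⟶ A))) (PicF.cl P) = _
    rw [e, hs, trK_one, pc_id, hLN]
    rfl

/-- Translation invariant modules are algebraically equivalent to zero. -/
theorem isAlgEquivZero_of_fixed (M : A.left.Modules) (hM : PicF.IsInvertible M)
    (hM0 : ∀ x, pc M (trK x) = PicF.cl M) : Pic13.IsAlgEquivZero K A.left M := by
  obtain ⟨L, hL⟩ := Degree.exists_isAmple A
  obtain ⟨b, ⟨N, rfl, hN⟩, hLN⟩ := exists_inverseCl (⟨L, rfl, hL.1⟩ : PicF.IsInvertibleCl (PicF.cl L))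
  obtain ⟨a, ha⟩ := exists_translate_of_isAmple L N M hL hN hLN hM hM0
  exact isAlgEquivZero_translate_diff L N M hL.1 hN hLN a ha

/-- A module with an algebraically trivial power is translation invariant. -/
theorem fixed_of_tau (M : A.left.Modules) (hM : PicF.IsInvertible M) (h : Pic13.IsTauEquivZero K A.left M)
    (a : 𝟙_ (Over (Spec (CommRingCat.of K))) ⟶ A) : pc M (trK a) = PicF.cl M := by
  obtain ⟨n, hn, hn'⟩ := h
  have hP := Groth.L18.Ample.isInvertible_tensorPow hM n
  have hF : ∀ {W : Over (Spec (CommRingCat.of K))} (φ : W ⟶ A),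
      F (CohB1.tensorPow M n) hP φ = n • F M hM φ := fun {W} φ => ext_val (by
    show PicF.pullCl φ.left (PicF.cl (CohB1.tensorPow M n)) = (n • F M hM φ).toMul.1
    rw [val_nsmul, Groth.L08.Cube.cl_tensorPow]
    exact map_pow (⟨⟨PicF.pullCl φ.left, pullCl_one _⟩, pullCl_mul _⟩ : PicF.Cl A.left →* PicF.Cl W.left) (PicF.cl M) n)
  obtain ⟨a', rfl⟩ : ∃ a' : 𝟙_ (Over (Spec (CommRingCat.of K))) ⟶ A, a' ^ n = a := by
    obtain ⟨_, _, hs, _⟩ := Degree.isogeny_pow (A := A) hn
    haveI := hs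
    haveI : JacobsonSpace A.left := LocallyOfFiniteType.jacobsonSpace A.hom
    obtain ⟨x, hx⟩ := (𝟙 A ^ n).left.surjective (kpt a)
    obtain ⟨z, hz, hzc⟩ := nonempty_inter_closedPoints (Z := (𝟙 A ^ n).left ⁻¹' {kpt a}) ⟨x, hx⟩
      ((Groth.L08.Cube.isClosed_kpt a).preimage (𝟙 A ^ n).left.continuous).isLocallyClosed
    obtain ⟨a', rfl⟩ := Groth.L08.Cube.exists_kpt z (mem_closedPoints_iff.1 hzc)
    refine ⟨a', ?_⟩
    have h2 : a' ≫ (𝟙 A ^ n) = a := Groth.L08.Cube.kpt_injective
      ((Scheme.Hom.comp_apply a'.left (𝟙 A ^ n).left _).trans hz)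
    rwa [MonObj.comp_pow, Category.comp_id] at h2
  refine (fixed_iff_bil M hM _).2 ?_
  rw [MonObj.comp_pow, Orth.bil_pow_right]
  have h0 := RosatiAlg.bil_eq_zero_of_algEquiv (CohB1.tensorPow M n) hP hn' (𝟙 A) (toUnit A ≫ a')
  show n • (F M hM (𝟙 A * (toUnit A ≫ a')) - F M hM (𝟙 A) - F M hM (toUnit A ≫ a')) = 0
  rw [smul_sub, smul_sub, ← hF, ← hF, ← hF]
  exact h0

end Groth.Agent.Pic0
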