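import Groth.Agent.L26.Pic0.Edge
import Groth.Agent.L17.ProjFormula
import Groth.Agent.L17.BC.Fibre
import Groth.Agent.L17.AffinePush
import Groth.Agent.L19.LocFreeDescent
import Groth.Agent.L21.RR.Sections

/-!
# Transport of cohomology along isomorphisms, and modules over a field
-/

set_option autoImplicit false
set_option linter.style.haveILetI false
set_option linter.unusedSectionVars false
set_option backward.isDefEq.respectTransparency false

universe u

open CategoryTheory CategoryTheory.Limits AlgebraicGeometry Opposite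

noncomputable section

namespace Groth.Agent.Pic0

open Groth.L00.Tensor

/-- Direct image along an isomorphism is an equivalence. -/
theorem isEquivalence_push {P Q : Scheme.{u}} (φ : P ⟶ Q) [IsIso φ] :
    (Scheme.Modules.pushforward φ).IsEquivalence :=
  Functor.IsEquivalence.mk' (Scheme.Modules.pushforward (inv φ))
    (((Scheme.Modules.pushforwardComp φ (inv φ)) ≪≫ Scheme.Modules.pushforwardCongr (IsIso.hom_inv_id φ) ≪≫
      Scheme.Modules.pushforwardId P).symm)
    ((Scheme.Modules.pushforwardComp (inv φ) φ) ≪≫ Scheme.Modules.pushforwardCongr (IsIso.inv_hom_id φ) ≪≫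
      Scheme.Modules.pushforwardId Q)

/-- Cohomology is invariant under isomorphisms of schemes. -/
theorem nonempty_HH_pullback {P Q : Scheme.{u}} (φ : P ⟶ Q) [IsIso φ] (K : Q.Modules) (n : ℕ) :
    Nonempty (Coh.HH P ((Scheme.Modules.pullback φ).obj K) n ≃+ Coh.HH Q K n) := by
  haveI := isEquivalence_push φ
  haveI := (Scheme.Modules.pullbackPushforwardAdjunction φ).isEquivalence_left_of_isEquivalence_right
  haveI : IsIso ((Scheme.Modules.pullbackPushforwardAdjunction φ).unit.app K) := inferInstance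
  obtain ⟨e⟩ := Groth.L17.nonempty_HH_push_of_isClosedImmersion φ ((Scheme.Modules.pullback φ).obj K) n
  exact ⟨e.trans (Groth.L17.BC.HHequiv (asIso ((Scheme.Modules.pullbackPushforwardAdjunction φ).unit.app K)) n).toAddEquiv.symm⟩

theorem subsingleton_HH_congr {P : Scheme.{u}} {M N : P.Modules} (e : M ≅ N) (n : ℕ)
    (h : Subsingleton (Coh.HH P M n)) : Subsingleton (Coh.HH P N n) :=
  (Groth.L17.BC.HHequiv e n).toAddEquiv.symm.toEquiv.subsingleton

theorem subsingleton_Γ_iff {P : Scheme.{u}} (M : P.Modules) :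
    Subsingleton Γ(M, ⊤) ↔ Subsingleton (Coh.HH P M 0) :=
  (Groth.L21.RR.e0 M).toEquiv.subsingleton_congr.symm

theorem isZero_tensorMod_left {X : Scheme.{u}} {N Z : X.Modules} (hN : FlatMod.IsFinLocFree N) (hZ : IsZero Z) :
    IsZero (CohB1.tensorMod Z N) := by
  haveI := Groth.L17.Duality.hasSheafHom N
  haveI : (tensorRightF N).IsRightAdjoint := (Groth.L17.Duality.dualAdj N hN).isRightAdjoint
  exact (tensorRightF N).map_isZero hZ

theorem isZero_tensorMod_right {X : Scheme.{u}} {N Z : X.Modules} (hN : FlatMod.IsFinLocFree N) (hZ : IsZero Z) :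
    IsZero (CohB1.tensorMod N Z) :=
  (isZero_tensorMod_left hN hZ).of_iso (tensorComm N Z)

variable {k : Type u} [Field k]

/-- A quasi-coherent module over a field with finite dimensional sections is free. -/
theorem exists_iso_freeMod (R : (Spec (CommRingCat.of k)).Modules) [Coh.IsQCoh R]
    (hR : Module.Finite k ((moduleSpecΓFunctor (R := CommRingCat.of k)).obj R)) :
    ∃ d : ℕ, Nonempty (R ≅ FlatMod.freeMod (Spec (CommRingCat.of k)) d) := by
  let M := (moduleSpecΓFunctor (R := CommRingCat.of k)).obj R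
  haveI : Module.Finite k M := hR
  let b := Module.finBasis k M
  let e : M ≅ ModuleCat.of (CommRingCat.of k) (ULift.{u} (Fin (Module.finrank k M)) →₀ (CommRingCat.of k)) :=
    (b.repr.trans (Finsupp.domLCongr Equiv.ulift.symm)).toModuleIso
  exact ⟨_, ⟨(Groth.L18.TildeF.counitIso R).symm ≪≫ (tilde.functor (CommRingCat.of k)).mapIso e ≪≫
    Groth.L19.PullChart.freeTildeIso (CommRingCat.of k) _⟩⟩

/-- A free module without sections on a scheme with a point has rank zero. -/
theorem eq_zero_of_subsingleton_Γ_freeMod {X : Scheme.{u}} [Nonempty X] (d : ℕ)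
    (h : Subsingleton Γ(FlatMod.freeMod X d, ⊤)) : d = 0 := by
  by_contra hd
  let i : Fin d := ⟨0, Nat.pos_of_ne_zero hd⟩
  let a : Coh.structureModule X ⟶ FlatMod.freeMod X d := Sigma.ι (fun _ : Fin d => Coh.structureModule X) i
  let b : FlatMod.freeMod X d ⟶ Coh.structureModule X := Sigma.desc fun _ => 𝟙 _
  have hab : a ≫ b = 𝟙 _ := by simp [a, b]
  have h1 : (a ≫ b).app ⊤ (1 : Γ(X, ⊤)) = (1 : Γ(X, ⊤)) := by rw [hab]; rfl
  have h2 : (a ≫ b).app ⊤ (1 : Γ(X, ⊤)) = b.app ⊤ (a.app ⊤ (1 : Γ(X, ⊤))) := rfl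
  rw [Subsingleton.elim (a.app ⊤ (1 : Γ(X, ⊤))) 0, map_zero] at h2
  haveI : Nonempty ((⊤ : X.Opens) : Scheme.{u}) := ⟨⟨Nonempty.some inferInstance, trivial⟩⟩
  exact one_ne_zero (α := Γ(X, ⊤)) (h1.symm.trans h2)

end Groth.Agent.Pic0
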