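import Groth.Prelude.Def_AbDual
import Groth.Prelude.Def_FGA
import Groth.Agent.S1026
import Groth.Agent.L12.CurveFam.R1
import Groth.Agent.L26.Pic0.Support
import Groth.Agent.L23.FibreDimBC
import Groth.Agent.L07.FibreDimSemi
import Groth.Agent.L17.Strat.Hilbert
import Groth.Agent.L21.RR.BaseChange
import Groth.Agent.L18.FibrePoints
import Groth.Agent.L18.AmplePull
import Groth.Agent.L18.AmpleGG

/-!
# The degree on the fibres of a family of curves
-/

set_option autoImplicit false
set_option linter.style.haveILetI false
set_option linter.unusedSectionVars false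
set_option backward.isDefEq.respectTransparency false
set_option backward.isDefEq.respectTransparency.types false

universe u

open CategoryTheory CategoryTheory.Limits AlgebraicGeometry

noncomputable section

namespace Groth.Agent.DegreeFun

variable {X S : Scheme.{u}} (q : X ⟶ S)

/-- The degree on a fibre. -/
def deg (L : X.Modules) (s : S) : ℤ :=
  letI : (q.fiber s).Over (Spec (CommRingCat.of (S.residueField s))) := ⟨q.fiberToSpecResidueField s⟩
  FGA.eulerCharLE (S.residueField s) (q.fiber s) ((Scheme.Modules.pullback (q.fiberι s)).obj L) 1 -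
    FGA.eulerCharLE (S.residueField s) (q.fiber s) (Coh.structureModule (q.fiber s)) 1

theorem deg_congr {L L' : X.Modules} (e : L ≅ L') (s : S) : deg q L s = deg q L' s := by
  letI : (q.fiber s).Over (Spec (CommRingCat.of (S.residueField s))) := ⟨q.fiberToSpecResidueField s⟩
  rw [deg, deg, Groth.L17.Strat.eulerCharLE_iso ((Scheme.Modules.pullback (q.fiberι s)).mapIso e)]

/-- The degree does not change under base change. -/
theorem deg_baseChange {X' S' : Scheme.{u}} {q' : X' ⟶ S'} {g' : X' ⟶ X} {g : S' ⟶ S} [IsProper q]
    (sq : IsPullback g' q' q g) {L : X.Modules} (hL : PicF.IsInvertible L) (s' : S') :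
    deg q' ((Scheme.Modules.pullback g').obj L) s' = deg q L (g s') := by
  obtain ⟨p, hp, hpι⟩ := Groth.L18.FP.exists_fiberMap q sq s'
  letI : (q.fiber (g s')).Over (Spec (CommRingCat.of (S.residueField (g s')))) :=
    ⟨q.fiberToSpecResidueField (g s')⟩
  letI : (q'.fiber s').Over (Spec (CommRingCat.of (S'.residueField s'))) := ⟨q'.fiberToSpecResidueField s'⟩
  haveI : IsProper (q.fiber (g s') ↘ Spec (CommRingCat.of (S.residueField (g s')))) :=
    inferInstanceAs (IsProper (pullback.snd q _))
  haveI := Groth.L21.RR.isNoetherian_of_proper (X := q.fiber (g s')) (S.residueField (g s'))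
  letI : Algebra (S.residueField (g s')) (S'.residueField s') := (g.residueFieldMap s').hom.toAlgebra
  have h1 : ∀ {M : (q.fiber (g s')).Modules}, Coh.IsCoh M →
      FGA.eulerCharLE (S'.residueField s') (q'.fiber s') ((Scheme.Modules.pullback p).obj M) 1 =
        FGA.eulerCharLE (S.residueField (g s')) (q.fiber (g s')) M 1 := fun hM =>
    Finset.sum_congr rfl fun i _ => by
      rw [show Module.finrank (S'.residueField s') (Coh.HH (q'.fiber s') ((Scheme.Modules.pullback p).obj _) i) = _ from
        Groth.L21.RR.h_pullback (k := S.residueField (g s')) (K := S'.residueField s') p hp hM i]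
  have e : (Scheme.Modules.pullback (q'.fiberι s')).obj ((Scheme.Modules.pullback g').obj L) ≅
      (Scheme.Modules.pullback p).obj ((Scheme.Modules.pullback (q.fiberι (g s'))).obj L) :=
    (Scheme.Modules.pullbackComp _ _).app L ≪≫ (Scheme.Modules.pullbackCongr hpι.symm).app L ≪≫
      ((Scheme.Modules.pullbackComp _ _).app L).symm
  rw [deg, deg, Groth.L17.Strat.eulerCharLE_iso e,
    h1 (Groth.L18.Ample.isCoh_of_isInvertible (Groth.L18.Ample.isInvertible_pullback _ hL)),
    ← Groth.L17.Strat.eulerCharLE_iso (Groth.L29.LocFree.pullbackUnitIso p),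
    h1 (Groth.L16.CohClosedPush.isCoh_structure (X := q.fiber (g s')))]

variable [IsProper q] [Flat q] [LocallyOfFinitePresentation q]

/-- For fibres of dimension at most one the Euler characteristic is a two term sum. -/
theorem eulerChar_eq (hd : ∀ s : S, topologicalKrullDim ↥(q.fiber s) ≤ 1) (M : X.Modules) (s : S) :
    PerfAux.eulerChar q M s = @FGA.eulerCharLE (S.residueField s) _ (q.fiber s) ⟨q.fiberToSpecResidueField s⟩
      ((Scheme.Modules.pullback (q.fiberι s)).obj M) 1 := by
  refine finsum_eq_sum_of_support_subset _ fun i hi => ?_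
  rw [Finset.coe_range, Set.mem_Iio]
  by_contra hle
  haveI := Groth.L12.CurveFam.subsingleton_fiberH_of_dim q (d := 1) s (hd s) M (p := i) (by omega)
  exact hi (by
    show (-1 : ℤ) ^ i * (CohIII.fiberRank q M i s : ℤ) = 0
    rw [show CohIII.fiberRank q M i s = 0 from Module.finrank_zero_of_subsingleton, Nat.cast_zero, mul_zero])

/-- The degree is locally constant. -/
theorem isLocallyConstant_deg (hd : ∀ s : S, topologicalKrullDim ↥(q.fiber s) ≤ 1) {L : X.Modules}
    (hL : PicF.IsInvertible L) : IsLocallyConstant (deg q L) := by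
  have key : ∀ {M : X.Modules}, PicF.IsInvertible M → IsLocallyConstant fun s : S => PerfAux.eulerChar q M s :=
    fun hM => Groth.Agent.S1026.result q _
      (Groth.L18.LFP.isFP_of_isFinLocFree _ (Groth.L16.Existence.isFinLocFree_of_isInvertible hM))
      (Groth.Agent.Pic0.isFlatOver_of_isInvertible q hM)
  convert (key hL).comp₂ (key (Groth.L18.Ample.isInvertible_structureModule X)) (· - ·) using 1
  funext s
  letI : (q.fiber s).Over (Spec (CommRingCat.of (S.residueField s))) := ⟨q.fiberToSpecResidueField s⟩
  rw [eulerChar_eq q hd, eulerChar_eq q hd, deg,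
    ← Groth.L17.Strat.eulerCharLE_iso (Groth.L29.LocFree.pullbackUnitIso (q.fiberι s))]

end Groth.Agent.DegreeFun
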