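/-
Rational points of a connected scheme are linked by smooth proper curves.
-/
import Groth.Agent.L08.Cube.NP.AlgEquiv
import Groth.Agent.L08.Cube.NP.CurveModel
import Groth.Agent.L19.Topology

/-!
# Chains of smooth proper curves

The construction follows `Cube.NP.CurveModel` and `Cube.NP.Pair`; the dimension of the curves is recorded here.
-/

set_option autoImplicit false
set_option linter.style.haveILetI false
set_option linter.unusedSectionVars false
set_option maxSynthPendingDepth 3
set_option backward.isDefEq.respectTransparency.types false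

universe u

open CategoryTheory CategoryTheory.Limits AlgebraicGeometry TopologicalSpace
open Groth.L18.PS (chart coord chartScalar chartHom)
open Groth.L18.CurveModel (R chartEquiv)

noncomputable section

namespace Groth.Agent.Pic0.Chain

open Groth.L08.Cube Groth.L08.Cube.NP

variable {k : Type u} [Field k]

/-- A scheme all of whose closed points have codimension one has dimension one. -/
theorem dim_eq_one_of_closed (Y : Scheme.{u}) [CompactSpace Y] [Nonempty Y]
    (h : ∀ y : Y, IsClosed ({y} : Set Y) → ringKrullDim (Y.presheaf.stalk y) = 1) :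
    topologicalKrullDim Y = 1 := by
  have hc : ∀ y : Y, IsClosed ({y} : Set Y) → Order.coheight y = 1 := fun y hy => by
    have := h y hy
    rw [ringKrullDim_stalk_eq_coheight] at this
    exact_mod_cast this
  rw [Groth.L19.topologicalKrullDim_eq_krullDim]
  refine le_antisymm ?_ ?_
  · rw [Order.krullDim_eq_iSup_coheight]
    refine iSup_le fun x => ?_
    obtain ⟨y, hy, hyc⟩ := (isClosed_closure (s := ({x} : Set Y))).exists_closed_singleton
      (show (closure ({x} : Set Y)).Nonempty from ⟨x, subset_closure rfl⟩)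
    have hle : y ≤ x := specializes_iff_mem_closure.2 hy
    exact_mod_cast (Order.coheight_anti hle).trans (hc y hyc).le
  · obtain ⟨y, -, hy⟩ := (isClosed_univ (X := Y)).exists_closed_singleton Set.univ_nonempty
    exact (by exact_mod_cast (hc y hy).ge : (1 : WithBot ℕ∞) ≤ (Order.coheight y : WithBot ℕ∞)).trans
      (Order.coheight_le_krullDim y)

/-- The structure of a smooth projective curve above a given affine curve (following `CurveModel`), with its dimension. -/
theorem exists_curve_model [IsAlgClosed k] (C : Type u) [CommRing C] [IsDomain C] [Algebra k C]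
    [Algebra.FiniteType k C] (t : C) (htinj : Function.Injective (Polynomial.aeval t : Polynomial k →ₐ[k] C))
    (htint : (Polynomial.aeval t : Polynomial k →ₐ[k] C).toRingHom.IsIntegral) :
    ∃ (X : Over (Spec (CommRingCat.of k))) (_ : IsProper X.hom) (_ : Smooth X.hom) (_ : GeometricallyIntegral X.hom)
      (_ : topologicalKrullDim X.left = 1) (V : X.left.Opens) (ψ : (V : Scheme.{u}) ⟶ Spec (CommRingCat.of C)),
      ψ ≫ Spec.map (CommRingCat.ofHom (algebraMap k C)) = V.ι ≫ X.hom ∧
      ∀ v : C →ₐ[k] k, ∃ p : Spec (CommRingCat.of k) ⟶ (V : Scheme.{u}), p ≫ V.ι ≫ X.hom = 𝟙 _ ∧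
        p ≫ ψ = Spec.map (CommRingCat.ofHom v.toRingHom) := by
  classical
  let K := FractionRing C
  have hinjK : Function.Injective (algebraMap C K) := IsFractionRing.injective C K
  let x : K := algebraMap C K t
  have hax : ∀ p : Polynomial k, Polynomial.aeval x p = algebraMap C K (Polynomial.aeval t p) := fun p =>
    Polynomial.aeval_algebraMap_apply K t p
  have hx : Transcendental k x := transcendental_iff.mpr fun p hp =>
    htinj (by rw [map_zero]; exact hinjK (by rw [← hax, hp, map_zero]))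
  haveI : IsIntegral (CohB1.ProjSpace 1 k) := Groth.L16.ProjSpace.isIntegral (n := 1) (R := k)
  obtain ⟨U, hU, hUne, φ, hk, hφle, ⟨bx, hbx⟩, hφint⟩ := exists_embedding_at K x hx
  haveI := hUne
  let toK : Γ(CohB1.ProjSpace 1 k, U) →+* K := φ.comp ((CohB1.ProjSpace 1 k).germToFunctionField U).hom
  -- integrality over the chart
  have hCint : ∀ c : C, toK.IsIntegralElem (algebraMap C K c) := by
    intro c
    obtain ⟨p, hp, hp0⟩ := htint c
    let σ : Polynomial k →+* Γ(CohB1.ProjSpace 1 k, U) := Polynomial.eval₂RingHom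
      (((CohB1.ProjSpace.toSpec 1 k).appLE ⊤ U le_top).hom.comp (Scheme.ΓSpecIso (CommRingCat.of k)).inv.hom) bx
    have hσ : toK.comp σ = (algebraMap C K).comp (Polynomial.aeval t : Polynomial k →ₐ[k] C).toRingHom := by
      refine Polynomial.ringHom_ext (fun a => ?_) ?_
      · simp only [RingHom.comp_apply, σ, Polynomial.coe_eval₂RingHom, Polynomial.eval₂_C]
        refine (hk a).trans ?_
        simp [← IsScalarTower.algebraMap_apply k C K]
      · simp only [RingHom.comp_apply, σ, Polynomial.coe_eval₂RingHom, Polynomial.eval₂_X]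
        refine hbx.trans ?_
        simp [x]
    refine ⟨p.map σ, hp.map _, ?_⟩
    rw [Polynomial.eval₂_map, hσ, ← Polynomial.hom_eval₂, hp0, map_zero]
  -- the field is finite over the function field of the line
  have hfin : φ.Finite := by
    letI := φ.toAlgebra
    haveI : Algebra.EssFiniteType k C := inferInstance
    haveI : Algebra.EssFiniteType C K := Algebra.EssFiniteType.of_isLocalization K (nonZeroDivisors C)
    haveI : Algebra.EssFiniteType k K := Algebra.EssFiniteType.comp k C K
    let F0 : IntermediateField k K :=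
      { φ.fieldRange with
        algebraMap_mem' := fun c => ⟨_, hk c⟩ }
    let φ0 : (CohB1.ProjSpace 1 k).functionField →+* F0 :=
      φ.codRestrict F0 fun z => show φ z ∈ φ.fieldRange from ⟨z, rfl⟩
    haveI : Algebra.IsAlgebraic F0 K := ⟨fun y => by
      obtain ⟨a, b, -, rfl⟩ := IsFractionRing.div_surjective (A := C) y
      have hi : ∀ c : C, IsIntegral F0 (algebraMap C K c) := fun c => by
        obtain ⟨p, hp, hp0⟩ := hCint c
        refine ⟨p.map (φ0.comp ((CohB1.ProjSpace 1 k).germToFunctionField U).hom),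
          hp.map _, ?_⟩
        rw [Polynomial.eval₂_map]
        exact hp0
      rw [div_eq_mul_inv]
      exact ((hi a).mul (hi b).inv).isAlgebraic⟩
    haveI : Algebra.EssFiniteType F0 K := Algebra.EssFiniteType.of_comp k F0 K
    haveI : Module.Finite F0 K := Algebra.finite_of_essFiniteType_of_isAlgebraic
    have h1 : φ0.Finite :=
      RingHom.Finite.of_surjective _ fun ⟨y, z, hz⟩ => ⟨z, Subtype.ext hz⟩
    have h2 : (algebraMap F0 K).Finite := RingHom.finite_algebraMap.mpr inferInstance
    exact h2.comp h1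
  let P := CohB1.ProjSpace 1 k
  haveI : IsProper (CohB1.ProjSpace.toSpec 1 k) := Groth.L18.PS.isProper_toSpec 1 k
  let g : Spec (CommRingCat.of K) ⟶ P :=
    Spec.map (CommRingCat.ofHom φ) ≫ P.fromSpecStalk (genericPoint P)
  have hg : g = Spec.map (CommRingCat.ofHom φ) ≫ P.fromSpecStalk (genericPoint P) := rfl
  haveI : IsFinite g.fromNormalization :=
    Groth.L18.NormField.isFinite_fromNormalization (CohB1.ProjSpace.toSpec 1 k) hfin hg
  haveI : IsIntegral g.normalization := inferInstance
  let pX : g.normalization ⟶ Spec (CommRingCat.of k) := g.fromNormalization ≫ CohB1.ProjSpace.toSpec 1 k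
  haveI : IsProper pX := (inferInstance : IsProper (g.fromNormalization ≫ CohB1.ProjSpace.toSpec 1 k))
  haveI : IsLocallyNoetherian g.normalization := LocallyOfFiniteType.isLocallyNoetherian pX
  haveI : Smooth pX := Groth.L26.Weil.smooth_of_regular_closed pX fun y hy => by
    haveI := (Groth.L18.NormField.isNormalScheme hg y).1
    haveI := (Groth.L18.NormField.isNormalScheme hg y).2
    haveI := Groth.L18.Codim1.valuationRing_of_normal (g.normalization.presheaf.stalk y)
      (Groth.L18.NormField.dim_stalk hg Groth.L18.CurveModel.dim_stalk_projLine y hy).le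
    infer_instance
  haveI : GeometricallyIntegral pX := geometricallyIntegral_of_isAlgClosed pX
  let V : g.normalization.Opens := g.fromNormalization ⁻¹ᵁ U
  have hV : IsAffineOpen V := hU.preimage g.fromNormalization
  letI algU : Algebra Γ(P, U) K := toK.toAlgebra
  obtain ⟨e, he, -⟩ := Groth.L18.NormField.exists_equiv hg hU
  let ev : Γ(g.normalization, V) →+* K := (integralClosure Γ(P, U) K).val.toRingHom.comp e.toRingHom
  have hev : Function.Injective ev := Subtype.val_injective.comp e.injective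
  let ρk : k →+* Γ(g.normalization, V) :=
    ((Scheme.ΓSpecIso (CommRingCat.of k)).inv ≫ pX.appLE ⊤ V le_top).hom
  letI : Algebra k Γ(g.normalization, V) := ρk.toAlgebra
  have hevk : ∀ c : k, ev (algebraMap k Γ(g.normalization, V) c) = algebraMap k K c := by
    intro c
    refine Eq.trans ?_ (hk c)
    show ((e ((pX.appLE ⊤ V le_top).hom ((Scheme.ΓSpecIso (CommRingCat.of k)).inv.hom c))) : K) = _
    rw [show pX.appLE ⊤ V le_top = (CohB1.ProjSpace.toSpec 1 k).appLE ⊤ U le_top ≫ g.fromNormalization.app U by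
      rw [Scheme.Hom.app_eq_appLE, Scheme.Hom.appLE_comp_appLE]]
    exact congrArg Subtype.val (he _)
  let j0 : C →+* Γ(g.normalization, V) := e.symm.toRingHom.comp
    ((algebraMap C K).codRestrict (integralClosure Γ(P, U) K).toSubring fun c => hCint c)
  have hj0 : ∀ c, ev (j0 c) = algebraMap C K c := fun c =>
    congrArg Subtype.val (e.apply_symm_apply _)
  let j : C →ₐ[k] Γ(g.normalization, V) :=
    { j0 with
      commutes' := fun c => hev (by
        show ev (j0 (algebraMap k C c)) = _
        rw [hj0, hevk, ← IsScalarTower.algebraMap_apply]) }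
  have hjinj : Function.Injective j := fun a b hab => hinjK (by rw [← hj0 a, ← hj0 b]; exact congrArg ev hab)
  have hjint : j.toRingHom.IsIntegral := by
    intro z
    have hz : toK.IsIntegralElem (ev z) := (e z).2
    obtain ⟨p, hp, hp0⟩ := hz
    obtain ⟨p', hp'1, -, hp'2⟩ := Polynomial.lifts_and_degree_eq_and_monic (f := algebraMap C K) (p := p.map toK)
      ((Polynomial.lifts_iff_coeff_lifts _).2 fun m => by
        rw [Polynomial.coeff_map]
        obtain ⟨q, hq⟩ := hφle (p.coeff m)
        exact ⟨Polynomial.aeval t q, (hax q).symm.trans hq⟩) (hp.map _)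
    refine ⟨p', hp'2, hev ?_⟩
    rw [map_zero, Polynomial.hom_eval₂, show ev.comp j.toRingHom = algebraMap C K from RingHom.ext hj0,
      ← Polynomial.eval_map, hp'1, Polynomial.eval_map]
    exact hp0
  let ψ : (V : Scheme.{u}) ⟶ Spec (CommRingCat.of C) := V.toSpecΓ ≫ Spec.map (CommRingCat.ofHom j.toRingHom)
  have hstr : V.ι ≫ pX = V.toSpecΓ ≫ Spec.map (CommRingCat.ofHom ρk) := by
    rw [← hV.isoSpec_hom, ← Iso.inv_comp_eq, hV.isoSpec_inv_ι_assoc,
      ← IsAffineOpen.SpecMap_appLE_fromSpec pX (isAffineOpen_top _) hV le_top, IsAffineOpen.fromSpec_top,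
      Scheme.isoSpec_Spec_inv, ← Spec.map_comp]
    rfl
  haveI : CompactSpace g.normalization := QuasiCompact.compactSpace_of_compactSpace pX
  refine ⟨Over.mk pX, ‹_›, ‹_›, ‹_›, dim_eq_one_of_closed g.normalization (fun y hy => Groth.L18.NormField.dim_stalk hg Groth.L18.CurveModel.dim_stalk_projLine y hy), V, ψ, ?_, fun v => ?_⟩
  · show (V.toSpecΓ ≫ _) ≫ _ = V.ι ≫ pX
    rw [hstr, Category.assoc, ← Spec.map_comp, ← CommRingCat.ofHom_comp]
    congr 3
    exact j.comp_algebraMap
  obtain ⟨v', hv'⟩ := exists_extend_point j hjinj hjint v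
  refine ⟨Spec.map (CommRingCat.ofHom v'.toRingHom) ≫ hV.isoSpec.inv, ?_, ?_⟩
  · show _ ≫ V.ι ≫ pX = _
    rw [hstr, ← hV.isoSpec_hom, Category.assoc, Iso.inv_hom_id_assoc, ← Spec.map_comp, ← CommRingCat.ofHom_comp,
      show v'.toRingHom.comp ρk = RingHom.id k from RingHom.ext fun c => v'.commutes c]
    exact Spec.map_id _
  · show (_ ≫ hV.isoSpec.inv) ≫ V.toSpecΓ ≫ _ = _
    rw [← hV.isoSpec_hom, Category.assoc, Iso.inv_hom_id_assoc, ← Spec.map_comp, ← CommRingCat.ofHom_comp,
      show v'.toRingHom.comp j.toRingHom = v.toRingHom from RingHom.ext fun c => DFunLike.congr_fun hv' c]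


section Link

set_option backward.isDefEq.respectTransparency false

open MonoidalCategory CartesianMonoidalCategory

variable [IsAlgClosed k]

local notation "𝟙k" => (𝟙_ (Over (Spec (CommRingCat.of k))))

/-- Two rational points lie on the image of a smooth curve. -/
def CurveLink₁ (U : Over (Spec (CommRingCat.of k))) (a a' : 𝟙_ (Over (Spec (CommRingCat.of k))) ⟶ U) : Prop :=
  ∃ (X : Over (Spec (CommRingCat.of k))) (_ : IsProper X.hom) (_ : Smooth X.hom) (_ : GeometricallyIntegral X.hom)
    (_ : topologicalKrullDim X.left = 1)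
    (V : X.left.Opens) (g : Over.mk (V.ι ≫ X.hom) ⟶ U) (c c' : 𝟙_ (Over (Spec (CommRingCat.of k))) ⟶ Over.mk (V.ι ≫ X.hom)),
    c ≫ g = a ∧ c' ≫ g = a'

theorem eqvGen_curveLink (U : Over (Spec (CommRingCat.of k))) [LocallyOfFiniteType U.hom]
    [AlgebraicGeometry.IsIntegral U.left] (a a' : 𝟙k ⟶ U) : Relation.EqvGen (CurveLink₁ U) a a' := by
  have key : ∀ (U₀ : U.left.Opens), IsAffineOpen U₀ → ∀ x y : 𝟙k ⟶ U, kpt x ∈ U₀ → kpt y ∈ U₀ →
      Relation.EqvGen (CurveLink₁ U) x y := by
    intro U₀ hU₀ x y hx hy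
    haveI : Nonempty U₀ := ⟨⟨_, hx⟩⟩
    haveI : IsDomain Γ(U.left, U₀) := IsIntegral.component_integral U₀
    let ρ : k →+* Γ(U.left, U₀) :=
      ((Scheme.ΓSpecIso (CommRingCat.of k)).inv ≫ U.hom.appLE ⊤ U₀ le_top).hom
    letI := ρ.toAlgebra
    haveI : Algebra.FiniteType k Γ(U.left, U₀) := by
      refine RingHom.finiteType_algebraMap.mp (RingHom.finiteType_respectsIso.2 _
        (Scheme.ΓSpecIso (CommRingCat.of k)).symm.commRingCatIsoToRingEquiv ?_)
      exact HasRingHomProperty.appLE @LocallyOfFiniteType U.hom inferInstance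
        ⟨⊤, isAffineOpen_top _⟩ ⟨U₀, hU₀⟩ le_top
    have hstr : hU₀.fromSpec ≫ U.hom = Spec.map (CommRingCat.ofHom (algebraMap k Γ(U.left, U₀))) := by
      rw [← IsAffineOpen.SpecMap_appLE_fromSpec U.hom (isAffineOpen_top _) hU₀ le_top, IsAffineOpen.fromSpec_top,
        Scheme.isoSpec_Spec_inv, ← Spec.map_comp]
      rfl
    let toPt : (Γ(U.left, U₀) →ₐ[k] k) → (𝟙k ⟶ U) := fun v =>
      Over.homMk (Spec.map (CommRingCat.ofHom v.toRingHom) ≫ hU₀.fromSpec) (by
        show (_ ≫ hU₀.fromSpec) ≫ U.hom = 𝟙 _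
        rw [Category.assoc, hstr, ← Spec.map_comp, ← CommRingCat.ofHom_comp,
          show v.toRingHom.comp (algebraMap k Γ(U.left, U₀)) = RingHom.id k from RingHom.ext v.commutes]
        exact Spec.map_id _)
    have hex : ∀ z : 𝟙k ⟶ U, kpt z ∈ U₀ → ∃ v, toPt v = z := by
      intro z hz
      haveI : Subsingleton (𝟙k).left := inferInstanceAs (Subsingleton (PrimeSpectrum k))
      have hr : Set.range z.left ⊆ Set.range hU₀.fromSpec := by
        rintro _ ⟨p, rfl⟩
        rw [hU₀.range_fromSpec, Subsingleton.elim p (IsLocalRing.closedPoint k)]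
        exact hz
      obtain ⟨w, hw⟩ := Spec.map_surjective (IsOpenImmersion.lift hU₀.fromSpec z.left hr)
      have hw' : Spec.map w ≫ hU₀.fromSpec = z.left := by rw [hw, IsOpenImmersion.lift_fac]
      have hk : CommRingCat.ofHom (algebraMap k Γ(U.left, U₀)) ≫ w = 𝟙 _ := Spec.map_injective (by
        rw [Spec.map_comp, ← hstr, reassoc_of% hw', Spec.map_id]
        exact Over.w z)
      exact ⟨{ w.hom with commutes' := fun c => congr(($hk).hom c) }, Over.OverMorphism.ext hw'⟩
    obtain ⟨v, rfl⟩ := hex x hx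
    obtain ⟨w, rfl⟩ := hex y hy
    have hl : ∀ v w, Link k Γ(U.left, U₀) v w → CurveLink₁ U (toPt v) (toPt w) := by
      rintro v w ⟨C, _, _, π, hC, hπ, ⟨t, ht, hti⟩, v', w', hv, hw⟩
      haveI := hC
      haveI : Algebra.FiniteType k C := Algebra.FiniteType.of_surjective π hπ
      obtain ⟨X, hX₁, hX₂, hX₃, hX₄, V, ψ, hψ, hpts⟩ := exists_curve_model C t ht hti
      let g : Over.mk (V.ι ≫ X.hom) ⟶ U :=
        Over.homMk (ψ ≫ Spec.map (CommRingCat.ofHom π.toRingHom) ≫ hU₀.fromSpec) (by
          show (ψ ≫ _ ≫ hU₀.fromSpec) ≫ U.hom = V.ι ≫ X.hom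
          rw [Category.assoc, Category.assoc, hstr, ← Spec.map_comp, ← CommRingCat.ofHom_comp,
            show π.toRingHom.comp (algebraMap k Γ(U.left, U₀)) = algebraMap k C from RingHom.ext π.commutes]
          exact hψ)
      obtain ⟨p, hp, hpv⟩ := hpts v'
      obtain ⟨p', hp', hpw⟩ := hpts w'
      refine ⟨X, hX₁, hX₂, hX₃, hX₄, V, g, Over.homMk p hp, Over.homMk p' hp', ?_, ?_⟩
      · refine Over.OverMorphism.ext ?_
        show p ≫ ψ ≫ _ ≫ hU₀.fromSpec = Spec.map _ ≫ hU₀.fromSpec
        rw [reassoc_of% hpv, ← Spec.map_comp_assoc, ← CommRingCat.ofHom_comp, ← hv]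
        rfl
      · refine Over.OverMorphism.ext ?_
        show p' ≫ ψ ≫ _ ≫ hU₀.fromSpec = Spec.map _ ≫ hU₀.fromSpec
        rw [reassoc_of% hpw, ← Spec.map_comp_assoc, ← CommRingCat.ofHom_comp, ← hw]
        rfl
    have := eqvGen_link Γ(U.left, U₀) v w
    clear hx hy
    induction this with
    | rel a b hab => exact Relation.EqvGen.rel _ _ (hl a b hab)
    | refl a => exact Relation.EqvGen.refl _
    | symm a b _ ih => exact Relation.EqvGen.symm _ _ ih
    | trans a b c _ _ ih ih' => exact Relation.EqvGen.trans _ _ _ ih ih'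
  obtain ⟨_, ⟨U₁, hU₁, rfl⟩, h₁, -⟩ := U.left.isBasis_affineOpens.exists_subset_of_mem_open
    (Set.mem_univ (kpt a)) isOpen_univ
  obtain ⟨_, ⟨U₂, hU₂, rfl⟩, h₂, -⟩ := U.left.isBasis_affineOpens.exists_subset_of_mem_open
    (Set.mem_univ (kpt a')) isOpen_univ
  have hne : ((U₁ ⊓ U₂ : U.left.Opens) : Set U.left).Nonempty :=
    nonempty_preirreducible_inter U₁.2 U₂.2 ⟨_, h₁⟩ ⟨_, h₂⟩
  haveI : JacobsonSpace U.left := LocallyOfFiniteType.jacobsonSpace U.hom
  obtain ⟨z, hz, hzc⟩ := nonempty_inter_closedPoints hne (U₁ ⊓ U₂).2.isLocallyClosed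
  obtain ⟨c, hc⟩ := exists_kpt z hzc
  exact Relation.EqvGen.trans _ _ _ (key U₁ hU₁ a c h₁ (by rw [hc]; exact hz.1))
    (key U₂ hU₂ c a' (by rw [hc]; exact hz.2) h₂)

/-- A function on rational points of a connected scheme which is constant along smooth curves is
constant. -/
theorem eq_of_curveLink {α : Type*} (T : Over (Spec (CommRingCat.of k))) [LocallyOfFiniteType T.hom]
    [QuasiCompact T.hom] [ConnectedSpace T.left] (F : (𝟙k ⟶ T) → α)
    (h : ∀ a a', CurveLink₁ T a a' → F a = F a') (a a' : 𝟙k ⟶ T) : F a = F a' := by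
  haveI : IsLocallyNoetherian T.left := LocallyOfFiniteType.isLocallyNoetherian T.hom
  haveI : CompactSpace T.left := QuasiCompact.compactSpace_of_compactSpace T.hom
  haveI : IsNoetherian T.left := {}
  haveI : JacobsonSpace T.left := LocallyOfFiniteType.jacobsonSpace T.hom
  have hfin : (irreducibleComponents T.left).Finite := NoetherianSpace.finite_irreducibleComponents
  -- constancy on each component
  have hC : ∀ C ∈ irreducibleComponents T.left, ∀ x y : 𝟙k ⟶ T, kpt x ∈ C → kpt y ∈ C → F x = F y := by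
    intro C hC x y hx hy
    let Z : Closeds T.left := ⟨C, isClosed_of_mem_irreducibleComponents C hC⟩
    let I := Scheme.IdealSheafData.vanishingIdeal Z
    haveI := isIntegral_vanishingIdeal Z hC.1
    have hr : Set.range I.subschemeι = C := by
      rw [I.range_subschemeι, Scheme.IdealSheafData.coe_support_vanishingIdeal]
      rfl
    let Y : Over (Spec (CommRingCat.of k)) := Over.mk (I.subschemeι ≫ T.hom)
    haveI : LocallyOfFiniteType Y.hom := inferInstanceAs (LocallyOfFiniteType (I.subschemeι ≫ T.hom))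
    haveI : AlgebraicGeometry.IsIntegral Y.left := inferInstanceAs (AlgebraicGeometry.IsIntegral I.subscheme)
    let j : Y ⟶ T := Over.homMk I.subschemeι rfl
    have hlift : ∀ z : 𝟙k ⟶ T, kpt z ∈ C → ∃ z' : 𝟙k ⟶ Y, z' ≫ j = z := by
      intro z hz
      obtain ⟨p, hp⟩ : kpt z ∈ Set.range I.subschemeι := hr.symm ▸ hz
      have hpc : IsClosed ({p} : Set Y.left) := by
        have : ({p} : Set I.subscheme) = I.subschemeι ⁻¹' {kpt z} := by
          ext q
          exact ⟨fun e => by rw [Set.mem_singleton_iff.1 e]; exact hp,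
            fun e => I.subschemeι.isEmbedding.injective ((show I.subschemeι q = kpt z from e).trans hp.symm)⟩
        show IsClosed ({p} : Set I.subscheme)
        rw [this]
        exact (isClosed_kpt z).preimage I.subschemeι.continuous
      obtain ⟨z', hz'⟩ := exists_kpt (A := Y) p hpc
      refine ⟨z', kpt_injective ?_⟩
      show (z' ≫ j).left (IsLocalRing.closedPoint k) = kpt z
      rw [Over.comp_left, Scheme.Hom.comp_apply, show z'.left (IsLocalRing.closedPoint k) = p from hz']
      exact hp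
    obtain ⟨x', rfl⟩ := hlift x hx
    obtain ⟨y', rfl⟩ := hlift y hy
    have hl : ∀ u v, CurveLink₁ Y u v → CurveLink₁ T (u ≫ j) (v ≫ j) := by
      rintro u v ⟨X, h₁, h₂, h₃, h₄, V, g, c, c', rfl, rfl⟩
      exact ⟨X, h₁, h₂, h₃, h₄, V, g ≫ j, c, c', (Category.assoc _ _ _).symm, (Category.assoc _ _ _).symm⟩
    have key : ∀ u v, Relation.EqvGen (CurveLink₁ Y) u v → F (u ≫ j) = F (v ≫ j) := by
      intro u v huv
      induction huv with
      | rel u v huv => exact h _ _ (hl u v huv)
      | refl u => rfl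
      | symm u v _ ih => exact ih.symm
      | trans u v w _ _ ih ih' => exact ih.trans ih'
    exact key _ _ (eqvGen_curveLink Y x' y')
  -- the points with value `F a` and the others lie on disjoint closed sets
  have hclosed : ∀ s : Set (Set T.left), s ⊆ irreducibleComponents T.left → IsClosed (⋃₀ s) := fun s hs => by
    rw [Set.sUnion_eq_biUnion]
    exact (hfin.subset hs).isClosed_biUnion fun C hC => isClosed_of_mem_irreducibleComponents C (hs hC)
  let s₁ := {C ∈ irreducibleComponents T.left | ∀ x : 𝟙k ⟶ T, kpt x ∈ C → F x = F a}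
  let s₂ := {C ∈ irreducibleComponents T.left | C ∉ s₁}
  have hcov : ⋃₀ s₁ ∪ ⋃₀ s₂ = Set.univ := Set.eq_univ_of_forall fun x => by
    obtain ⟨C, hC, hxC⟩ : ∃ C ∈ irreducibleComponents T.left, x ∈ C :=
      ⟨irreducibleComponent x, irreducibleComponent_mem_irreducibleComponents x, mem_irreducibleComponent⟩
    by_cases hs : C ∈ s₁
    · exact Or.inl ⟨C, hs, hxC⟩
    · exact Or.inr ⟨C, ⟨hC, hs⟩, hxC⟩
  have hdisj : Disjoint (⋃₀ s₁) (⋃₀ s₂) := by
    rw [Set.disjoint_iff_inter_eq_empty]
    by_contra hne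
    obtain ⟨z, ⟨hz₁, hz₂⟩, hzc⟩ := nonempty_inter_closedPoints (Set.nonempty_iff_ne_empty.2 hne)
      (((hclosed s₁ fun C hC => hC.1).inter (hclosed s₂ fun C hC => hC.1)).isLocallyClosed)
    obtain ⟨p, rfl⟩ := exists_kpt z hzc
    obtain ⟨C₁, hC₁, hp₁⟩ := hz₁
    obtain ⟨C₂, hC₂, hp₂⟩ := hz₂
    exact hC₂.2 ⟨hC₂.1, fun x hx => (hC C₂ hC₂.1 x p hx hp₂).trans (hC₁.2 p hp₁)⟩
  have hcl : IsClopen (⋃₀ s₁) := by
    refine ⟨hclosed s₁ fun C hC => hC.1, ?_⟩
    rw [← isClosed_compl_iff, show (⋃₀ s₁)ᶜ = ⋃₀ s₂ from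
      (IsCompl.compl_eq ⟨hdisj, codisjoint_iff.2 hcov⟩)]
    exact hclosed s₂ fun C hC => hC.1
  have hne : (⋃₀ s₁).Nonempty := by
    refine ⟨kpt a, irreducibleComponent (kpt a), ⟨irreducibleComponent_mem_irreducibleComponents _, ?_⟩,
      mem_irreducibleComponent⟩
    exact fun x hx => hC _ (irreducibleComponent_mem_irreducibleComponents _) x a hx mem_irreducibleComponent
  have hmem : kpt a' ∈ ⋃₀ s₁ := by rw [hcl.eq_univ hne]; trivial
  obtain ⟨C, hC', hx⟩ := hmem
  exact (hC'.2 a' hx).symm

end Link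

end Groth.Agent.Pic0.Chain
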