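import Groth.Agent.L26.Pic0.Vanish
import Groth.Agent.L26.Pic0.FiberZero
import Groth.Agent.L08.Cube.Invariant
import Groth.Agent.L15.Ref.FreeLocus
import Mathlib.AlgebraicGeometry.Group.Abelian

/-!
# Translation invariant invertible modules are translates of an ample one
-/

set_option autoImplicit false
set_option linter.style.haveILetI false
set_option linter.unusedSectionVars false
set_option backward.isDefEq.respectTransparency false

universe u

open CategoryTheory CategoryTheory.Limits MonoidalCategory CartesianMonoidalCategory AlgebraicGeometry TopologicalSpace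
open scoped MonObj

noncomputable section

namespace Groth.Agent.Pic0

open Groth.L08.Cube Groth.Agent.AbDualLib

attribute [local instance] clMonoid

variable {K : Type u} [Field K] [IsAlgClosed K] {A : Over (Spec (CommRingCat.of K))} [GrpObj A] [IsProper A.hom]
  [GeometricallyIntegral A.hom]

/-- A constant map pulls back every invertible class to the trivial one. -/
theorem pc_const {W : Over (Spec (CommRingCat.of K))} (L : A.left.Modules) (hL : PicF.IsInvertible L)
    (b : 𝟙_ (Over (Spec (CommRingCat.of K))) ⟶ A) : pc L (toUnit W ≫ b) = 1 := by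
  haveI : Subsingleton (𝟙_ (Over (Spec (CommRingCat.of K)))).left :=
    inferInstanceAs (Subsingleton (PrimeSpectrum K))
  rw [← pullCl_pc L (toUnit W) b, show pc L b = 1 from eq_oneCl_of_subsingleton (isInvertibleCl_pc L hL b),
    pullCl_one]

theorem pc_id (L : A.left.Modules) : pc L (𝟙 A) = PicF.cl L :=
  (congrArg (fun g => PicF.pullCl g (PicF.cl L)) (Over.id_left A)).trans (PicLoc.pullCl_id _)

theorem trK_one : trK (1 : 𝟙_ (Over (Spec (CommRingCat.of K))) ⟶ A) = 𝟙 A := by
  simp [trK]

/-- The fibre over a rational point has the cohomology of the slice. -/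
theorem subsingleton_fiberH_iff_slice (a : 𝟙_ (Over (Spec (CommRingCat.of K))) ⟶ A)
    (M : (A ⊗ A).left.Modules) (p : ℕ) :
    Subsingleton (CohIII.fiberH (snd A A).left M (kpt a) p) ↔
      Subsingleton (Coh.HH A.left ((Scheme.Modules.pullback (slice A a).left).obj M) p) := by
  obtain ⟨h1, t, ht⟩ := fromSpecResidueField_kpt a
  have hs : (slice A a).left ≫ (snd A A).left = A.hom ≫ a.left := by
    rw [← Over.comp_left, lift_snd]
    rfl
  let ψ : A.left ⟶ (snd A A).left.fiber (kpt a) :=
    pullback.lift (slice A a).left (A.hom ≫ t) (by rw [Category.assoc, ht, hs])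
  let φ : (snd A A).left.fiber (kpt a) ⟶ A.left := (snd A A).left.fiberι (kpt a) ≫ (fst A A).left
  have hφ : φ ≫ (slice A a).left = (snd A A).left.fiberι (kpt a) := by
    apply (isPullback_prod A A).hom_ext
    · simp only [φ, Category.assoc]
      rw [← Over.comp_left, lift_fst, Over.id_left, Category.comp_id]
    · simp only [φ, Category.assoc]
      rw [hs]
      have hw : (fst A A).left ≫ A.hom = (snd A A).left ≫ A.hom := (isPullback_prod A A).w
      have hc : (snd A A).left.fiberι (kpt a) ≫ (snd A A).left =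
          (snd A A).left.fiberToSpecResidueField (kpt a) ≫ A.left.fromSpecResidueField (kpt a) := pullback.condition
      rw [reassoc_of% hw, reassoc_of% hc, ← Category.assoc (A.left.fromSpecResidueField (kpt a)), h1, hc]
  have hψ : ψ ≫ (snd A A).left.fiberι (kpt a) = (slice A a).left := pullback.lift_fst _ _ _
  haveI : IsIso φ := by
    refine ⟨ψ, ?_, ?_⟩
    · apply pullback.hom_ext
      · rw [Category.assoc, Category.id_comp]
        exact (congrArg (φ ≫ ·) hψ).trans hφ
      · rw [← cancel_mono (A.left.fromSpecResidueField (kpt a)), Category.assoc, Category.assoc, Category.id_comp]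
        have hψ' : ψ ≫ pullback.snd _ _ = A.hom ≫ t := pullback.lift_snd _ _ _
        rw [reassoc_of% hψ', ht, ← hs, reassoc_of% hφ]
        exact pullback.condition
    · show ψ ≫ (snd A A).left.fiberι (kpt a) ≫ (fst A A).left = _
      rw [reassoc_of% hψ, ← Over.comp_left, lift_fst, Over.id_left]
  let e : (Scheme.Modules.pullback φ).obj ((Scheme.Modules.pullback (slice A a).left).obj M) ≅
      CohIII.fiberMod (snd A A).left M (kpt a) :=
    (Scheme.Modules.pullbackComp φ (slice A a).left).app M ≪≫ (Scheme.Modules.pullbackCongr hφ).app M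
  obtain ⟨e'⟩ := nonempty_HH_pullback φ ((Scheme.Modules.pullback (slice A a).left).obj M) p
  exact (e'.symm.trans (Groth.L17.BC.HHequiv e p).toAddEquiv).toEquiv.subsingleton_congr.symm

/-- A non-trivial translation invariant module has no cohomology. -/
theorem subsingleton_HH_of_fixed (Q : A.left.Modules) (hQ : PicF.IsInvertible Q)
    (hfix : ∀ x, pc Q (trK x) = PicF.cl Q) (hne : PicF.cl Q ≠ 1) (i : ℕ) :
    Subsingleton (Coh.HH A.left Q i) := by
  haveI : AlgebraicGeometry.IsIntegral A.left := GeometricallyIntegral.isIntegral_of_subsingleton A.hom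
  refine subsingleton_HH Q hQ ?_ (fun h => hne ((nonempty_iso_structure_iff Q).1 h)) i
  have h := pc_mul_of_fixed Q hQ (𝟙 A) fun c => hfix _
  rw [Category.comp_id, show fst A A * snd A A = μ[A] by simp [Hom.mul_def]] at h
  exact (PicGrp.cl_eq_cl_iff _ _).1 h

variable (L N : A.left.Modules) (hL : PicF.IsInvertible L) (hN : PicF.IsInvertible N)
  (hLN : PicF.cl L * PicF.cl N = 1)

include hL hLN in
/-- The theorem of the square: the differences of translates are translation invariant. -/
theorem pc_translate_diff (x a : 𝟙_ (Over (Spec (CommRingCat.of K))) ⟶ A) :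
    pc L (trK x ≫ trK a) * pc N (trK x) = pc L (trK a) * PicF.cl N := by
  have hc := cube_relation L hL (𝟙 A) (toUnit A ≫ x) (toUnit A ≫ a)
  rw [pc_const L hL x, pc_const L hL a, mul_one, mul_one,
    show (toUnit A ≫ x) * (toUnit A ≫ a) = toUnit A ≫ (x * a) from (MonObj.comp_mul _ _ _).symm,
    pc_const L hL (x * a), mul_one, pc_id] at hc
  have hxa : trK x ≫ trK a = 𝟙 A * (toUnit A ≫ x) * (toUnit A ≫ a) := by
    simp [trK, MonObj.comp_mul, mul_assoc]
  have hinv : pc L (trK x) * pc N (trK x) = 1 := by
    have h := congrArg (PicF.pullCl (trK x).left) hLN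
    rwa [pullCl_mul, pullCl_one] at h
  rw [hxa]
  calc _ = pc L (𝟙 A * (toUnit A ≫ x) * (toUnit A ≫ a)) * pc N (trK x) * (PicF.cl L * PicF.cl N) := by
        rw [hLN, mul_one]
    _ = (pc L (trK x) * pc L (trK a)) * pc N (trK x) * PicF.cl N := by
        simp only [trK]
        rw [← hc]
        ac_rfl
    _ = (pc L (trK x) * pc N (trK x)) * (pc L (trK a) * PicF.cl N) := by ac_rfl
    _ = _ := by rw [hinv, one_mul]

omit L N hL hN hLN

/-- Mumford: a translation invariant module is a translate of an ample one over the ample one. -/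
theorem exists_translate_of_isAmple (L N M : A.left.Modules) (hLa : CohB1.IsAmple L) (hN : PicF.IsInvertible N)
    (hLN : PicF.cl L * PicF.cl N = 1) (hM : PicF.IsInvertible M) (hM0 : ∀ x, pc M (trK x) = PicF.cl M) :
    ∃ a, PicF.cl M = pc L (trK a) * PicF.cl N := by
  by_contra hcon
  push Not at hcon
  have hL := hLa.1
  haveI : AlgebraicGeometry.IsIntegral A.left := GeometricallyIntegral.isIntegral_of_subsingleton A.hom
  haveI : IsCommMonObj A := isCommMonObj_of_isProper_of_geometricallyIntegral A
  haveI : IsLocallyNoetherian A.left := LocallyOfFiniteType.isLocallyNoetherian A.hom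
  haveI : JacobsonSpace A.left := LocallyOfFiniteType.jacobsonSpace A.hom
  haveI : IsProper (snd A A).left := isProper_snd A A
  haveI : Flat (snd A A).left := flat_snd A A
  haveI : LocallyOfFinitePresentation (snd A A).left := inferInstance
  haveI : IsProper ((snd A A).left ≫ A.hom) := inferInstance
  haveI := Groth.L17.PushQCoh.hasInjectiveResolutions (A ⊗ A).left
  haveI : IsLocallyNoetherian (A ⊗ A).left := LocallyOfFiniteType.isLocallyNoetherian ((snd A A).left ≫ A.hom)
  obtain ⟨b, hb, hMb⟩ := exists_inverseCl (⟨M, rfl, hM⟩ : PicF.IsInvertibleCl (PicF.cl M))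
  obtain ⟨M', rfl, hM'⟩ := hb
  have hM'0 : ∀ x, pc M' (trK x) = PicF.cl M' := fun x => by
    have h := congrArg (PicF.pullCl (trK x).left) hMb
    rw [pullCl_mul, pullCl_one, show PicF.pullCl (trK x).left (PicF.cl M) = PicF.cl M from hM0 x] at h
    calc pc M' (trK x) = (PicF.cl M * PicF.cl M') * pc M' (trK x) := by rw [hMb, one_mul]
      _ = PicF.cl M' * (PicF.cl M * pc M' (trK x)) := by ac_rfl
      _ = _ := by rw [h, mul_one]
  -- the class on the square
  obtain ⟨K1, hK1, hK1inv⟩ : PicF.IsInvertibleCl
      (pc L μ[A] * pc N (fst A A) * pc M' (fst A A) * pc N (snd A A)) :=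
    isInvertibleCl_mulCl (isInvertibleCl_mulCl (isInvertibleCl_mulCl (isInvertibleCl_pc L hL _)
      (isInvertibleCl_pc N hN _)) (isInvertibleCl_pc M' hM' _)) (isInvertibleCl_pc N hN _)
  have hμ : μ[A] = fst A A * snd A A := by simp [Hom.mul_def]
  let β : A ⊗ A ⟶ A ⊗ A := lift (snd A A) (fst A A)
  haveI : IsIso β := ⟨β, by simp [β], by simp [β]⟩
  haveI : IsIso β.left := inferInstanceAs (IsIso ((Over.forget _).map β))
  let K2 := (Scheme.Modules.pullback β.left).obj K1
  have hK2inv : PicF.IsInvertible K2 := Groth.L18.Ample.isInvertible_pullback _ hK1inv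
  have hcl : ∀ {W : Over (Spec (CommRingCat.of K))} (s : W ⟶ A ⊗ A),
      PicF.pullCl s.left (PicF.cl K1) = pc L ((s ≫ fst A A) * (s ≫ snd A A)) * pc N (s ≫ fst A A) *
        pc M' (s ≫ fst A A) * pc N (s ≫ snd A A) := fun {W} s => by
    rw [hK1, pullCl_mul, pullCl_mul, pullCl_mul, pullCl_pc, pullCl_pc, pullCl_pc, pullCl_pc, hμ, MonObj.comp_mul]
  have hs1 : ∀ a, PicF.cl ((Scheme.Modules.pullback (slice A a).left).obj K1) =
      pc L (trK a) * PicF.cl N * PicF.cl M' := fun a => by
    show PicF.pullCl (slice A a).left (PicF.cl K1) = _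
    rw [hcl, lift_fst, lift_snd, pc_const N hN, mul_one, pc_id, pc_id]
  have hs2 : ∀ a, PicF.cl ((Scheme.Modules.pullback (slice A a).left).obj K2) = pc L (trK a) * PicF.cl N := fun a => by
    show PicF.pullCl (slice A a).left (PicF.pullCl β.left (PicF.cl K1)) = _
    rw [← PicLoc.pullCl_comp, ← Over.comp_left, hcl]
    simp only [β, Category.assoc, lift_fst, lift_snd]
    rw [pc_const N hN, pc_const M' hM', mul_one, mul_one, pc_id, mul_comm (toUnit A ≫ a)]
  have hdiff : ∀ x a, PicF.pullCl (trK x).left (pc L (trK a) * PicF.cl N) = pc L (trK a) * PicF.cl N := fun x a => by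
    rw [pullCl_mul, pullCl_pc]
    exact pc_translate_diff L N hL hLN x a
  have hq1 : ∀ a i, Subsingleton (Coh.HH A.left ((Scheme.Modules.pullback (slice A a).left).obj K1) i) := fun a i => by
    refine subsingleton_HH_of_fixed _ (Groth.L18.Ample.isInvertible_pullback _ hK1inv) (fun x => ?_) (fun h => ?_) i
    · show PicF.pullCl (trK x).left (PicF.cl ((Scheme.Modules.pullback (slice A a).left).obj K1)) = _
      rw [hs1, pullCl_mul, hdiff, show PicF.pullCl (trK x).left (PicF.cl M') = PicF.cl M' from hM'0 x]
    · rw [hs1] at h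
      refine hcon a ?_
      calc PicF.cl M = PicF.cl M * (pc L (trK a) * PicF.cl N * PicF.cl M') := by rw [h, mul_one]
        _ = (pc L (trK a) * PicF.cl N) * (PicF.cl M * PicF.cl M') := by ac_rfl
        _ = _ := by rw [hMb, mul_one]
  haveI := Groth.L21.Extend.isQCoh_of_isInvertible hK1inv
  haveI := Groth.L21.Extend.isQCoh_of_isInvertible hK2inv
  have hR1 : ∀ p, IsZero ((Coh.Rpush (snd A A).left p).obj K1) := fun p => by
    have h := isZero_restrict_Rpush (snd A A).left K1 (Groth.L15.Ref.isFP_of_isCoh (Groth.L18.Ample.isCoh_of_isInvertible hK1inv))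
      (isFlatOver_of_isInvertible _ hK1inv) p ⊤ fun y _ hy => by
        obtain ⟨a, rfl⟩ := exists_kpt y hy
        exact (subsingleton_fiberH_iff_slice a K1 p).2 (hq1 a p)
    exact isZero_of_forall_Γ fun W => subsingleton_Γ_of_restrict le_top h
  have hH2 : ∀ p, Subsingleton (Coh.HH (A ⊗ A).left K2 p) := fun p => by
    haveI := subsingleton_HH_of_isZero (snd A A).left A.hom K1 p fun b _ => hR1 b
    obtain ⟨e⟩ := nonempty_HH_pullback β.left K1 p
    exact e.toEquiv.subsingleton
  -- the finitely many exceptional points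
  let S := {a : 𝟙_ (Over (Spec (CommRingCat.of K))) ⟶ A | pc L (trK a) = PicF.cl L}
  have hSf : S.Finite := finite_fixed_of_isAmple L hLa
  have hFf : (kpt '' S).Finite := hSf.image _
  have hFc : IsClosed (kpt '' S) := by
    have := hFf.isClosed_biUnion (f := fun y => ({y} : Set A.left)) fun y hy => by
      obtain ⟨a, -, rfl⟩ := hy
      exact isClosed_kpt a
    rwa [Set.biUnion_of_singleton] at this
  let U : A.left.Opens := ⟨(kpt '' S)ᶜ, hFc.isOpen_compl⟩
  have hU2 : ∀ p, IsZero (((Coh.Rpush (snd A A).left p).obj K2).restrict U.ι) := fun p =>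
    isZero_restrict_Rpush (snd A A).left K2 (Groth.L15.Ref.isFP_of_isCoh (Groth.L18.Ample.isCoh_of_isInvertible hK2inv))
      (isFlatOver_of_isInvertible _ hK2inv) p U fun y hyU hy => by
        obtain ⟨a, rfl⟩ := exists_kpt y hy
        refine (subsingleton_fiberH_iff_slice a K2 p).2 (subsingleton_HH_of_fixed _
          (Groth.L18.Ample.isInvertible_pullback _ hK2inv) (fun x => ?_) (fun h => hyU ⟨a, ?_, rfl⟩) p)
        · show PicF.pullCl (trK x).left (PicF.cl ((Scheme.Modules.pullback (slice A a).left).obj K2)) = _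
          rw [hs2, hdiff]
        · rw [hs2] at h
          calc pc L (trK a) = pc L (trK a) * (PicF.cl L * PicF.cl N) := by rw [hLN, mul_one]
            _ = (pc L (trK a) * PicF.cl N) * PicF.cl L := by ac_rfl
            _ = _ := by rw [h, one_mul]
  have hR2 : ∀ p, IsZero ((Coh.Rpush (snd A A).left p).obj K2) := by
    intro p
    induction p using Nat.strongRecOn with
    | ind p ih =>
      refine isZero_of_off_finite _ _ hFf (fun y hy => ?_) U le_rfl (hU2 p) ?_
      · obtain ⟨a, -, rfl⟩ := hy
        exact isClosed_kpt a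
      · obtain ⟨e⟩ := nonempty_HH_equiv_Γ (snd A A).left A.hom K2 p ih
        haveI := hH2 p
        exact e.symm.toEquiv.subsingleton
  -- contradiction at the origin
  have h0 := (subsingleton_fiberH_iff_slice (1 : 𝟙_ (Over (Spec (CommRingCat.of K))) ⟶ A) K2 0).1
    (subsingleton_fiberH_of_isZero (snd A A).left K2 (Groth.L18.Ample.isCoh_of_isInvertible hK2inv)
      (isFlatOver_of_isInvertible _ hK2inv) hR2 _ 0)
  have h1 := hs2 1
  rw [trK_one, pc_id, hLN] at h1
  obtain ⟨e⟩ := (nonempty_iso_structure_iff _).2 h1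
  haveI : Subsingleton Γ(Coh.structureModule A.left, ⊤) :=
    (subsingleton_Γ_iff _).2 (subsingleton_HH_congr e 0 h0)
  haveI : Nonempty ((⊤ : A.left.Opens) : Scheme.{u}) := ⟨⟨Nonempty.some inferInstance, trivial⟩⟩
  exact one_ne_zero (α := Γ(A.left, ⊤)) (Subsingleton.elim (α := Γ(Coh.structureModule A.left, ⊤)) _ _)

end Groth.Agent.Pic0
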