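import Groth.Agent.L26.Pic0.EulerIsogeny
import Groth.Agent.L26.AV.Degree
import Groth.Agent.L08.Cube.NPull
import Groth.Agent.L03.Euler.Poly
import Groth.Agent.L03.Euler.Hilb
import Mathlib.Algebra.Polynomial.Degree.Lemmas
import Mathlib.Algebra.Polynomial.Roots

/-!
# The Euler characteristic is homogeneous of degree `dim` on an abelian variety

The pullback of `L ^ t ⊗ M ^ s` along multiplication by `n` is a monomial in `L`, `ι^* L` and `M`
with exponents polynomial in `n`; comparing the coefficients of `n ^ (2g)` gives homogeneity.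
-/

set_option autoImplicit false
set_option linter.style.haveILetI false
set_option linter.unusedSectionVars false
set_option backward.isDefEq.respectTransparency false

universe u

open CategoryTheory CategoryTheory.Limits MonoidalCategory CartesianMonoidalCategory AlgebraicGeometry
open scoped MonObj

noncomputable section

namespace Groth.Agent.Pic0.EulerHomog

open Polynomial Groth.L03.Euler
open Groth.L08.Cube (pc pullCl_mul pullCl_pc cl_tensorPow)

attribute [local instance] Groth.L08.Cube.clMonoid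

/-- The leading coefficient of the restriction of a polynomial to the curve `(tq, tr, sX)`. -/
theorem coeff_curve {g : ℕ} (P : MvPolynomial (Fin 3) ℚ) (hP : P.totalDegree ≤ g) (q r : ℚ[X])
    (hq : q.natDegree ≤ 2) (hr : r.natDegree ≤ 2) (hq2 : q.coeff 2 = 1 / 2) (hr2 : r.coeff 2 = 1 / 2) :
    ∃ c : ℚ, ∀ t s : ℚ, (MvPolynomial.aeval ![C t * q, C t * r, C s * X] P).coeff (2 * g) = t ^ g * c := by
  classical
  refine ⟨∑ d ∈ P.support, if d 0 + d 1 = g ∧ d 2 = 0 then P.coeff d * (1 / 2) ^ g else 0, fun t s => ?_⟩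
  rw [MvPolynomial.aeval_def, MvPolynomial.eval₂_eq', finsetSum_coeff, Finset.mul_sum]
  refine Finset.sum_congr rfl fun d hd => ?_
  have hdeg : d 0 + d 1 + d 2 ≤ g := by
    have := (MvPolynomial.le_totalDegree hd).trans hP
    rw [Finsupp.sum_fintype _ _ (fun _ => rfl), Fin.sum_univ_three] at this
    exact this
  rw [Fin.prod_univ_three]
  simp only [Matrix.cons_val_zero, Matrix.cons_val_one, Matrix.cons_val_two, Matrix.head_cons, Matrix.tail_cons]
  show (C (P.coeff d) * _).coeff _ = _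
  rw [coeff_C_mul]
  have h0 : (C t * q).natDegree ≤ 2 := (natDegree_C_mul_le _ _).trans hq
  have h1 : (C t * r).natDegree ≤ 2 := (natDegree_C_mul_le _ _).trans hr
  have h2 : (C s * X).natDegree ≤ 1 := (natDegree_C_mul_le _ _).trans natDegree_X_le
  have e0 := natDegree_pow_le_of_le (d 0) h0
  have e1 := natDegree_pow_le_of_le (d 1) h1
  have e2 := natDegree_pow_le_of_le (d 2) h2
  by_cases hc : d 0 + d 1 = g ∧ d 2 = 0
  · rw [if_pos hc, hc.2, pow_zero, mul_one,
      show 2 * g = d 0 * 2 + d 1 * 2 by omega, coeff_mul_add_eq_of_natDegree_le e0 e1,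
      coeff_pow_of_natDegree_le h0, coeff_pow_of_natDegree_le h1,
      coeff_C_mul, coeff_C_mul, hq2, hr2, ← hc.1, pow_add, pow_add, mul_pow, mul_pow]
    ring
  · rw [if_neg hc, mul_zero]
    rw [coeff_eq_zero_of_natDegree_lt, mul_zero]
    refine lt_of_le_of_lt (natDegree_mul_le_of_le (natDegree_mul_le_of_le e0 e1) e2) ?_
    omega

variable {k : Type u} [Field k] {X : Over (Spec (CommRingCat.of k))} [GrpObj X] [IsProper X.hom]
  [GeometricallyIntegral X.hom]

/-- `q` as a polynomial. -/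
def qP : ℚ[X] := C (1 / 2) * (Polynomial.X ^ 2 + Polynomial.X)

/-- `r` as a polynomial. -/
def rP : ℚ[X] := C (1 / 2) * (Polynomial.X ^ 2 - Polynomial.X)

/-- Euler characteristics of `L ^ t ⊗ M ^ s` are `t ^ g` times a constant, for `M` with `[n]^* M ≅ M ^ n`. -/
theorem exists_euler_eq {g : ℕ} (hg : topologicalKrullDim X.left = g) (L M : X.left.Modules)
    (hL : PicF.IsInvertible L) (hM : PicF.IsInvertible M) (hMn : ∀ n, 1 ≤ n → pc M (𝟙 X ^ n) = PicF.cl M ^ n) :
    ∃ c : ℚ, ∀ (t s : ℕ) (N : X.left.Modules), PicF.cl N = PicF.cl L ^ t * PicF.cl M ^ s →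
      (@Curv2.euler k _ X.left ⟨X.hom⟩ N : ℚ) = (t : ℚ) ^ g * c := by
  letI : X.left.Over (Spec (CommRingCat.of k)) := ⟨X.hom⟩
  haveI : IsProper (X.left ↘ Spec (CommRingCat.of k)) := ‹IsProper X.hom›
  haveI := Groth.L21.RR.isNoetherian_of_proper (X := X.left) k
  let L' := (Scheme.Modules.pullback ((𝟙 X)⁻¹ : X ⟶ X).left).obj L
  let Ls : Fin 3 → X.left.Modules := ![L, L', M]
  have hL' : PicF.IsInvertible L' := Groth.L18.Ample.isInvertible_pullback _ hL
  have hdim : topologicalKrullDim (CohB1.support (Coh.structureModule X.left)) ≤ g :=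
    ((Topology.IsInducing.subtypeVal (t := CohB1.support (Coh.structureModule X.left))).topologicalKrullDim_le).trans hg.le
  obtain ⟨P, hPd, hP⟩ := exists_polynomial_tensorPows k (L := Ls) (fun i => by fin_cases i <;> simp [Ls, hL, hL', hM])
    (F := Coh.structureModule X.left) Groth.L16.CohClosedPush.isCoh_structure hdim
  obtain ⟨c, hc⟩ := coeff_curve P hPd qP rP (by unfold qP; compute_degree) (by unfold rP; compute_degree)
    (by simp [qP, coeff_X]) (by simp [rP, coeff_X])
  refine ⟨c, fun t s N hN => ?_⟩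
  let h := MvPolynomial.aeval ![C (t : ℚ) * qP, C (t : ℚ) * rP, C (s : ℚ) * Polynomial.X] P
  have heval : h = C ((Curv2.euler k X.left N : ℤ) : ℚ) * Polynomial.X ^ (2 * g) := by
    refine Groth.L03.Euler.eq_of_eventually_eval_eq 1 fun n hn => ?_
    have hd := Groth.Agent.AV.Degree.finrank_pow (A := X) hn hg
    obtain ⟨_, _, _, _⟩ := Groth.Agent.AV.Degree.isogeny_pow (A := X) hn
    have hNinv : Coh.IsCoh N := Groth.L18.Ample.isCoh_of_isInvertible (by
      have h : PicF.cl N = PicF.cl (CohB1.tensorMod (CohB1.tensorPow L t) (CohB1.tensorPow M s)) := by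
        rw [hN, ← cl_tensorPow, ← cl_tensorPow]
        rfl
      obtain ⟨e⟩ := (PicGrp.cl_eq_cl_iff _ _).1 h
      exact Groth.L18.Ample.isInvertible_of_iso e.symm (Groth.L18.GenLoc.isInvertible_tensor
        (Groth.L18.Ample.isInvertible_tensorPow hL t) (Groth.L18.Ample.isInvertible_tensorPow hM s)))
    have he := Groth.Agent.Pic0.EulerPull.euler_isogeny (𝟙 X ^ n) hd hNinv
    obtain ⟨a, ha⟩ : ∃ a, n * (n + 1) / 2 = a := ⟨_, rfl⟩
    obtain ⟨b, hb⟩ : ∃ b, n * (n - 1) / 2 = b := ⟨_, rfl⟩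
    obtain ⟨e⟩ : Nonempty ((Scheme.Modules.pullback (𝟙 X ^ n).left).obj N ≅
        Curv2.tensorPows (Coh.structureModule X.left) 3 Ls ![t * a, t * b, s * n]) := by
      refine (PicGrp.cl_eq_cl_iff _ _).1 ?_
      show PicF.pullCl (𝟙 X ^ n).left (PicF.cl N) = _
      rw [hN, pullCl_mul, show PicF.pullCl (𝟙 X ^ n).left (PicF.cl L ^ t) = pc L (𝟙 X ^ n) ^ t from
        map_pow (⟨⟨PicF.pullCl (𝟙 X ^ n).left, Groth.L08.Cube.pullCl_one _⟩, pullCl_mul _⟩ :
          PicF.Cl X.left →* PicF.Cl X.left) _ t,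
        show PicF.pullCl (𝟙 X ^ n).left (PicF.cl M ^ s) = pc M (𝟙 X ^ n) ^ s from
        map_pow (⟨⟨PicF.pullCl (𝟙 X ^ n).left, Groth.L08.Cube.pullCl_one _⟩, pullCl_mul _⟩ :
          PicF.Cl X.left →* PicF.Cl X.left) _ s, hMn n hn, Groth.L08.Cube.pc_pow L hL n hn, ha, hb]
      show _ = PicF.cl (CohB1.tensorMod (CohB1.tensorMod (CohB1.tensorMod (Coh.structureModule X.left)
        (CohB1.tensorPow L (t * a))) (CohB1.tensorPow L' (t * b))) (CohB1.tensorPow M (s * n)))
      have hid : pc L (𝟙 X) = PicF.cl L :=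
        (congrArg (fun z => PicF.pullCl z (PicF.cl L)) (Over.id_left X)).trans (PicLoc.pullCl_id _)
      rw [hid]
      show _ = (1 * PicF.cl (CohB1.tensorPow L (t * a))) * PicF.cl (CohB1.tensorPow L' (t * b)) *
        PicF.cl (CohB1.tensorPow M (s * n))
      rw [cl_tensorPow, cl_tensorPow, cl_tensorPow, one_mul, mul_pow, ← pow_mul, ← pow_mul, ← pow_mul,
        mul_comm a t, mul_comm b t, mul_comm n s]
      rfl
    rw [euler_iso e] at he
    have key : (Curv2.euler k X.left (Curv2.tensorPows (Coh.structureModule X.left) 3 Ls ![t * a, t * b, s * n]) : ℚ) =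
        ((n ^ (2 * g) : ℕ) : ℚ) * (Curv2.euler k X.left N : ℚ) := by exact_mod_cast he
    rw [hP] at key
    have ha' : (a : ℚ) = qP.eval (n : ℚ) := by
      rw [← ha, Nat.cast_div ((Nat.even_mul_succ_self n).two_dvd) (by norm_num)]
      simp [qP]
      ring
    have hb' : (b : ℚ) = rP.eval (n : ℚ) := by
      rw [← hb, Nat.cast_div ((Nat.even_mul_pred_self n).two_dvd) (by norm_num), Nat.cast_mul, Nat.cast_sub hn]
      simp [rP]
      ring
    rw [eval_mul, eval_pow, eval_C, eval_X, mul_comm]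
    push_cast at key
    rw [← key]
    show Polynomial.eval _ (MvPolynomial.aeval _ P) = _
    rw [← Polynomial.coe_evalRingHom, MvPolynomial.aeval_def, MvPolynomial.eval₂_comp_left]
    refine MvPolynomial.eval₂Hom_congr (RingHom.ext fun x => eval_C) (funext fun i => ?_) rfl
    fin_cases i <;> simp [ha', hb']
  have := hc (t : ℚ) (s : ℚ)
  rw [show MvPolynomial.aeval ![C (t : ℚ) * qP, C (t : ℚ) * rP, C (s : ℚ) * Polynomial.X] P = h from rfl, heval,
    coeff_C_mul, coeff_X_pow_self, mul_one] at this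
  exact this

theorem pc_pow_structure (n : ℕ) :
    pc (Coh.structureModule X.left) (𝟙 X ^ n) = PicF.cl (Coh.structureModule X.left) ^ n :=
  (Groth.L08.Cube.pullCl_one _).trans (one_pow n).symm

/-- The Euler characteristic of a power. -/
theorem euler_pow {g : ℕ} (hg : topologicalKrullDim X.left = g) (L N : X.left.Modules)
    (hL : PicF.IsInvertible L) (t : ℕ) (hN : PicF.cl N = PicF.cl L ^ t) :
    @Curv2.euler k _ X.left ⟨X.hom⟩ N = (t : ℤ) ^ g * @Curv2.euler k _ X.left ⟨X.hom⟩ L := by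
  obtain ⟨c, hc⟩ := exists_euler_eq hg L (Coh.structureModule X.left) hL
    (Groth.L18.Ample.isInvertible_structureModule _) fun n _ => pc_pow_structure n
  have h1 := hc 1 0 L (by rw [pow_one, pow_zero, mul_one])
  have h2 := hc t 0 N (by rw [hN, pow_zero, mul_one])
  rw [Nat.cast_one, one_pow, one_mul] at h1
  rw [← h1] at h2
  exact_mod_cast h2

/-- Twisting by a primitive module does not change the Euler characteristic. -/
theorem euler_twist {g : ℕ} (hg : topologicalKrullDim X.left = g) (L M N : X.left.Modules)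
    (hL : PicF.IsInvertible L) (hM : PicF.IsInvertible M) (hMn : ∀ n, 1 ≤ n → pc M (𝟙 X ^ n) = PicF.cl M ^ n)
    (hN : PicF.cl N = PicF.cl L * PicF.cl M) :
    @Curv2.euler k _ X.left ⟨X.hom⟩ N = @Curv2.euler k _ X.left ⟨X.hom⟩ L := by
  obtain ⟨c, hc⟩ := exists_euler_eq hg L M hL hM hMn
  have h1 := hc 1 0 L (by rw [pow_one, pow_zero, mul_one])
  have h2 := hc 1 1 N (by rw [hN, pow_one, pow_one])
  rw [← h1] at h2
  exact_mod_cast h2

end Groth.Agent.Pic0.EulerHomog
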