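import Groth.Agent.L26.Pic0.EulerPull
import Groth.Agent.L26.Pic0.Basic
import Groth.Agent.L17.BC.Apply
import Groth.Agent.L26.AV.Hom
import Groth.Agent.L08.Cube.Field

/-!
# Euler characteristics along isogenies of abelian varieties
-/

set_option autoImplicit false
set_option linter.style.haveILetI false
set_option linter.unusedSectionVars false
set_option backward.isDefEq.respectTransparency false

universe u

open CategoryTheory CategoryTheory.Limits MonoidalCategory CartesianMonoidalCategory AlgebraicGeometry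
open scoped MonObj

noncomputable section

namespace Groth.Agent.Pic0.EulerPull

variable {k : Type u} [Field k] {X Y : Over (Spec (CommRingCat.of k))} [GrpObj X] [IsProper X.hom]
  [GeometricallyIntegral X.hom] [GrpObj Y] [IsProper Y.hom]
  (f : X ⟶ Y) [IsFinite f.left] [Flat f.left]

/-- The kernel pair of a finite flat map of abelian varieties is trivial with free direct image. -/
theorem exists_fibreSquare {d : ℕ} (hd : ∀ y, f.left.finrank y = d) :
    d ≠ 0 ∧ ∃ (P : Scheme.{u}) (p q : P ⟶ X.left), IsPullback p q f.left f.left ∧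
      Nonempty ((Coh.push q).obj (Coh.structureModule P) ≅ FlatMod.freeMod X.left d) := by
  let y₀ : 𝟙_ (Over (Spec (CommRingCat.of k))) ⟶ Y := η[X] ≫ f
  let g : X ⟶ Y := f * (toUnit X ≫ y₀)⁻¹
  haveI : IsMonHom g := Groth.Agent.AV.isMonHom_of_one g (by
    have h1 : η[X] ≫ toUnit X = 𝟙 _ := toUnit_unique _ _
    simp only [g, MonObj.comp_mul, GrpObj.comp_inv, reassoc_of% h1, y₀, mul_inv_cancel]
    rw [Hom.one_def, toUnit_unique (toUnit _) (𝟙 _), Category.id_comp])
  have hg : ∀ {T : Over (Spec (CommRingCat.of k))} (z : T ⟶ X), z ≫ f = (z ≫ g) * (toUnit T ≫ y₀) := fun {T} z => by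
    simp [g, MonObj.comp_mul, GrpObj.comp_inv]
  let K := pullback f y₀
  let i : K ⟶ X := pullback.fst f y₀
  have hK : IsPullback i (pullback.snd f y₀) f y₀ := IsPullback.of_hasPullback f y₀
  have hw : i ≫ f = toUnit K ≫ y₀ := hK.w.trans (by rw [toUnit_unique (pullback.snd f y₀) (toUnit K)])
  have hig : i ≫ g = 1 := mul_right_cancel (b := toUnit K ≫ y₀) (by rw [← hg, hw, one_mul])
  have hK' : IsPullback i.left (pullback.snd f y₀).left f.left y₀.left := hK.map (Over.forget _)
  haveI : IsFinite (pullback.snd f y₀).left := MorphismProperty.of_isPullback hK' inferInstance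
  haveI : Flat (pullback.snd f y₀).left := MorphismProperty.of_isPullback hK' inferInstance
  have hsnd : (pullback.snd f y₀).left = K.hom :=
    (Category.comp_id _).symm.trans (Over.w (pullback.snd f y₀))
  haveI : IsFinite K.hom := hsnd ▸ inferInstance
  haveI : Flat K.hom := hsnd ▸ inferInstance
  haveI : LocallyOfFinitePresentation K.hom := LocallyOfFinitePresentation.iff_locallyOfFiniteType.2 inferInstance
  have hrk : FlatMod.IsFinLocFreeOfRank d ((Coh.push K.hom).obj (Coh.structureModule K.left)) :=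
    Groth.L27.Deg.isFinLocFreeOfRank_push K.hom fun z => by
      have h := (Scheme.Hom.finrank_of_isPullback _ _ _ _ hK' z).trans (hd _)
      rwa [show (pullback.snd f y₀).left.finrank z = K.hom.finrank z by rw [← hsnd]] at h
  obtain ⟨V, b, -, hV, -, hb⟩ := Groth.L12.FinCov.exists_basisOn_of_rank hrk
    (IsLocalRing.closedPoint k) ⊤ trivial
  haveI : Subsingleton (Spec (CommRingCat.of k)) := inferInstanceAs (Subsingleton (PrimeSpectrum k))
  obtain ⟨eK⟩ := Groth.L12.FinCov.nonempty_iso_free hb fun z _ => Subsingleton.elim z (IsLocalRing.closedPoint k) ▸ hV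
  let z₀ : 𝟙_ (Over (Spec (CommRingCat.of k))) ⟶ K := hK.lift η[X] (𝟙 _) (by rw [Category.id_comp])
  haveI : Nonempty K.left := ⟨z₀.left (IsLocalRing.closedPoint k)⟩
  have hd0 : d ≠ 0 := by
    rintro rfl
    haveI : Subsingleton Γ((Coh.push K.hom).obj (Coh.structureModule K.left), ⊤) :=
      subsingleton_Γ_of_isZero ((Groth.L17.BC.isZero_freeMod_zero _).of_iso eK) ⊤
    haveI : Nonempty ((⊤ : K.left.Opens) : Scheme.{u}) := ⟨⟨Nonempty.some inferInstance, trivial⟩⟩
    exact one_ne_zero (α := Γ(K.left, ⊤)) (Subsingleton.elim (α := Γ((Coh.push K.hom).obj (Coh.structureModule K.left), ⊤)) _ _)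
  refine ⟨hd0, (X ⊗ K).left, (fst X K * (snd X K ≫ i)).left, (fst X K).left, ?_, ?_⟩
  · have sq : IsPullback (fst X K * (snd X K ≫ i)) (fst X K) f f := by
      have w : (fst X K * (snd X K ≫ i)) ≫ f = fst X K ≫ f := by
        rw [hg, hg (fst X K), MonObj.mul_comp, Category.assoc, hig, MonObj.comp_one, mul_one]
      refine ⟨⟨w⟩, ⟨PullbackCone.isLimitAux' _ fun s => ?_⟩⟩
      have hs : s.fst ≫ g = s.snd ≫ g := mul_right_cancel (b := toUnit s.pt ≫ y₀) (by
        rw [← hg, ← hg]; exact s.condition)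
      have hz : (s.snd⁻¹ * s.fst) ≫ f = toUnit s.pt ≫ y₀ := by
        rw [hg, MonObj.mul_comp, GrpObj.inv_comp, hs, inv_mul_cancel, one_mul]
      refine ⟨lift s.snd (hK.lift (s.snd⁻¹ * s.fst) (toUnit s.pt) hz), ?_, ?_, fun {m} h1 h2 => ?_⟩
      · show lift _ _ ≫ (fst X K * (snd X K ≫ i)) = _
        rw [MonObj.comp_mul, lift_fst, lift_snd_assoc, hK.lift_fst, mul_inv_cancel_left]
      · exact lift_fst _ _
      · change m ≫ (fst X K * (snd X K ≫ i)) = _ at h1
        change m ≫ fst X K = _ at h2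
        refine CartesianMonoidalCategory.hom_ext _ _ (by rw [h2, lift_fst]) (hK.hom_ext ?_ (toUnit_unique _ _))
        rw [lift_snd, hK.lift_fst, ← h1, MonObj.comp_mul, h2, inv_mul_cancel_left, Category.assoc]
    exact sq.map (Over.forget _)
  · haveI : IsLocallyNoetherian K.left := LocallyOfFiniteType.isLocallyNoetherian K.hom
    haveI : Coh.IsQCoh (Coh.structureModule K.left) := Groth.L16.CohClosedPush.isCoh_structure.1
    obtain ⟨e⟩ := nonempty_bc K.hom X.hom (snd X K).left (fst X K).left
      (Groth.L08.Cube.isPullback_prod X K).flip (Coh.structureModule K.left)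
    exact ⟨(Coh.push (fst X K).left).mapIso (Groth.L29.LocFree.pullbackUnitIso _).symm ≪≫ e.symm ≪≫
      (Scheme.Modules.pullback X.hom).mapIso eK ≪≫ Groth.L29.LocFree.pullbackFreeIso X.hom d⟩

/-- `χ(f^* F) = deg f · χ F` for a finite flat map of abelian varieties. -/
theorem euler_isogeny {d : ℕ} (hd : ∀ y, f.left.finrank y = d) {F : Y.left.Modules} (hF : Coh.IsCoh F) :
    @Curv2.euler k _ X.left ⟨X.hom⟩ ((Scheme.Modules.pullback f.left).obj F) =
      (d : ℤ) * @Curv2.euler k _ Y.left ⟨Y.hom⟩ F := by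
  letI : X.left.Over (Spec (CommRingCat.of k)) := ⟨X.hom⟩
  letI : Y.left.Over (Spec (CommRingCat.of k)) := ⟨Y.hom⟩
  haveI : IsProper (X.left ↘ Spec (CommRingCat.of k)) := ‹IsProper X.hom›
  haveI : IsProper (Y.left ↘ Spec (CommRingCat.of k)) := ‹IsProper Y.hom›
  obtain ⟨hd0, P, p, q, hsq, hfree⟩ := exists_fibreSquare f hd
  exact euler_pullback k f.left (Over.w f) p q hsq d hd0 hd hfree hF

end Groth.Agent.Pic0.EulerPull
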