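import Groth.Agent.L26.Pic0.NonDeg
import Groth.Agent.L26.Pic0.EulerHomog
import Groth.Agent.L26.Poincare.Reducibility

/-!
# A degenerate invertible module has Euler characteristic zero
-/

set_option autoImplicit false
set_option linter.style.haveILetI false
set_option linter.unusedSectionVars false
set_option backward.isDefEq.respectTransparency false

universe u

open CategoryTheory CategoryTheory.Limits MonoidalCategory CartesianMonoidalCategory AlgebraicGeometry
open scoped MonObj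

noncomputable section

namespace Groth.Agent.Pic0.EulerDeg

open Groth.Agent.AV Groth.Agent.Poincare Groth.Agent.Poincare.Rosati Groth.Agent.Poincare.Orth DegreeForm
open Groth.L08.Cube (trK pc)

attribute [local instance] Groth.L08.Cube.clMonoid InterPic.picLaw

variable {K : Type u} [Field K] [IsAlgClosed K] {A : Over (Spec (CommRingCat.of K))} [GrpObj A]
  [IsCommMonObj A] [IsProper A.hom] [GeometricallyIntegral A.hom]

/-- Multiples of a quasi-idempotent, shifted by one, are not all units. -/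
theorem exists_not_isUnit {R : Type*} [Ring R] [Module.Free ℤ R] [Module.Finite ℤ R] (e : R) (he : e ≠ 0) (N : ℕ)
    (hN : 1 ≤ N) (hee : e * e = N • e) :
    ∃ t : ℕ, (∃ ψ : R, ψ * (1 + t • e) = (1 + t * N) • 1 ∧ (1 + t • e) * ψ = (1 + t * N) • 1) ∧
      ¬ IsUnit (1 + t • e) := by
  let b := Module.Free.chooseBasis ℤ R
  obtain ⟨i, hi⟩ : ∃ i, b.repr e i ≠ 0 := by
    by_contra h
    push Not at h
    exact he (b.repr.injective (by ext i; simp [h i]))
  let c : R →ₗ[ℤ] ℤ := b.coord i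
  have hc : c e ≠ 0 := hi
  obtain ⟨t, ht⟩ : ∃ t : ℕ, (t : ℤ) = |c e| + 1 := ⟨(c e).natAbs + 1, by simp⟩
  have hψ : ∀ x : R, x * x = N • x →
      ((1 + t * N) • (1 : R) - t • x) * (1 + t • x) = (1 + t * N) • 1 ∧
      (1 + t • x) * ((1 + t * N) • (1 : R) - t • x) = (1 + t * N) • 1 := fun x hx => by
    constructor
    · simp only [sub_mul, mul_add, smul_mul_assoc, mul_smul_comm, one_mul, mul_one, hx]
      module
    · simp only [mul_sub, add_mul, smul_mul_assoc, mul_smul_comm, one_mul, mul_one, hx]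
      module
  refine ⟨t, ⟨_, hψ e hee⟩, fun hu => ?_⟩
  obtain ⟨u, hu⟩ := hu
  have h1 := congrArg (· * (↑u⁻¹ : R)) (hψ e hee).1
  simp only [← hu, Units.mul_inv_cancel_right, smul_mul_assoc, one_mul] at h1
  have h2 := congrArg c h1
  simp only [map_sub, map_nsmul] at h2
  simp only [nsmul_eq_mul] at h2
  push_cast at h2
  have hdvd : (1 + t * N : ℤ) ∣ c e := ⟨c e - N * (c 1 - c (↑u⁻¹ : R)), by linear_combination (N : ℤ) * h2⟩
  have hle := Int.le_of_dvd (abs_pos.2 hc) ((dvd_abs _ _).2 hdvd)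
  have hN' : (1 : ℤ) ≤ N := by exact_mod_cast hN
  nlinarith [abs_nonneg (c e)]

/-- A degenerate module is killed by a quasi-idempotent endomorphism. -/
theorem exists_endo (L : A.left.Modules) (hL : PicF.IsInvertible L)
    (hinf : Set.Infinite {a : 𝟙_ (Over (Spec (CommRingCat.of K))) ⟶ A | pc L (trK a) = PicF.cl L}) :
    ∃ (e : EndAV.End A) (N : ℕ), e ≠ 0 ∧ 1 ≤ N ∧ e * e = N • e ∧
      ∀ {W : Over (Spec (CommRingCat.of K))} (f f' : W ⟶ A), Orth.bil L hL f (f' ≫ e.toHom) = 0 := by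
  obtain ⟨g, -, hg⟩ := Groth.L08.GrpDim.exists_dim A
  obtain ⟨L₀, hL₀⟩ := Degree.exists_isAmple A
  obtain ⟨m, γ, hm, hγ⟩ := Corr.exists_rep L₀ hL₀ hg L hL
  obtain ⟨hfree, hfin, -⟩ := HomFin.finite_free K A A hg hg
  haveI : Module.Free ℤ (EndAV.End A) := hfree
  haveI : Module.Finite ℤ (EndAV.End A) := hfin
  -- `γ` is a left zero divisor
  obtain ⟨ε, hε, hγε⟩ : ∃ ε : EndAV.End A, ε ≠ 0 ∧ γ * ε = 0 := by
    by_contra hcon
    push Not at hcon
    have hinj : Function.Injective (LinearMap.mulLeft ℤ γ) := fun x y h => by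
      by_contra hne
      exact hcon (x - y) (sub_ne_zero.2 hne) (by rw [mul_sub]; exact sub_eq_zero.2 h)
    obtain ⟨n, hn, δ, hδ⟩ := Corr.exists_zsmul_mem_range (LinearMap.mulLeft ℤ γ) hinj (1 : EndAV.End A)
    change γ * δ = n • 1 at hδ
    have hδ' : δ * γ = n • 1 := hinj (by
      show γ * (δ * γ) = γ * (n • 1)
      rw [← mul_assoc, hδ, smul_mul_assoc, one_mul, mul_smul_comm, mul_one])
    refine hinf ((finite_preimage_pow (n := n.natAbs * n.natAbs) (Nat.one_le_iff_ne_zero.2 (Nat.mul_ne_zero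
      (Int.natAbs_ne_zero.2 hn) (Int.natAbs_ne_zero.2 hn)))
      ((Groth.L08.Cube.finite_fixed_of_isAmple L₀ hL₀).image fun b => b ≫ (n • δ).toHom)).subset fun a ha => ?_)
    have hfix : Orth.bil L hL (𝟙 A) (toUnit A ≫ a) = 0 := by
      have h' : F L hL (trK a) = F L hL (𝟙 A) := ext_val (Eq.trans ha (pc_id L).symm)
      rwa [F_trK, add_eq_right] at h'
    refine ⟨a ≫ γ.toHom, ?_, ?_⟩
    · have hk : Orth.bil L₀ hL₀.1 (𝟙 A) (toUnit A ≫ (a ≫ γ.toHom)) = 0 := by
        rw [← Category.assoc, ← hγ, hfix, smul_zero]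
      have h' := F_trK L₀ hL₀.1 (a ≫ γ.toHom)
      rw [hk, zero_add] at h'
      exact (congrArg (fun z => (Additive.toMul z).1) h').trans (pc_id L₀)
    · show (a ≫ γ.toHom) ≫ (n • δ).toHom = a ^ (n.natAbs * n.natAbs)
      have e : (n • δ) * γ = ((n.natAbs * n.natAbs : ℕ) : EndAV.End A) := by
        rw [smul_mul_assoc, hδ', smul_smul, ← Int.natAbs_mul_self, natCast_zsmul, nsmul_one]
      rw [Category.assoc, ← EndAV.End.toHom_mul, e, EndAV.End.toHom_natCast, MonObj.comp_pow, Category.comp_id]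
  -- the abelian subvariety
  obtain ⟨B, gB, i, p, him, hic, hBp, hBg, hps, hpi, hpm⟩ := exists_image ε.toHom
  letI := gB
  haveI := him
  haveI := hic
  haveI := hBp
  haveI := hBg
  haveI := hps
  haveI := hpm
  haveI : Mono i := Groth.L08.mono_of_closedImmersion i
  haveI : IsCommMonObj B := Reducibility.isCommMonObj_of_mono i
  haveI : IsIntegral A.left := GeometricallyIntegral.isIntegral_of_subsingleton A.hom
  haveI : IsIntegral B.left := GeometricallyIntegral.isIntegral_of_subsingleton B.hom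
  haveI : IsProper (p.left ≫ B.hom) := by rw [Over.w]; infer_instance
  haveI : IsProper p.left := IsProper.of_comp p.left B.hom
  haveI : Flat p.left := Groth.L08.FlatHom.flat_of_surjective A B p
  haveI : Epi p := Over.epi_of_epi_left p
  obtain ⟨q, N, hqm, hN, hiq, -⟩ := Reducibility.exists_proj L₀ hL₀ i
  haveI := hqm
  have hiγ : i ≫ γ.toHom = 1 := by
    rw [← cancel_epi p, reassoc_of% hpi, MonObj.comp_one]
    exact congrArg EndAV.End.toHom hγε
  refine ⟨m • EndAV.End.of (q ≫ i), m * N, fun h => hε ?_, Nat.one_le_iff_ne_zero.2 (Nat.mul_ne_zero (by omega) (by omega)), ?_, fun {W} f f' => ?_⟩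
  · have h' : (m * N) • ε = 0 := by
      have e1 : N • ε = EndAV.End.of (q ≫ i) * ε := EndAV.End.ext (by
        rw [EndAV.End.toHom_mul, EndAV.End.toHom_of, EndAV.End.toHom_nsmul, ← hpi, Category.assoc,
          reassoc_of% hiq, MonObj.pow_comp, Category.id_comp, MonObj.comp_pow])
      rw [mul_smul, e1, ← smul_mul_assoc, h, zero_mul]
    let b := Module.Free.chooseBasis ℤ (EndAV.End A)
    refine b.repr.injective (Finsupp.ext fun i => ?_)
    have h'' := congrArg (fun z => b.repr z i) h'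
    simp only [map_nsmul, map_zero, Finsupp.smul_apply, Finsupp.zero_apply] at h''
    rw [nsmul_eq_mul, mul_eq_zero] at h''
    rcases h'' with h3 | h3
    · exact absurd h3 (Nat.cast_ne_zero.2 (Nat.mul_ne_zero (by omega) (by omega)))
    · rw [map_zero, Finsupp.zero_apply]; exact h3
  · have e2 : EndAV.End.of (q ≫ i) * EndAV.End.of (q ≫ i) = N • EndAV.End.of (q ≫ i) := EndAV.End.ext (by
      rw [EndAV.End.toHom_mul, EndAV.End.toHom_nsmul, EndAV.End.toHom_of, Category.assoc, reassoc_of% hiq,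
        MonObj.pow_comp, Category.id_comp, MonObj.comp_pow])
    rw [smul_mul_smul_comm, e2, smul_smul, smul_smul]
    ring_nf
  · rw [EndAV.End.toHom_nsmul, EndAV.End.toHom_of, MonObj.comp_pow, Orth.bil_pow_right, hγ, Category.assoc,
      Category.assoc, hiγ, MonObj.comp_one, MonObj.comp_one, Orth.bil_one_right]

/-- A degenerate invertible module on an abelian variety has Euler characteristic zero. -/
theorem euler_eq_zero (L : A.left.Modules) (hL : PicF.IsInvertible L)
    (hinf : Set.Infinite {a : 𝟙_ (Over (Spec (CommRingCat.of K))) ⟶ A | pc L (trK a) = PicF.cl L}) :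
    @Curv2.euler K _ A.left ⟨A.hom⟩ L = 0 := by
  obtain ⟨g, -, hg⟩ := Groth.L08.GrpDim.exists_dim A
  obtain ⟨e, N, he, hN, hee, hb⟩ := exists_endo L hL hinf
  obtain ⟨hfree, hfin, -⟩ := HomFin.finite_free K A A hg hg
  haveI : Module.Free ℤ (EndAV.End A) := hfree
  haveI : Module.Finite ℤ (EndAV.End A) := hfin
  obtain ⟨t, ⟨ψ, h1, h2⟩, hnu⟩ := exists_not_isUnit e he N hN hee
  let φ : EndAV.End A := 1 + t • e
  let ε := (t • e).toHom
  let M := (Scheme.Modules.pullback ε.left).obj L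
  have hM : PicF.IsInvertible M := Groth.L18.Ample.isInvertible_pullback _ hL
  have hb' : ∀ {W : Over (Spec (CommRingCat.of K))} (f f' : W ⟶ A), Orth.bil L hL f (f' ≫ ε) = 0 := fun f f' => by
    rw [show ε = e.toHom ^ t from EndAV.End.toHom_nsmul t e, MonObj.comp_pow, Orth.bil_pow_right, hb, smul_zero]
  have hadd : ∀ {W : Over (Spec (CommRingCat.of K))} (f f' : W ⟶ A),
      F L hL (f * (f' ≫ ε)) = F L hL f + F L hL (f' ≫ ε) := fun {W} f f' => by
    have h : Orth.bil L hL f (f' ≫ ε) = F L hL (f * (f' ≫ ε)) - F L hL f - F L hL (f' ≫ ε) := rfl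
    rw [hb'] at h
    rw [eq_comm, sub_sub, sub_eq_zero] at h
    exact h
  have hMn : ∀ n, 1 ≤ n → pc M (𝟙 A ^ n) = PicF.cl M ^ n := fun n _ => by
    have h : ∀ n : ℕ, F L hL ((𝟙 A ^ n) ≫ ε) = n • F L hL ε := fun n => by
      induction n with
      | zero => rw [pow_zero, MonObj.one_comp, F_one, zero_smul]
      | succ n ih => rw [pow_succ, MonObj.mul_comp, hadd, ih, Category.id_comp, succ_nsmul]
    have h' := congrArg (fun z => (Additive.toMul z).1) (h n)
    change pc L ((𝟙 A ^ n) ≫ ε) = _ at h'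
    rw [val_nsmul] at h'
    exact (Groth.L08.Cube.pullCl_pc L (𝟙 A ^ n) ε).trans h'
  -- `φ` is an isogeny
  obtain ⟨hf, -, hs, -⟩ := Degree.isogeny_pow (A := A) (n := 1 + t * N) (by omega)
  have hψ : φ.toHom ≫ ψ.toHom = 𝟙 A ^ (1 + t * N) := by
    rw [← EndAV.End.toHom_mul, h1, EndAV.End.toHom_nsmul, EndAV.End.toHom_one]
  have hψ' : ψ.toHom ≫ φ.toHom = 𝟙 A ^ (1 + t * N) := by
    rw [← EndAV.End.toHom_mul, h2, EndAV.End.toHom_nsmul, EndAV.End.toHom_one]
  haveI : IsFinite (φ.toHom.left ≫ ψ.toHom.left) := by rw [← Over.comp_left, hψ]; exact hf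
  haveI : IsProper (ψ.toHom.left ≫ A.hom) := by rw [Over.w]; infer_instance
  haveI : IsProper ψ.toHom.left := IsProper.of_comp ψ.toHom.left A.hom
  haveI : IsFinite φ.toHom.left := IsFinite.of_comp φ.toHom.left ψ.toHom.left
  haveI : Surjective (ψ.toHom.left ≫ φ.toHom.left) := by rw [← Over.comp_left, hψ']; exact hs
  haveI : Surjective φ.toHom.left := Surjective.of_comp ψ.toHom.left φ.toHom.left
  haveI : IsIntegral A.left := GeometricallyIntegral.isIntegral_of_subsingleton A.hom
  haveI : IsLocallyNoetherian A.left := LocallyOfFiniteType.isLocallyNoetherian A.hom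
  haveI : Flat φ.toHom.left := Groth.L08.FlatHom.flat_of_surjective A A φ.toHom
  haveI : LocallyOfFinitePresentation φ.toHom.left := LocallyOfFinitePresentation.iff_locallyOfFiniteType.2 inferInstance
  obtain ⟨d, hd⟩ : ∃ d, ∀ y, φ.toHom.left.finrank y = d := ⟨φ.toHom.left.finrank (genericPoint A.left), fun y =>
    (Scheme.Hom.isLocallyConstant_finrank φ.toHom.left).apply_eq_of_preconnectedSpace _ _⟩
  have h := Groth.Agent.Pic0.EulerPull.euler_isogeny φ.toHom hd (Groth.L18.Ample.isCoh_of_isInvertible hL)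
  rw [Groth.Agent.Pic0.EulerHomog.euler_twist hg L M _ hL hM hMn (by
    show pc L φ.toHom = PicF.cl L * pc L ε
    rw [show φ.toHom = 𝟙 A * (𝟙 A ≫ ε) by rw [Category.id_comp]; rfl]
    have h' := congrArg (fun z => (Additive.toMul z).1) (hadd (𝟙 A) (𝟙 A))
    change pc L (𝟙 A * (𝟙 A ≫ ε)) = pc L (𝟙 A) * pc L (𝟙 A ≫ ε) at h'
    rw [h', pc_id, Category.id_comp])] at h
  by_contra hne
  have hd1 : d = 1 := by
    have h' : (d : ℤ) = 1 := mul_right_cancel₀ hne (by rw [← h, one_mul])
    exact_mod_cast h'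
  haveI : IsIso φ.toHom.left := (Scheme.Hom.isIso_iff_finrank_eq φ.toHom.left).2 (funext fun y => (hd y).trans hd1)
  haveI : IsIso φ.toHom := by
    haveI : IsIso ((Over.forget _).map φ.toHom) := ‹IsIso φ.toHom.left›
    exact isIso_of_reflects_iso φ.toHom (Over.forget _)
  haveI : IsMonHom (inv φ.toHom) :=
    Groth.Agent.AV.isMonHom_of_one _ (by rw [IsIso.comp_inv_eq]; exact (IsMonHom.one_hom φ.toHom).symm)
  exact hnu ⟨⟨φ, EndAV.End.of (inv φ.toHom), EndAV.End.ext (by simp), EndAV.End.ext (by simp)⟩, rfl⟩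

end Groth.Agent.Pic0.EulerDeg
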