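import Groth.Agent.L26.Poincare.Reducibility
import Groth.Agent.L26.AV.DimQF

/-!
# Quasi-sections of surjective homomorphisms of abelian varieties
-/

set_option autoImplicit false
set_option linter.style.haveILetI false
set_option linter.unusedSectionVars false
set_option backward.isDefEq.respectTransparency false

universe u

open CategoryTheory CategoryTheory.Limits MonoidalCategory CartesianMonoidalCategory AlgebraicGeometry TopologicalSpace
open scoped MonObj

noncomputable section

namespace Groth.Agent.Pic0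

open Groth.L08.Cube (kpt kpt_injective exists_kpt isClosed_kpt eq_top_of_closedPoints)

variable {K : Type u} [Field K] [IsAlgClosed K]

/-- Rational points lift along surjective morphisms. -/
theorem exists_point_lift {X Y : Over (Spec (CommRingCat.of K))} [LocallyOfFiniteType X.hom]
    [LocallyOfFiniteType Y.hom] (φ : X ⟶ Y) [Surjective φ.left]
    (b : 𝟙_ (Over (Spec (CommRingCat.of K))) ⟶ Y) :
    ∃ a : 𝟙_ (Over (Spec (CommRingCat.of K))) ⟶ X, a ≫ φ = b := by
  haveI : JacobsonSpace X.left := LocallyOfFiniteType.jacobsonSpace X.hom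
  obtain ⟨x, hx⟩ := φ.left.surjective (kpt b)
  obtain ⟨z, hz, hzc⟩ := nonempty_inter_closedPoints (Z := φ.left ⁻¹' {kpt b}) ⟨x, hx⟩
    ((isClosed_kpt b).preimage φ.left.continuous).isLocallyClosed
  obtain ⟨a, rfl⟩ := exists_kpt z (mem_closedPoints_iff.1 hzc)
  exact ⟨a, kpt_injective ((Scheme.Hom.comp_apply a.left φ.left _).trans hz)⟩

/-- Only finitely many rational points lie in the kernel of a finite morphism. -/
theorem finite_ker_of_isFinite {X Y : Over (Spec (CommRingCat.of K))} [LocallyOfFiniteType X.hom]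
    [GrpObj Y] [LocallyOfFiniteType Y.hom] (φ : X ⟶ Y) [IsFinite φ.left] :
    Set.Finite {a : 𝟙_ (Over (Spec (CommRingCat.of K))) ⟶ X | a ≫ φ = 1} := by
  refine ((φ.left.finite_preimage_singleton (kpt (1 : 𝟙_ (Over (Spec (CommRingCat.of K))) ⟶ Y))).preimage
    (kpt_injective (A := X)).injOn).subset fun a ha => ?_
  show φ.left (kpt a) = _
  rw [← show a ≫ φ = 1 from ha]
  exact (Scheme.Hom.comp_apply a.left φ.left _).symm

/-- A homomorphism from a proper group with finitely many rational points in the kernel is finite. -/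
theorem isFinite_of_finite_ker {X Y : Over (Spec (CommRingCat.of K))} [GrpObj X] [GrpObj Y]
    [IsProper X.hom] [IsProper Y.hom] (φ : X ⟶ Y) [IsMonHom φ]
    (hker : Set.Finite {a : 𝟙_ (Over (Spec (CommRingCat.of K))) ⟶ X | a ≫ φ = 1}) : IsFinite φ.left := by
  haveI : IsProper (φ.left ≫ Y.hom) := by rw [Over.w]; infer_instance
  haveI : IsProper φ.left := IsProper.of_comp φ.left Y.hom
  haveI : JacobsonSpace X.left := LocallyOfFiniteType.jacobsonSpace X.hom
  have key : ∀ x : X.left, IsClosed ({x} : Set X.left) → φ.left.QuasiFiniteAt x := by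
    intro x hx
    obtain ⟨a₀, rfl⟩ := exists_kpt x hx
    have hy : IsClosed ({φ.left (kpt a₀)} : Set Y.left) := by
      rw [← Set.image_singleton]
      exact φ.left.isClosedMap _ hx
    let T := φ.left ⁻¹' {φ.left (kpt a₀)}
    have hT : IsClosed T := hy.preimage φ.left.continuous
    have hsub : T ∩ closedPoints X.left ⊆
        kpt '' ((· * a₀) '' {a : 𝟙_ (Over (Spec (CommRingCat.of K))) ⟶ X | a ≫ φ = 1}) := by
      rintro z ⟨hz, hzc⟩
      obtain ⟨b, rfl⟩ := exists_kpt z (mem_closedPoints_iff.1 hzc)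
      have hb : b ≫ φ = a₀ ≫ φ := kpt_injective (A := Y) (by
        show (b ≫ φ).left _ = (a₀ ≫ φ).left _
        simpa [T, kpt] using hz)
      exact ⟨b, ⟨b * a₀⁻¹, by simp [MonObj.mul_comp, GrpObj.inv_comp, hb], by simp⟩, rfl⟩
    have hfin0 : (T ∩ closedPoints X.left).Finite := ((hker.image _).image _).subset hsub
    have hcl0 : IsClosed (T ∩ closedPoints X.left) := by
      have := hfin0.isClosed_biUnion (f := fun z => ({z} : Set X.left)) fun z hz => mem_closedPoints_iff.1 hz.2
      rwa [Set.biUnion_of_singleton] at this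
    have hTeq : T ∩ closedPoints X.left = T := by
      have h1 := JacobsonSpace.closure_inter_closedPoints hT
      rwa [hcl0.closure_eq] at h1
    have hfin : T.Finite := hTeq ▸ hfin0
    let iF := φ.left.fiberι (φ.left (kpt a₀))
    have hiF : ∀ z, iF z ∈ T := fun z => by
      have : iF z ∈ Set.range iF := ⟨z, rfl⟩
      rwa [Scheme.Hom.range_fiberι] at this
    haveI : Finite ↥(φ.left.fiber (φ.left (kpt a₀))) :=
      Set.finite_univ_iff.1 ((hfin.preimage iF.isEmbedding.injective.injOn).subset fun z _ => hiF z)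
    haveI : T1Space ↥(φ.left.fiber (φ.left (kpt a₀))) := ⟨fun z => by
      have hz := hiF z
      rw [← hTeq] at hz
      have := (mem_closedPoints_iff.1 hz.2).preimage iF.continuous
      rwa [← Set.image_singleton, iF.isEmbedding.injective.preimage_image] at this⟩
    exact (Scheme.Hom.quasiFiniteAt_iff_isOpen_singleton_asFiber).2 (isOpen_discrete _)
  haveI : LocallyQuasiFinite φ.left := φ.left.quasiFiniteLocus_eq_top_iff.1 (eq_top_of_closedPoints _ key)
  exact IsFinite.of_isProper_of_locallyQuasiFinite _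

variable {B C : Over (Spec (CommRingCat.of K))}
  [GrpObj B] [IsCommMonObj B] [IsProper B.hom] [GeometricallyIntegral B.hom]
  [GrpObj C] [IsCommMonObj C] [IsProper C.hom] [GeometricallyIntegral C.hom]

/-- A surjective homomorphism of abelian varieties has a quasi-section. -/
theorem exists_quasiSection (β : B ⟶ C) [IsMonHom β] [Surjective β.left] :
    ∃ (s : C ⟶ B) (N : ℕ), IsMonHom s ∧ 1 ≤ N ∧ s ≫ β = 𝟙 C ^ N := by
  let H : Subgroup (𝟙_ (Over (Spec (CommRingCat.of K))) ⟶ B) :=
    { carrier := {b | b ≫ β = 1}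
      one_mem' := MonObj.one_comp β
      mul_mem' := fun {a b} ha hb => by
        show (a * b) ≫ β = 1
        rw [MonObj.mul_comp, show a ≫ β = 1 from ha, show b ≫ β = 1 from hb, mul_one]
      inv_mem' := fun {a} ha => by
        show a⁻¹ ≫ β = 1
        rw [GrpObj.inv_comp, show a ≫ β = 1 from ha, inv_one] }
  obtain ⟨G, gG, i, him, hic, hir, hlift⟩ := Groth.Agent.AV.PointClosure.exists_closureSubgroup H
  letI := gG
  haveI := him
  haveI := hic
  haveI : IsProper G.hom := by rw [← Over.w i]; infer_instance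
  have hiH : ∀ g : 𝟙_ (Over (Spec (CommRingCat.of K))) ⟶ G, (g ≫ i) ≫ β = 1 := fun g => by
    refine kpt_injective (A := C) ?_
    show ((g ≫ i) ≫ β).left _ = _
    rw [Over.comp_left, Scheme.Hom.comp_apply]
    have hcl : IsClosed (β.left ⁻¹' {kpt (1 : 𝟙_ (Over (Spec (CommRingCat.of K))) ⟶ C)}) :=
      (isClosed_kpt _).preimage β.left.continuous
    refine closure_minimal (fun x hx => ?_) hcl (hir ▸ ⟨g.left _, (Scheme.Hom.comp_apply g.left i.left _).symm⟩ :
      (g ≫ i).left _ ∈ closure {x | ∃ h ∈ H, x = kpt h})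
    obtain ⟨h, hh, rfl⟩ := hx
    show β.left (kpt h) = _
    rw [← show h ≫ β = 1 from hh]
    exact (Scheme.Hom.comp_apply h.left β.left _).symm
  obtain ⟨B₀, gB₀, j, hjm, hjc, hB₀p, hB₀g, hjr⟩ := Groth.Agent.AV.Subgroup.exists_redComponent G
  letI := gB₀
  haveI := hjm
  haveI := hjc
  haveI := hB₀p
  haveI := hB₀g
  haveI : IsCommMonObj B₀ := isCommMonObj_of_isProper_of_geometricallyIntegral B₀
  haveI : IsClosedImmersion (j ≫ i).left := inferInstanceAs (IsClosedImmersion (j.left ≫ i.left))
  obtain ⟨D, gD, jD, hDp, hDg, hjDm, hjDc, hns, hnf⟩ := Groth.Agent.Poincare.Reducibility.exists_complement (j ≫ i)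
  letI := gD
  haveI := hDp
  haveI := hDg
  haveI := hjDm
  haveI : IsCommMonObj D := isCommMonObj_of_isProper_of_geometricallyIntegral D
  let n := (fst B₀ D ≫ j ≫ i) * (snd B₀ D ≫ jD)
  haveI : Surjective n.left := hns
  haveI : IsFinite n.left := hnf
  haveI : IsProper (fst B₀ D).left :=
    MorphismProperty.of_isPullback (Groth.L08.Cube.isPullback_prod B₀ D).flip ‹IsProper D.hom›
  haveI : IsProper (B₀ ⊗ D).hom := by rw [← Over.w (fst B₀ D)]; infer_instance
  let h := jD ≫ β
  haveI : IsMonHom h := inferInstanceAs (IsMonHom (jD ≫ β))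
  haveI : JacobsonSpace C.left := LocallyOfFiniteType.jacobsonSpace C.hom
  -- surjectivity
  have hpts : ∀ c : 𝟙_ (Over (Spec (CommRingCat.of K))) ⟶ C, ∃ d, d ≫ h = c := fun c => by
    obtain ⟨b, hb⟩ := exists_point_lift β c
    obtain ⟨p, hp⟩ := exists_point_lift n b
    refine ⟨p ≫ snd B₀ D, ?_⟩
    have h1 := hb
    rw [← hp, MonObj.comp_mul, MonObj.mul_comp] at h1
    rw [show (p ≫ fst B₀ D ≫ j ≫ i) ≫ β = 1 by
      have := hiH (p ≫ fst B₀ D ≫ j)
      simpa only [Category.assoc] using this, one_mul] at h1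
    simpa only [h, Category.assoc] using h1
  haveI : IsProper (h.left ≫ C.hom) := by rw [Over.w]; infer_instance
  haveI : IsProper h.left := IsProper.of_comp h.left C.hom
  haveI : Surjective h.left := ⟨fun y => by
    by_contra hy
    obtain ⟨z, hz, hzc⟩ := nonempty_inter_closedPoints (Z := (Set.range h.left)ᶜ) ⟨y, hy⟩
      h.left.isClosedMap.isClosed_range.isOpen_compl.isLocallyClosed
    obtain ⟨c, rfl⟩ := exists_kpt z (mem_closedPoints_iff.1 hzc)
    obtain ⟨d, rfl⟩ := hpts c
    exact hz ⟨kpt d, (Scheme.Hom.comp_apply d.left h.left _).symm⟩⟩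
  -- finiteness
  have hfin : Set.Finite {d : 𝟙_ (Over (Spec (CommRingCat.of K))) ⟶ D | d ≫ h = 1} := by
    haveI : IsLocallyNoetherian G.left := LocallyOfFiniteType.isLocallyNoetherian G.hom
    haveI : CompactSpace G.left := QuasiCompact.compactSpace_of_compactSpace G.hom
    haveI : IsNoetherian G.left := {}
    haveI : Finite (irreducibleComponents G.left) :=
      (TopologicalSpace.NoetherianSpace.finite_irreducibleComponents (α := G.left)).to_subtype
    have hk := finite_ker_of_isFinite n
    let S := {d : 𝟙_ (Over (Spec (CommRingCat.of K))) ⟶ D | d ≫ h = 1}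
    have hS : ∀ d : S, ∃ g, g ≫ i = d.1 ≫ jD := fun d => hlift _ (by
      show (d.1 ≫ jD) ≫ β = 1
      rw [Category.assoc]
      exact d.2)
    let cls : S → irreducibleComponents G.left := fun d =>
      ⟨connectedComponent (kpt (hS d).choose), Groth.L25.Component.connectedComponent_mem G _⟩
    refine Set.finite_coe_iff.1 (show Finite S from ?_)
    haveI := hk.to_subtype
    haveI : Nonempty S := ⟨⟨1, MonObj.one_comp h⟩⟩
    let rep : S → S := fun d => Function.invFun cls (cls d)
    have hrep : ∀ d, cls (rep d) = cls d := fun d => Function.invFun_eq ⟨d, rfl⟩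
    have hc : ∀ d : S, ∃ c : 𝟙_ (Over (Spec (CommRingCat.of K))) ⟶ B₀, lift c⁻¹ (d.1 * (rep d).1⁻¹) ≫ n = 1 := by
      intro d
      let P := (hS d).choose
      let Q := (hS (rep d)).choose
      have hP : P ≫ i = d.1 ≫ jD := (hS d).choose_spec
      have hQ : Q ≫ i = (rep d).1 ≫ jD := (hS (rep d)).choose_spec
      let f : G ⟶ G := 𝟙 G * (toUnit G ≫ Q⁻¹)
      have hf : ∀ R : 𝟙_ (Over (Spec (CommRingCat.of K))) ⟶ G, f.left (kpt R) = kpt (R * Q⁻¹) := fun R => by
        have h2 : R ≫ f = R * Q⁻¹ := by simp [f, MonObj.comp_mul]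
        rw [← h2]
        exact (Scheme.Hom.comp_apply R.left f.left _).symm
      have h1 : kpt (P * Q⁻¹) ∈ Set.range j.left := by
        have hone : kpt (Q * Q⁻¹) = Groth.L25.Component.one G := by
          rw [mul_inv_cancel]
          simp [kpt, Groth.L25.Component.one, Hom.one_def]
        rw [hjr, ← hone, ← hf, ← hf]
        refine f.left.continuous.mapsTo_connectedComponent _ ?_
        rw [show connectedComponent (kpt Q) = connectedComponent (kpt P) from congrArg Subtype.val (hrep d)]
        exact mem_connectedComponent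
      obtain ⟨x, hx⟩ := h1
      have hxc : IsClosed ({x} : Set B₀.left) := by
        have h3 := (isClosed_kpt (P * Q⁻¹)).preimage j.left.continuous
        rwa [← hx, ← Set.image_singleton, j.left.isClosedEmbedding.injective.preimage_image] at h3
      obtain ⟨c, rfl⟩ := exists_kpt x hxc
      refine ⟨c, ?_⟩
      have h4 : c ≫ j = P * Q⁻¹ := kpt_injective (A := G) ((Scheme.Hom.comp_apply c.left j.left _).trans hx)
      have h5 : c ≫ j ≫ i = (d.1 * (rep d).1⁻¹) ≫ jD := by
        rw [← Category.assoc, h4, MonObj.mul_comp, GrpObj.inv_comp, hP, hQ, MonObj.mul_comp, GrpObj.inv_comp]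
      rw [MonObj.comp_mul, lift_fst_assoc, lift_snd_assoc, GrpObj.inv_comp, h5, inv_mul_cancel]
    haveI : Finite {p : 𝟙_ (Over (Spec (CommRingCat.of K))) ⟶ B₀ ⊗ D // p ≫ n = 1} := hk.to_subtype
    refine Finite.of_injective (fun d => (cls d, (⟨_, (hc d).choose_spec⟩ :
      {p : 𝟙_ (Over (Spec (CommRingCat.of K))) ⟶ B₀ ⊗ D // p ≫ n = 1}))) fun d d' he => ?_
    obtain ⟨he1, he2⟩ := Prod.ext_iff.1 he
    have h6 := congrArg (· ≫ snd B₀ D) (congrArg Subtype.val he2)
    simp only [lift_snd] at h6
    rw [show rep d' = rep d from congrArg (Function.invFun cls) he1.symm] at h6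
    exact Subtype.ext (mul_right_cancel h6)
  haveI : IsFinite h.left := isFinite_of_finite_ker h hfin
  obtain ⟨g, N, hg, hN, -, hgh⟩ := Groth.Agent.Poincare.Reducibility.exists_inverse h
  haveI := hg
  exact ⟨g ≫ jD, N, inferInstance, hN, by rw [Category.assoc, hgh]⟩

end Groth.Agent.Pic0
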