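/-
The Mumford bundle of an ample module descends to `A ×_k (A/K(L))`.
-/
import Groth.Agent.L26.KL.Exists
import Groth.Agent.L26.KL.Finite
import Groth.Agent.L26.KL.MulN
import Groth.Agent.L26.Pic0.QuasiSection
import Groth.Agent.L26.AbDual.Setting
import Groth.Agent.L26.AbDual.Primitive
import Groth.Agent.L26.AV.GroupSep
import Groth.Agent.L26.Theta.QuotAV
import Groth.Agent.L08.AbelianGrp
import Groth.Agent.L08.SubgroupObj
import Groth.Agent.S12403
import Mathlib.AlgebraicGeometry.Group.Abelian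

open CategoryTheory CategoryTheory.Limits AlgebraicGeometry TopologicalSpace Opposite
open MonoidalCategory CartesianMonoidalCategory MonObj GrpObj
open Groth.L08.Cube (pc)
open Groth.Agent.AbDualLib Groth.Agent.KLLib Groth.Agent.KLMulN

universe u

noncomputable section

namespace Groth.Agent.MumfordQuot

set_option backward.isDefEq.respectTransparency false
set_option backward.isDefEq.respectTransparency.types false
set_option linter.style.haveILetI false
set_option linter.unusedSectionVars false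

attribute [local instance] Groth.L08.Cube.clMonoid

variable {k : Type u} [Field k] [IsAlgClosed k] {A : Over (Spec (CommRingCat.of k))} [GrpObj A] [IsCommMonObj A]
  [IsProper A.hom] [GeometricallyIntegral A.hom] (L : A.left.Modules) (hL : PicF.IsInvertible L)

theorem isInvertibleCl_bil {V : Over (Spec (CommRingCat.of k))} (a b : V ⟶ A) :
    PicF.IsInvertibleCl ((bil L hL a b : (PicF.Cl V.left)ˣ) : PicF.Cl V.left) := by
  have h1 : ∀ x : V ⟶ A, PicF.IsInvertibleCl (((u' L hL x)⁻¹ : (PicF.Cl V.left)ˣ) : PicF.Cl V.left) := fun x =>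
    (Groth.L08.Cube.exists_inverseCl (Groth.L08.Cube.isInvertibleCl_pc L hL x)).choose_spec.1
  rw [bil, _root_.mul_inv, Units.val_mul, Units.val_mul]
  exact isInvertibleCl_mulCl (Groth.L08.Cube.isInvertibleCl_pc L hL _) (isInvertibleCl_mulCl (h1 _) (h1 _))

theorem bil_mul_right {V : Over (Spec (CommRingCat.of k))} (a b c : V ⟶ A) :
    bil L hL a (b * c) = bil L hL a b * bil L hL a c := by
  rw [bil_comm, bil_mul_left, bil_comm L hL a, bil_comm L hL a]

theorem bil_one_right {V : Over (Spec (CommRingCat.of k))} (a : V ⟶ A) : bil L hL a 1 = 1 := by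
  rw [bil_comm, bil_one_left]

theorem pullCl_bil {V W : Over (Spec (CommRingCat.of k))} (g : V ⟶ W) (a b : W ⟶ A) :
    PicF.pullCl g.left ((bil L hL a b : (PicF.Cl W.left)ˣ) : PicF.Cl W.left) =
      ((bil L hL (g ≫ a) (g ≫ b) : (PicF.Cl V.left)ˣ) : PicF.Cl V.left) := by
  rw [← Units.mul_left_inj (u' L hL (g ≫ a) * u' L hL (g ≫ b)), ← Units.val_mul, bil, bil,
    inv_mul_cancel_right]
  show _ * (pc L (g ≫ a) * pc L (g ≫ b)) = pc L (g ≫ a * g ≫ b)
  rw [← MonObj.comp_mul, ← Groth.L08.Cube.pullCl_pc, ← Groth.L08.Cube.pullCl_pc, ← Groth.L08.Cube.pullCl_pc,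
    ← Groth.L08.Cube.pullCl_mul, ← Groth.L08.Cube.pullCl_mul]
  refine congrArg _ ?_
  show ((_ * (_ * _)⁻¹ * (u' L hL a * u' L hL b) : (PicF.Cl W.left)ˣ) : PicF.Cl W.left) = _
  rw [inv_mul_cancel_right]
  rfl

theorem inv_iff_bil {T : Over (Spec (CommRingCat.of k))} (z : T ⟶ A) :
    Inv (PicF.cl L) z ↔ bil L hL (fst A T) (snd A T ≫ z) = 1 := (bil_eq_one_iff L hL _ _).symm

include hL in
/-- `A/K(L)` and the descended Mumford bundle. -/
theorem exists_quotient_poincare (hLa : CohB1.IsAmple L) :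
    ∃ (Ah : Over (Spec (CommRingCat.of k))) (_ : GrpObj Ah) (q : A ⟶ Ah) (c : PicF.Cl (A ⊗ Ah).left),
      IsCommMonObj Ah ∧ IsProper Ah.hom ∧ GeometricallyIntegral Ah.hom ∧ IsMonHom q ∧ IsFinite q.left ∧
      Flat q.left ∧ Surjective q.left ∧ PicF.IsInvertibleCl c ∧
      PicF.pullCl (A ◁ q).left c = ((bil L hL (fst A A) (snd A A) : (PicF.Cl (A ⊗ A).left)ˣ) : PicF.Cl (A ⊗ A).left) ∧
      ∀ {T : Over (Spec (CommRingCat.of k))} (z : T ⟶ A), bil L hL (fst A T) (snd A T ≫ z) = 1 → z ≫ q = 1 := by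
  haveI : Smooth A.hom :=
    haveI : GrpObj (Over.mk A.hom) := inferInstanceAs (GrpObj A)
    smooth_of_grpObj A.hom
  haveI : LocallyOfFiniteType (𝟙_ (Over (Spec (CommRingCat.of k)))).hom := inferInstanceAs (LocallyOfFiniteType (𝟙 _))
  have h1 : PicF.pullCl η[A].left (PicF.cl L) = oneCl _ := pullCl_unit_eq_one ⟨L, rfl, hL⟩
  obtain ⟨K, i, hK⟩ := exists_isKL k A L hL
  haveI : IsClosedImmersion i.left := hK.closed
  haveI : Mono i := Over.mono_of_mono_left i
  have hinv : ∀ {T : Over (Spec (CommRingCat.of k))} (y : T ⟶ K), Inv (PicF.cl L) (y ≫ i) := fun y =>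
    (factors_iff L hL h1 hK).1 ⟨y, rfl⟩
  obtain ⟨_, _⟩ := Groth.L08.exists_grpObj_of_mono i ((factors_iff L hL h1 hK).2 (by
      rw [show η[A] = (1 : 𝟙_ (Over (Spec (CommRingCat.of k))) ⟶ A) by rw [Hom.one_def, toUnit_unit, Category.id_comp]]
      exact inv_one h1))
    ((factors_iff L hL h1 hK).2 ((hinv (fst K K)).mul (hinv (snd K K))))
    ((factors_iff L hL h1 hK).2 (by
      have := (hinv (𝟙 K)).inv ⟨L, rfl, hL⟩ h1
      rwa [Category.id_comp] at this))
  obtain ⟨Ah, _, q, _, hsurj, hflat, hlfp, hlft, hqc, hcomm, hker⟩ := Groth.L08.AbelianGrp.exists_quotient i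
  haveI := hsurj; haveI := hflat; haveI := hlfp; haveI := hlft
  haveI : IsSeparated Ah.hom := Groth.Agent.AV.isSeparated_of_grpObj Ah
  haveI hp : IsProper Ah.hom := Groth.Agent.ThetaQuot.isProper_of_surjective A.hom Ah.hom q.left (Over.w q)
  haveI hgi : GeometricallyIntegral Ah.hom :=
    Groth.Agent.ThetaQuot.geometricallyIntegral_of_flat_surjective A.hom Ah.hom q.left (Over.w q)
  -- the kernel is finite
  have hker' : ∀ {T : Over (Spec (CommRingCat.of k))} (z : T ⟶ A), z ≫ q = 1 → ∃ y : T ⟶ K, y ≫ i = z :=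
    fun z hz => ⟨hker.lift z (toUnit _) (hz.trans (Hom.one_def)), hker.lift_fst _ _ _⟩
  haveI hKfin : IsFinite K.hom :=
    KLFinite.isFinite L (Groth.L18.Ample.isRelAmple_of_isAmple hLa) hL K i hK
  haveI hfin : IsFinite q.left := by
    refine Groth.Agent.Pic0.isFinite_of_finite_ker q ?_
    haveI : IsFinite (toUnit K).left := by
      rw [Over.toUnit_left]
      exact hKfin
    refine ((Groth.Agent.Pic0.finite_ker_of_isFinite (toUnit K)).image (· ≫ i)).subset fun a ha => ?_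
    obtain ⟨y, hy⟩ := hker' a ha
    exact ⟨y, toUnit_unique _ _, hy⟩
  -- descent along `q`
  let T' := AbDual.ovr Ah q.left
  let ν : T' ⟶ A := Over.homMk (𝟙 A.left) (by
    show 𝟙 A.left ≫ A.hom = q.left ≫ Ah.hom
    rw [Over.w q]; exact Category.id_comp _)
  let ν' : A ⟶ T' := Over.homMk (𝟙 A.left) (by
    show 𝟙 A.left ≫ q.left ≫ Ah.hom = A.hom
    rw [Over.w q]; exact Category.id_comp _)
  let Λ := bil L hL (fst A A) (snd A A)
  have hΛ : ∀ {T : Over (Spec (CommRingCat.of k))} (g : T ⟶ A), PicF.pullCl (A ◁ g).left (Λ : PicF.Cl (A ⊗ A).left) =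
      ((bil L hL (fst A T) (snd A T ≫ g) : (PicF.Cl (A ⊗ T).left)ˣ) : PicF.Cl (A ⊗ T).left) := fun g => by
    rw [pullCl_bil, whiskerLeft_fst, whiskerLeft_snd]
  have hglue : ∀ {V : Over (Spec (CommRingCat.of k))} (g g' : V ⟶ A), g ≫ q = g' ≫ q →
      PicF.pullCl (A ◁ g).left (Λ : PicF.Cl (A ⊗ A).left) = PicF.pullCl (A ◁ g').left (Λ : PicF.Cl (A ⊗ A).left) := by
    intro V g g' h
    obtain ⟨y, hy⟩ := hker' (g⁻¹ * g') (by rw [MonObj.mul_comp, GrpObj.inv_comp, h, inv_mul_cancel])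
    have h0 := (inv_iff_bil L hL _).1 (hinv y)
    rw [hy, MonObj.comp_mul, bil_mul_right] at h0
    have h2 : bil L hL (fst A V) (snd A V ≫ g) * bil L hL (fst A V) (snd A V ≫ g⁻¹) = 1 := by
      rw [← bil_mul_right, ← MonObj.comp_mul, mul_inv_cancel, MonObj.comp_one, bil_one_right]
    rw [hΛ, hΛ, mul_right_cancel (h2.trans (h0.symm.trans (mul_comm _ _)))]
  have hνν : ν' ≫ ν = 𝟙 A := Over.OverMorphism.ext (Category.comp_id _)
  have hq : ν ≫ q = AbDual.ovrHom Ah q.left := Over.OverMorphism.ext (Category.id_comp _)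
  have hX : ∀ {T T'' : Over (Spec (CommRingCat.of k))} (g : T'' ⟶ T) (c : PicF.Cl (A ⊗ T).left),
      PicF.pullCl (PicF.XTmap A.hom g) c = PicF.pullCl (A ◁ g).left c := fun g c => by rw [XTmap_eq_whiskerLeft]
  have hW : ∀ {T T'' T₃ : Over (Spec (CommRingCat.of k))} (g : T'' ⟶ T) (g' : T₃ ⟶ T'') (c : PicF.Cl (A ⊗ T).left),
      PicF.pullCl (A ◁ g').left (PicF.pullCl (A ◁ g).left c) = PicF.pullCl (A ◁ (g' ≫ g)).left c := fun g g' c => by
    rw [MonoidalCategory.whiskerLeft_comp]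
    exact pullCl_left_comp _ _ c
  let c' : PicF.Rig A.hom η[A].left (Over.w η[A]) T' := ⟨PicF.pullCl (A ◁ ν).left (Λ : PicF.Cl (A ⊗ A).left),
    PicLoc.isInvertibleCl_pullCl _ (isInvertibleCl_bil L hL _ _), by
      show PicF.pullCl _ _ = oneCl _
      rw [secT_eq_lift, hΛ, pullCl_bil, lift_fst, lift_snd_assoc, Category.id_comp, ← Hom.one_def, bil_one_left]
      rfl⟩
  haveI : Subsingleton ↥(Spec (CommRingCat.of k)) := inferInstanceAs (Subsingleton (PrimeSpectrum k))
  haveI : Surjective A.hom := ⟨fun y => ⟨η[A].left y, Subsingleton.elim _ _⟩⟩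
  haveI : GeometricallyConnected A.hom := AV.Isogeny.geometricallyConnected A.hom
  obtain ⟨⟨c, hcI, _⟩, hcq, _⟩ := Groth.Agent.S12403.result A.hom η[A].left (Over.w η[A])
    (fun T U => isIso_app_XTproj A.hom (fun s => AV.fibConst_of_geometrically A.hom s) η[A].left (Over.w η[A]) T U)
    Ah q.left c' (by
      show PicF.pullCl (PicF.XTmap A.hom _) (PicF.pullCl (A ◁ ν).left _) =
        PicF.pullCl (PicF.XTmap A.hom _) (PicF.pullCl (A ◁ ν).left _)
      rw [hX, hX, hW, hW]
      refine hglue _ _ ?_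
      rw [Category.assoc, Category.assoc, hq]
      exact Over.OverMorphism.ext pullback.condition)
  refine ⟨Ah, inferInstance, q, c, hcomm, hp, hgi, inferInstance, hfin, hflat, hsurj, hcI, ?_, fun z hz => ?_⟩
  · have h := congrArg (PicF.pullCl (A ◁ ν').left) hcq
    simp only [hX] at h
    rw [hW, hW, ← hq, ← Category.assoc, hνν, Category.id_comp, MonoidalCategory.whiskerLeft_id, Over.id_left,
      PicLoc.pullCl_id] at h
    exact h
  · obtain ⟨y, hy⟩ := (factors_iff L hL h1 hK).2 ((inv_iff_bil L hL z).2 hz)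
    rw [← hy, Category.assoc, hker.w, ← Category.assoc, comp_toUnit, Hom.one_def]

end Groth.Agent.MumfordQuot
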