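import Groth.Agent.L26.Pic0.Basic
import Groth.Agent.L17.FlatBase.CxIso
import Groth.Agent.L26.AV.FieldTrivial
import Groth.Agent.L08.Cube.SliceFibre
import Groth.Agent.L16.Existence.Vanishing
import Groth.Agent.L00.TensorQCoh
import Groth.Agent.L16.AffineBC.Pullback

/-!
# Cohomology of a non-trivial primitive invertible module on an abelian variety
-/

set_option autoImplicit false
set_option linter.style.haveILetI false
set_option linter.unusedSectionVars false
set_option backward.isDefEq.respectTransparency false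

universe u

open CategoryTheory CategoryTheory.Limits MonoidalCategory CartesianMonoidalCategory AlgebraicGeometry
open scoped MonObj

noncomputable section

namespace Groth.Agent.Pic0

open Groth.L08.Cube Groth.Agent.AbDualLib

attribute [local instance] clMonoid

variable {k : Type u} [Field k] {X : Over (Spec (CommRingCat.of k))}
  [GrpObj X] [IsProper X.hom] [GeometricallyIntegral X.hom]

/-- The shear `(x, y) ↦ (x + y, y)`. -/
def shear : X ⊗ X ⟶ X ⊗ X := lift (fst X X * snd X X) (snd X X)

theorem isIso_shear : IsIso (shear (X := X)) := by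
  refine ⟨lift (fst X X * (snd X X)⁻¹) (snd X X), ?_, ?_⟩ <;> apply CartesianMonoidalCategory.hom_ext <;>
    simp [shear, MonObj.comp_mul, GrpObj.comp_inv]

theorem shear_fst : (shear (X := X)).left ≫ (fst X X).left = μ[X].left := by
  rw [← Over.comp_left]
  refine congrArg CommaMorphism.left ((lift_fst _ _).trans ?_)
  simp [Hom.mul_def]

theorem pc_eq_pullCl {W : Over (Spec (CommRingCat.of k))} (φ : W ⟶ X) (N : X.left.Modules) :
    pc N φ = PicF.cl ((Scheme.Modules.pullback φ.left).obj N) := rfl

variable (N : X.left.Modules) (hN : PicF.IsInvertible N)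
  (hμ : Nonempty ((Scheme.Modules.pullback μ[X].left).obj N ≅
      CohB1.tensorMod ((Scheme.Modules.pullback (fst X X).left).obj N)
        ((Scheme.Modules.pullback (snd X X).left).obj N)))

include hμ in
theorem pc_mul {W : Over (Spec (CommRingCat.of k))} (a b : W ⟶ X) : pc N (a * b) = pc N a * pc N b := by
  obtain ⟨e⟩ := hμ
  have h : pc N μ[X] = pc N (fst X X) * pc N (snd X X) := cl_congr e
  have h' := congrArg (PicF.pullCl (lift a b).left) h
  rwa [pullCl_mul, pullCl_pc, pullCl_pc, pullCl_pc, lift_fst, lift_snd, ← Hom.mul_def] at h'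

include hN hμ in
/-- A non-trivial primitive module has no global sections. -/
theorem subsingleton_Γ (hne : ¬ Nonempty (N ≅ Coh.structureModule X.left)) : Subsingleton Γ(N, ⊤) := by
  haveI : AlgebraicGeometry.IsIntegral X.left := GeometricallyIntegral.isIntegral_of_subsingleton X.hom
  let N' := (Scheme.Modules.pullback ι[X].left).obj N
  have hN' : PicF.IsInvertible N' := Groth.L18.Ample.isInvertible_pullback _ hN
  have h1 : PicF.cl N * PicF.cl N' = 1 := by
    have h := pc_mul N hμ (𝟙 X) ι[X]
    rw [show 𝟙 X * ι[X] = 1 by simp [Hom.mul_def, Hom.one_def], pc_one N hN] at h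
    rw [h]
    exact congrArg (fun z => z * PicF.cl N') ((congrArg (fun g => PicF.pullCl g (PicF.cl N)) (Over.id_left X)).trans
      (PicLoc.pullCl_id _)).symm
  obtain ⟨ε⟩ := (PicGrp.cl_eq_cl_iff (CohB1.tensorMod N N') (Coh.structureModule X.left)).1 h1
  refine subsingleton_of_forall_eq 0 fun σ => ?_
  by_contra hσ
  haveI : IsIso ι[X] := ⟨ι[X], by simp, by simp⟩
  haveI : IsIso ι[X].left := inferInstanceAs (IsIso ((Over.forget _).map ι[X]))
  obtain ⟨e⟩ := nonempty_HH_pullback ι[X].left N 0
  let σ' : Γ(N', ⊤) := Groth.L21.RR.e0 N' (e.symm ((Groth.L21.RR.e0 N).symm σ))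
  have hσ' : σ' ≠ 0 := fun h => hσ ((Groth.L21.RR.e0 N).symm.injective (e.symm.injective
    ((Groth.L21.RR.e0 N').injective (h.trans (by simp)))))
  obtain ⟨t, ht⟩ := exists_cosec ε hN hN' hσ'
  exact hne (nonempty_iso_of_sec_cosec (isField_of_universallyClosed k X.hom) hN σ hσ t ht)

include hN hμ in
/-- A non-trivial primitive module has no cohomology. -/
theorem subsingleton_HH (hne : ¬ Nonempty (N ≅ Coh.structureModule X.left)) :
    ∀ i, Subsingleton (Coh.HH X.left N i) := by
  haveI : AlgebraicGeometry.IsIntegral X.left := GeometricallyIntegral.isIntegral_of_subsingleton X.hom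
  haveI := Groth.L21.Extend.isQCoh_of_isInvertible hN
  haveI : HasInjectiveResolutions X.left.Modules := Groth.L17.PushQCoh.hasInjectiveResolutions _
  haveI : HasInjectiveResolutions (X ⊗ X).left.Modules := Groth.L17.PushQCoh.hasInjectiveResolutions _
  have sq := isPullback_prod X X
  haveI : Flat X.hom := inferInstance
  haveI := Groth.L17.CxTools.preservesFiniteLimits_pullback X.hom
  haveI : IsProper (snd X X).left := MorphismProperty.of_isPullback sq inferInstance
  haveI : IsProper ((snd X X).left ≫ X.hom) := inferInstance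
  have hlf : FlatMod.IsFinLocFree N := Groth.L16.Existence.isFinLocFree_of_isInvertible hN
  haveI := isIso_shear (X := X)
  haveI : IsIso (shear (X := X)).left := inferInstanceAs (IsIso ((Over.forget _).map (shear (X := X))))
  intro p
  induction p using Nat.strongRecOn with
  | ind p ih =>
    rcases Nat.eq_zero_or_pos p with rfl | hp
    · exact (subsingleton_Γ_iff N).1 (subsingleton_Γ N hN hμ hne)
    let R := (Coh.Rpush X.hom p).obj N
    haveI : Coh.IsQCoh R := Groth.L17.PushQCoh.isQCoh_Rpush X.hom N p
    have hfin := Groth.L17.ProperCoh.finite_Γ_Rpush_spec X.hom N (Groth.L18.Ample.isCoh_of_isInvertible hN) p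
    obtain ⟨d, ⟨eR⟩⟩ := exists_iso_freeMod R hfin
    let K := (Scheme.Modules.pullback (fst X X).left).obj N
    let E := (Scheme.Modules.pullback (snd X X).left).obj N
    let F := (Scheme.Modules.pullback X.hom).obj R
    haveI : Coh.IsQCoh K := Groth.L16.AffineBC.isQCoh_pullback _ _
    haveI : Coh.IsQCoh E := Groth.L16.AffineBC.isQCoh_pullback _ _
    haveI : Coh.IsQCoh F := Groth.L16.AffineBC.isQCoh_pullback _ _
    haveI : Coh.IsQCoh (CohB1.tensorMod E K) := Groth.L00.Tensor.isQCoh_tensorMod _ _
    haveI : Coh.IsQCoh (CohB1.tensorMod F N) := Groth.L00.Tensor.isQCoh_tensorMod _ _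
    have hK : ∀ b < p, IsZero ((Coh.Rpush (snd X X).left b).obj K) := fun b hb => by
      obtain ⟨e⟩ := Groth.L17.CxIso.nonempty_iso (M := N) X.hom X.hom (fst X X).left (snd X X).left sq b
      exact ((Scheme.Modules.pullback X.hom).map_isZero ((subsingleton_HH_iff X.hom N b).1 (ih b hb))).of_iso e.symm
    have hEK : ∀ b < p, IsZero ((Coh.Rpush (snd X X).left b).obj (CohB1.tensorMod E K)) := fun b hb => by
      obtain ⟨e⟩ := Groth.L17.ProjFormula.nonempty_Rpush_iso (snd X X).left N K hlf b
      exact (isZero_tensorMod_right hlf (hK b hb)).of_iso e.symm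
    obtain ⟨eK⟩ := nonempty_HH_equiv_Γ (snd X X).left X.hom K p hK
    obtain ⟨eEK⟩ := nonempty_HH_equiv_Γ (snd X X).left X.hom (CohB1.tensorMod E K) p hEK
    obtain ⟨eBC⟩ := Groth.L17.CxIso.nonempty_iso (M := N) X.hom X.hom (fst X X).left (snd X X).left sq p
    obtain ⟨ePF⟩ := Groth.L17.ProjFormula.nonempty_Rpush_iso (snd X X).left N K hlf p
    -- `F ⊗ N` has no sections
    have hFN : Subsingleton Γ(CohB1.tensorMod F N, ⊤) := by
      have hRlf : FlatMod.IsFinLocFree R := Groth.L29.LocFree.of_iso eR.symm fun x =>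
        ⟨⊤, d, trivial, ⟨(Scheme.Modules.restrictFunctorIsoPullback _).app _ ≪≫
          Groth.L29.LocFree.pullbackFreeIso _ d⟩⟩
      obtain ⟨e⟩ := Groth.L17.ProjFormula.nonempty_Rpush_iso X.hom R N hRlf 0
      have hz := (subsingleton_HH_iff X.hom N 0).1 (ih 0 hp)
      exact (subsingleton_Γ_iff _).2 ((subsingleton_HH_iff X.hom (CohB1.tensorMod F N) 0).2
        ((isZero_tensorMod_right hRlf hz).of_iso e.symm))
    have h1 : Subsingleton (Coh.HH (X ⊗ X).left (CohB1.tensorMod E K) p) := by
      haveI := hFN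
      haveI : Subsingleton Γ((Coh.Rpush (snd X X).left p).obj (CohB1.tensorMod E K), ⊤) := by
        let i := ePF.symm ≪≫ Groth.L00.Tensor.tensorIso (Iso.refl N) eBC.symm ≪≫ Groth.L00.Tensor.tensorComm N F
        exact (subsingleton_Γ_iff _).2 (subsingleton_HH_congr i.symm 0 ((subsingleton_Γ_iff _).1 hFN))
      exact eEK.toEquiv.subsingleton
    have h2 : Subsingleton (Coh.HH (X ⊗ X).left K p) := by
      obtain ⟨e⟩ := hμ
      let i : CohB1.tensorMod E K ≅ (Scheme.Modules.pullback (shear (X := X)).left).obj K :=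
        Groth.L00.Tensor.tensorComm E K ≪≫ e.symm ≪≫ (Scheme.Modules.pullbackCongr shear_fst.symm).app N ≪≫
          ((Scheme.Modules.pullbackComp _ _).app N).symm
      obtain ⟨e'⟩ := nonempty_HH_pullback (shear (X := X)).left K p
      haveI := subsingleton_HH_congr i p h1
      exact e'.symm.toEquiv.subsingleton
    have hd : d = 0 := by
      refine eq_zero_of_subsingleton_Γ_freeMod (X := X.left) d ?_
      haveI := h2
      have h3 : Subsingleton Γ((Coh.Rpush (snd X X).left p).obj K, ⊤) := eK.symm.toEquiv.subsingleton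
      let i := eBC.symm ≪≫ (Scheme.Modules.pullback X.hom).mapIso eR ≪≫ Groth.L29.LocFree.pullbackFreeIso X.hom d
      exact (subsingleton_Γ_iff _).2 (subsingleton_HH_congr i 0 ((subsingleton_Γ_iff _).1 h3))
    subst hd
    exact (subsingleton_HH_iff X.hom N p).2 ((Groth.L17.BC.isZero_freeMod_zero _).of_iso eR)

end Groth.Agent.Pic0
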