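import Groth.Agent.L26.AV.DimQF
import Groth.Agent.L08.Cube.SliceFibre

/-!
# An endomorphism with finitely many rational points in the kernel is surjective on rational points
-/

set_option autoImplicit false
set_option linter.style.haveILetI false
set_option linter.unusedSectionVars false
set_option backward.isDefEq.respectTransparency false

universe u

open CategoryTheory CategoryTheory.Limits MonoidalCategory CartesianMonoidalCategory AlgebraicGeometry TopologicalSpace
open scoped MonObj

noncomputable section

namespace Groth.Agent.Pic0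

open Groth.L08.Cube

variable {K : Type u} [Field K] [IsAlgClosed K] {A : Over (Spec (CommRingCat.of K))} [GrpObj A] [IsProper A.hom]
  [GeometricallyIntegral A.hom]

theorem isFinite_surjective_of_finite_ker (φ : A ⟶ A) [IsMonHom φ]
    (hker : Set.Finite {a : 𝟙_ (Over (Spec (CommRingCat.of K))) ⟶ A | a ≫ φ = 1}) :
    IsFinite φ.left ∧ Surjective φ.left := by
  haveI : IsProper (φ.left ≫ A.hom) := by rw [Over.w]; infer_instance
  haveI : IsProper φ.left := IsProper.of_comp φ.left A.hom
  haveI : JacobsonSpace A.left := LocallyOfFiniteType.jacobsonSpace A.hom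
  have key : ∀ x : A.left, IsClosed ({x} : Set A.left) → φ.left.QuasiFiniteAt x := by
    intro x hx
    obtain ⟨a₀, rfl⟩ := exists_kpt x hx
    have hy : IsClosed ({φ.left (kpt a₀)} : Set A.left) := by
      rw [← Set.image_singleton]
      exact φ.left.isClosedMap _ hx
    let T := φ.left ⁻¹' {φ.left (kpt a₀)}
    have hT : IsClosed T := hy.preimage φ.left.continuous
    have hsub : T ∩ closedPoints A.left ⊆
        kpt '' ((· * a₀) '' {a : 𝟙_ (Over (Spec (CommRingCat.of K))) ⟶ A | a ≫ φ = 1}) := by
      rintro z ⟨hz, hzc⟩
      obtain ⟨b, rfl⟩ := exists_kpt z (mem_closedPoints_iff.1 hzc)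
      have hb : b ≫ φ = a₀ ≫ φ := kpt_injective (by
        show (b ≫ φ).left _ = (a₀ ≫ φ).left _
        simpa [T, kpt] using hz)
      exact ⟨b, ⟨b * a₀⁻¹, by simp [MonObj.mul_comp, GrpObj.inv_comp, hb], by simp⟩, rfl⟩
    have hfin0 : (T ∩ closedPoints A.left).Finite := ((hker.image _).image _).subset hsub
    have hcl0 : IsClosed (T ∩ closedPoints A.left) := by
      have := hfin0.isClosed_biUnion (f := fun z => ({z} : Set A.left)) fun z hz => mem_closedPoints_iff.1 hz.2
      rwa [Set.biUnion_of_singleton] at this
    have hTeq : T ∩ closedPoints A.left = T := by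
      have h1 := JacobsonSpace.closure_inter_closedPoints hT
      rwa [hcl0.closure_eq] at h1
    have hfin : T.Finite := hTeq ▸ hfin0
    let iF := φ.left.fiberι (φ.left (kpt a₀))
    haveI : Finite ↥(φ.left.fiber (φ.left (kpt a₀))) := by
      refine Set.finite_univ_iff.1 ((hfin.preimage iF.isEmbedding.injective.injOn).subset fun z _ => ?_)
      show iF z ∈ T
      have : iF z ∈ Set.range iF := ⟨z, rfl⟩
      rwa [Scheme.Hom.range_fiberι] at this
    haveI : T1Space ↥(φ.left.fiber (φ.left (kpt a₀))) := ⟨fun z => by
      have hz : iF z ∈ T := by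
        have : iF z ∈ Set.range iF := ⟨z, rfl⟩
        rwa [Scheme.Hom.range_fiberι] at this
      rw [← hTeq] at hz
      have := (mem_closedPoints_iff.1 hz.2).preimage iF.continuous
      rwa [← Set.image_singleton, iF.isEmbedding.injective.preimage_image] at this⟩
    haveI : DiscreteTopology ↥(φ.left.fiber (φ.left (kpt a₀))) := inferInstance
    exact (Scheme.Hom.quasiFiniteAt_iff_isOpen_singleton_asFiber).2 (isOpen_discrete _)
  have htop : φ.left.quasiFiniteLocus = ⊤ := eq_top_of_closedPoints _ key
  haveI : LocallyQuasiFinite φ.left := φ.left.quasiFiniteLocus_eq_top_iff.1 htop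
  haveI : IsFinite φ.left := IsFinite.of_isProper_of_locallyQuasiFinite _
  haveI : AlgebraicGeometry.IsIntegral A.left := GeometricallyIntegral.isIntegral_of_subsingleton A.hom
  exact ⟨inferInstance, Groth.Agent.AV.surjective_of_isFinite_of_dim_eq A A φ rfl⟩

end Groth.Agent.Pic0
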