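import Groth.Agent.L26.Pic0.Mumford
import Groth.Agent.L26.Pic0.FiniteKer
import Groth.Agent.L26.Poincare.Corr

/-!
# Translation invariant modules are differences of translates of a non-degenerate one
-/

set_option autoImplicit false
set_option linter.style.haveILetI false
set_option linter.unusedSectionVars false
set_option backward.isDefEq.respectTransparency false

universe u

open CategoryTheory CategoryTheory.Limits MonoidalCategory CartesianMonoidalCategory AlgebraicGeometry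
open scoped MonObj

noncomputable section

namespace Groth.Agent.Pic0

open Groth.Agent.AV Groth.Agent.Poincare Groth.Agent.Poincare.Rosati Groth.Agent.Poincare.Orth DegreeForm
open Groth.L08.Cube (trK pc kpt kpt_injective exists_kpt exists_inverseCl)

attribute [local instance] Groth.L08.Cube.clMonoid InterPic.picLaw

variable {K : Type u} [Field K] [IsAlgClosed K] {A : Over (Spec (CommRingCat.of K))} [GrpObj A]
  [IsCommMonObj A] [IsProper A.hom] [GeometricallyIntegral A.hom]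

/-- The value of a class at a translate. -/
theorem F_trK (L : A.left.Modules) (hL : PicF.IsInvertible L) (a : 𝟙_ (Over (Spec (CommRingCat.of K))) ⟶ A) :
    F L hL (trK a) = Orth.bil L hL (𝟙 A) (toUnit A ≫ a) + F L hL (𝟙 A) := by
  have h0 : F L hL (toUnit A ≫ a) = 0 := ext_val (pc_const L hL a)
  have h : Orth.bil L hL (𝟙 A) (toUnit A ≫ a) = F L hL (trK a) - F L hL (𝟙 A) - F L hL (toUnit A ≫ a) := rfl
  rw [h, h0, sub_zero, sub_add_cancel]

theorem finite_preimage_pow {n : ℕ} (hn : 1 ≤ n) {S : Set (𝟙_ (Over (Spec (CommRingCat.of K))) ⟶ A)}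
    (hS : S.Finite) : ((fun a : 𝟙_ (Over (Spec (CommRingCat.of K))) ⟶ A => a ^ n) ⁻¹' S).Finite := by
  obtain ⟨_, -, -, -⟩ := Degree.isogeny_pow (A := A) hn
  refine (((hS.image kpt).biUnion fun y _ =>
    (𝟙 A ^ n).left.finite_preimage_singleton y).preimage (kpt_injective (A := A)).injOn).subset fun a ha => ?_
  refine Set.mem_iUnion₂.2 ⟨_, ⟨_, ha, rfl⟩, ?_⟩
  show (𝟙 A ^ n).left (kpt a) = kpt (a ^ n)
  have h : a ≫ (𝟙 A ^ n) = a ^ n := by rw [MonObj.comp_pow, Category.comp_id]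
  rw [← h]
  exact (Scheme.Hom.comp_apply a.left _ _).symm

/-- Mumford's theorem for a non-degenerate module. -/
theorem exists_translate_of_nondegenerate (L : A.left.Modules) (hL : PicF.IsInvertible L)
    (hnd : Set.Finite {a : 𝟙_ (Over (Spec (CommRingCat.of K))) ⟶ A | pc L (trK a) = PicF.cl L})
    (M : A.left.Modules) (hM : PicF.IsInvertible M) (hM0 : ∀ x, pc M (trK x) = PicF.cl M) :
    ∃ a, pc L (trK a) = PicF.cl M * PicF.cl L := by
  obtain ⟨g, -, hg⟩ := Groth.L08.GrpDim.exists_dim A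
  obtain ⟨L₀, hL₀⟩ := Degree.exists_isAmple A
  obtain ⟨N₀, hN₀, hLN⟩ := exists_inverseCl (⟨L₀, rfl, hL₀.1⟩ : PicF.IsInvertibleCl (PicF.cl L₀))
  obtain ⟨N₀, rfl, hN₀'⟩ := hN₀
  obtain ⟨b, hb⟩ := exists_translate_of_isAmple L₀ N₀ M hL₀ hN₀' hLN hM hM0
  have hb' : F L₀ hL₀.1 (trK b) = F M hM (𝟙 A) + F L₀ hL₀.1 (𝟙 A) := ext_val (by
    show pc L₀ (trK b) = pc M (𝟙 A) * pc L₀ (𝟙 A)
    rw [pc_id, pc_id, hb, mul_assoc, mul_comm (PicF.cl N₀), hLN, mul_one])
  rw [F_trK, add_left_inj] at hb'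
  obtain ⟨m, γ, hm, hγ⟩ := Corr.exists_rep L₀ hL₀ hg L hL
  have hfix : ∀ a, pc L (trK a) = PicF.cl L ↔ Orth.bil L hL (𝟙 A) (toUnit A ≫ a) = 0 := fun a => by
    constructor
    · intro h
      have h' : F L hL (trK a) = F L hL (𝟙 A) := ext_val (h.trans (pc_id L).symm)
      rwa [F_trK, add_eq_right] at h'
    · intro h
      have h' := F_trK L hL a
      rw [h, zero_add] at h'
      exact (congrArg (fun z => (Additive.toMul z).1) h').trans (pc_id L)
  have hpow : ∀ a, Orth.bil L hL (𝟙 A) (toUnit A ≫ (a ^ m)) = m • Orth.bil L hL (𝟙 A) (toUnit A ≫ a) := fun a => by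
    rw [MonObj.comp_pow, Orth.bil_pow_right]
  have hker : Set.Finite {a : 𝟙_ (Over (Spec (CommRingCat.of K))) ⟶ A | a ≫ γ.toHom = 1} := by
    refine (finite_preimage_pow hm hnd).subset fun a ha => (hfix _).2 ?_
    rw [hpow, hγ, Category.assoc, show a ≫ γ.toHom = 1 from ha, MonObj.comp_one, Orth.bil_one_right]
  obtain ⟨-, hsurj⟩ := isFinite_surjective_of_finite_ker γ.toHom hker
  obtain ⟨a, ha⟩ : ∃ a : 𝟙_ (Over (Spec (CommRingCat.of K))) ⟶ A, a ≫ γ.toHom = b := by
    haveI := hsurj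
    haveI : JacobsonSpace A.left := LocallyOfFiniteType.jacobsonSpace A.hom
    obtain ⟨x, hx⟩ := γ.toHom.left.surjective (kpt b)
    obtain ⟨z, hz, hzc⟩ := nonempty_inter_closedPoints (Z := γ.toHom.left ⁻¹' {kpt b}) ⟨x, hx⟩
      ((Groth.L08.Cube.isClosed_kpt b).preimage γ.toHom.left.continuous).isLocallyClosed
    obtain ⟨a, rfl⟩ := exists_kpt z (mem_closedPoints_iff.1 hzc)
    exact ⟨a, kpt_injective ((Scheme.Hom.comp_apply a.left γ.toHom.left _).trans hz)⟩
  refine ⟨a ^ m, ?_⟩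
  have h' : F L hL (trK (a ^ m)) = F M hM (𝟙 A) + F L hL (𝟙 A) := by
    rw [F_trK, hpow, hγ, Category.assoc, ha, hb']
  have h'' := congrArg (fun z => (Additive.toMul z).1) h'
  change pc L (trK (a ^ m)) = pc M (𝟙 A) * pc L (𝟙 A) at h''
  rw [h'', pc_id, pc_id]

end Groth.Agent.Pic0
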