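import Groth.Agent.L26.Pic0.AmpleFibre
import Groth.Agent.L16.Rees.FiniteAmple
import Groth.Agent.L15.Ref.Tensor

/-!
# Ampleness descends along extensions of the ground field
-/

set_option autoImplicit false
set_option linter.style.haveILetI false
set_option linter.unusedSectionVars false
set_option backward.isDefEq.respectTransparency false

universe u

open CategoryTheory CategoryTheory.Limits AlgebraicGeometry

noncomputable section

namespace Groth.Agent.Pic0

attribute [local instance] Groth.L08.Cube.clMonoid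

/-- Ampleness descends along extensions of the ground field. -/
theorem isAmple_of_field_pullback {k K : Type u} [Field k] [Field K] {P Q : Scheme.{u}}
    (f : P ⟶ Spec (CommRingCat.of k)) [IsProper f] (φ : Spec (CommRingCat.of K) ⟶ Spec (CommRingCat.of k))
    [Flat φ] {f' : Q ⟶ Spec (CommRingCat.of K)} {g : Q ⟶ P} (sq : IsPullback g f' f φ) (L : P.Modules)
    (hL : PicF.IsInvertible L) (h : CohB1.IsAmple ((Scheme.Modules.pullback g).obj L)) : CohB1.IsAmple L := by
  haveI : IsProper f' := MorphismProperty.of_isPullback sq inferInstance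
  haveI : CompactSpace P := QuasiCompact.compactSpace_of_compactSpace f
  haveI : IsLocallyNoetherian P := LocallyOfFiniteType.isLocallyNoetherian f
  haveI : IsLocallyNoetherian Q := LocallyOfFiniteType.isLocallyNoetherian f'
  refine Groth.L16.Rees.SerreCrit.isAmple_of_vanishing hL fun I i hi hI => ?_
  haveI := hi
  haveI := hI
  have hIc : Coh.IsCoh I :=
    Groth.L16.Rees.RelVanish.isCoh_of_mono i (Groth.L16.Rees.RelVanish.isCoh_structureModule P)
  obtain ⟨d₀, hd⟩ := Groth.L16.Rees.RelVanish.exists_vanishing f' h (Groth.L16.AffineBC.isCoh_pullback g hIc)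
  refine ⟨d₀, subsingleton_HH_of_field_pullback f φ sq _
    (Groth.L15.Ref.isCoh_tensorMod hIc (Groth.L18.Ample.isCoh_of_isInvertible
      (Groth.L18.Ample.isInvertible_tensorPow hL _))) 1 ?_⟩
  obtain ⟨e⟩ : Nonempty ((Scheme.Modules.pullback g).obj (CohB1.tensorMod I (CohB1.tensorPow L (d₀ + 1))) ≅
      CohB1.tensorMod ((Scheme.Modules.pullback g).obj I)
        (CohB1.tensorPow ((Scheme.Modules.pullback g).obj L) (d₀ + 1))) := by
    refine (PicGrp.cl_eq_cl_iff _ _).1 ?_
    show PicF.pullCl g (PicF.cl I * PicF.cl (CohB1.tensorPow L (d₀ + 1))) =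
      PicF.pullCl g (PicF.cl I) * PicF.cl (CohB1.tensorPow ((Scheme.Modules.pullback g).obj L) (d₀ + 1))
    rw [Groth.L08.Cube.pullCl_mul, Groth.L08.Cube.cl_tensorPow, Groth.L08.Cube.cl_tensorPow]
    exact congrArg (_ * ·) (map_pow (⟨⟨PicF.pullCl g, Groth.L08.Cube.pullCl_one _⟩, Groth.L08.Cube.pullCl_mul _⟩ :
      PicF.Cl P →* PicF.Cl Q) (PicF.cl L) _)
  exact Groth.L16.ProjSpace.subsingleton_of_iso e 1 (hd _ (Nat.le_succ _) 1 one_pos)

end Groth.Agent.Pic0
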