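import Groth.Agent.L26.Pic0.Mumford
import Groth.Agent.L26.Pic0.Vanish
import Groth.Agent.L26.Pic0.FiberZero
import Groth.Agent.L08.Cube.Invariant
import Groth.Agent.L15.Ref.FreeLocus
import Mathlib.AlgebraicGeometry.Group.Abelian

/-!
# A non-degenerate invertible module has some cohomology
-/

set_option autoImplicit false
set_option linter.style.haveILetI false
set_option linter.unusedSectionVars false
set_option backward.isDefEq.respectTransparency false

universe u

open CategoryTheory CategoryTheory.Limits MonoidalCategory CartesianMonoidalCategory AlgebraicGeometry TopologicalSpace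
open scoped MonObj

noncomputable section

namespace Groth.Agent.Pic0

open Groth.L08.Cube Groth.Agent.AbDualLib

attribute [local instance] clMonoid

variable {K : Type u} [Field K] [IsAlgClosed K] {A : Over (Spec (CommRingCat.of K))} [GrpObj A] [IsProper A.hom]
  [GeometricallyIntegral A.hom]

/-- A non-degenerate module has some cohomology. -/
theorem exists_not_subsingleton_HH_of_finite (L : A.left.Modules) (hL : PicF.IsInvertible L)
    (hSf : Set.Finite {a : 𝟙_ (Over (Spec (CommRingCat.of K))) ⟶ A | pc L (trK a) = PicF.cl L}) :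
    ∃ i, ¬ Subsingleton (Coh.HH A.left L i) := by
  by_contra hcon
  push Not at hcon
  haveI : AlgebraicGeometry.IsIntegral A.left := GeometricallyIntegral.isIntegral_of_subsingleton A.hom
  haveI : IsCommMonObj A := isCommMonObj_of_isProper_of_geometricallyIntegral A
  haveI : IsLocallyNoetherian A.left := LocallyOfFiniteType.isLocallyNoetherian A.hom
  haveI : JacobsonSpace A.left := LocallyOfFiniteType.jacobsonSpace A.hom
  haveI : IsProper (snd A A).left := isProper_snd A A
  haveI : Flat (snd A A).left := flat_snd A A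
  haveI : LocallyOfFinitePresentation (snd A A).left := inferInstance
  haveI : IsProper ((snd A A).left ≫ A.hom) := inferInstance
  haveI := Groth.L17.PushQCoh.hasInjectiveResolutions (A ⊗ A).left
  haveI : IsLocallyNoetherian (A ⊗ A).left := LocallyOfFiniteType.isLocallyNoetherian ((snd A A).left ≫ A.hom)
  obtain ⟨b, hb, hLN⟩ := exists_inverseCl (⟨L, rfl, hL⟩ : PicF.IsInvertibleCl (PicF.cl L))
  obtain ⟨N, rfl, hN⟩ := hb
  -- the class on the square
  obtain ⟨K1, hK1, hK1inv⟩ : PicF.IsInvertibleCl (pc L μ[A] * pc N (snd A A)) :=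
    isInvertibleCl_mulCl (isInvertibleCl_pc L hL _) (isInvertibleCl_pc N hN _)
  have hμ : μ[A] = fst A A * snd A A := by simp [Hom.mul_def]
  let β : A ⊗ A ⟶ A ⊗ A := lift (snd A A) (fst A A)
  haveI : IsIso β := ⟨β, by simp [β], by simp [β]⟩
  haveI : IsIso β.left := inferInstanceAs (IsIso ((Over.forget _).map β))
  let K2 := (Scheme.Modules.pullback β.left).obj K1
  have hK2inv : PicF.IsInvertible K2 := Groth.L18.Ample.isInvertible_pullback _ hK1inv
  have hcl : ∀ {W : Over (Spec (CommRingCat.of K))} (s : W ⟶ A ⊗ A),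
      PicF.pullCl s.left (PicF.cl K1) = pc L ((s ≫ fst A A) * (s ≫ snd A A)) * pc N (s ≫ snd A A) := fun {W} s => by
    rw [hK1, pullCl_mul, pullCl_pc, pullCl_pc, hμ, MonObj.comp_mul]
  have hs1 : ∀ a, PicF.cl ((Scheme.Modules.pullback (slice A a).left).obj K1) =
      PicF.cl ((Scheme.Modules.pullback (trK a).left).obj L) := fun a => by
    show PicF.pullCl (slice A a).left (PicF.cl K1) = _
    rw [hcl, lift_fst, lift_snd, pc_const N hN, mul_one]
    rfl
  have hs2 : ∀ a, PicF.cl ((Scheme.Modules.pullback (slice A a).left).obj K2) = pc L (trK a) * PicF.cl N := fun a => by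
    show PicF.pullCl (slice A a).left (PicF.pullCl β.left (PicF.cl K1)) = _
    rw [← PicLoc.pullCl_comp, ← Over.comp_left, hcl]
    simp only [β, Category.assoc, lift_fst, lift_snd]
    rw [pc_id, mul_comm (toUnit A ≫ a)]
  have hdiff : ∀ x a, PicF.pullCl (trK x).left (pc L (trK a) * PicF.cl N) = pc L (trK a) * PicF.cl N := fun x a => by
    rw [pullCl_mul, pullCl_pc]
    exact pc_translate_diff L N hL hLN x a
  have hq1 : ∀ a i, Subsingleton (Coh.HH A.left ((Scheme.Modules.pullback (slice A a).left).obj K1) i) := fun a i => by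
    obtain ⟨e⟩ := (PicGrp.cl_eq_cl_iff _ _).1 (hs1 a)
    haveI := isIso_trK (A := A) a
    obtain ⟨e'⟩ := nonempty_HH_pullback (trK a).left L i
    haveI := hcon i
    exact subsingleton_HH_congr e.symm i e'.toEquiv.subsingleton
  haveI := Groth.L21.Extend.isQCoh_of_isInvertible hK1inv
  haveI := Groth.L21.Extend.isQCoh_of_isInvertible hK2inv
  have hR1 : ∀ p, IsZero ((Coh.Rpush (snd A A).left p).obj K1) := fun p => by
    have h := isZero_restrict_Rpush (snd A A).left K1 (Groth.L15.Ref.isFP_of_isCoh (Groth.L18.Ample.isCoh_of_isInvertible hK1inv))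
      (isFlatOver_of_isInvertible _ hK1inv) p ⊤ fun y _ hy => by
        obtain ⟨a, rfl⟩ := exists_kpt y hy
        exact (subsingleton_fiberH_iff_slice a K1 p).2 (hq1 a p)
    exact isZero_of_forall_Γ fun W => subsingleton_Γ_of_restrict le_top h
  have hH2 : ∀ p, Subsingleton (Coh.HH (A ⊗ A).left K2 p) := fun p => by
    haveI := subsingleton_HH_of_isZero (snd A A).left A.hom K1 p fun b _ => hR1 b
    obtain ⟨e⟩ := nonempty_HH_pullback β.left K1 p
    exact e.toEquiv.subsingleton
  -- the finitely many exceptional points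
  let S := {a : 𝟙_ (Over (Spec (CommRingCat.of K))) ⟶ A | pc L (trK a) = PicF.cl L}
  have hFf : (kpt '' S).Finite := hSf.image _
  have hFc : IsClosed (kpt '' S) := by
    have := hFf.isClosed_biUnion (f := fun y => ({y} : Set A.left)) fun y hy => by
      obtain ⟨a, -, rfl⟩ := hy
      exact isClosed_kpt a
    rwa [Set.biUnion_of_singleton] at this
  let U : A.left.Opens := ⟨(kpt '' S)ᶜ, hFc.isOpen_compl⟩
  have hU2 : ∀ p, IsZero (((Coh.Rpush (snd A A).left p).obj K2).restrict U.ι) := fun p =>
    isZero_restrict_Rpush (snd A A).left K2 (Groth.L15.Ref.isFP_of_isCoh (Groth.L18.Ample.isCoh_of_isInvertible hK2inv))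
      (isFlatOver_of_isInvertible _ hK2inv) p U fun y hyU hy => by
        obtain ⟨a, rfl⟩ := exists_kpt y hy
        refine (subsingleton_fiberH_iff_slice a K2 p).2 (subsingleton_HH_of_fixed _
          (Groth.L18.Ample.isInvertible_pullback _ hK2inv) (fun x => ?_) (fun h => hyU ⟨a, ?_, rfl⟩) p)
        · show PicF.pullCl (trK x).left (PicF.cl ((Scheme.Modules.pullback (slice A a).left).obj K2)) = _
          rw [hs2, hdiff]
        · rw [hs2] at h
          calc pc L (trK a) = pc L (trK a) * (PicF.cl L * PicF.cl N) := by rw [hLN, mul_one]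
            _ = (pc L (trK a) * PicF.cl N) * PicF.cl L := by ac_rfl
            _ = _ := by rw [h, one_mul]
  have hR2 : ∀ p, IsZero ((Coh.Rpush (snd A A).left p).obj K2) := by
    intro p
    induction p using Nat.strongRecOn with
    | ind p ih =>
      refine isZero_of_off_finite _ _ hFf (fun y hy => ?_) U le_rfl (hU2 p) ?_
      · obtain ⟨a, -, rfl⟩ := hy
        exact isClosed_kpt a
      · obtain ⟨e⟩ := nonempty_HH_equiv_Γ (snd A A).left A.hom K2 p ih
        haveI := hH2 p
        exact e.symm.toEquiv.subsingleton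
  -- contradiction at the origin
  have h0 := (subsingleton_fiberH_iff_slice (1 : 𝟙_ (Over (Spec (CommRingCat.of K))) ⟶ A) K2 0).1
    (subsingleton_fiberH_of_isZero (snd A A).left K2 (Groth.L18.Ample.isCoh_of_isInvertible hK2inv)
      (isFlatOver_of_isInvertible _ hK2inv) hR2 _ 0)
  have h1 := hs2 1
  rw [trK_one, pc_id, hLN] at h1
  obtain ⟨e⟩ := (nonempty_iso_structure_iff _).2 h1
  haveI : Subsingleton Γ(Coh.structureModule A.left, ⊤) :=
    (subsingleton_Γ_iff _).2 (subsingleton_HH_congr e 0 h0)
  haveI : Nonempty ((⊤ : A.left.Opens) : Scheme.{u}) := ⟨⟨Nonempty.some inferInstance, trivial⟩⟩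
  exact one_ne_zero (α := Γ(A.left, ⊤)) (Subsingleton.elim (α := Γ(Coh.structureModule A.left, ⊤)) _ _)

end Groth.Agent.Pic0
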