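import Groth.Agent.L12.FinCov.Trace
import Groth.Agent.L27.Deg.PushRank
import Groth.Agent.L26.Pic0.Basic
import Groth.Agent.L16.Existence.Vanishing

/-!
# Cohomology injects along a finite flat cover of invertible degree
-/

set_option autoImplicit false
set_option linter.style.haveILetI false
set_option linter.unusedSectionVars false
set_option backward.isDefEq.respectTransparency false
set_option backward.isDefEq.respectTransparency.types false

universe u

open CategoryTheory CategoryTheory.Limits AlgebraicGeometry TopologicalSpace Opposite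

noncomputable section

namespace Groth.Agent.Pic0

open Groth.L12.FinCov
open Groth.L00.Tensor

variable {X Y : Scheme.{u}} (f : X ⟶ Y)

/-- The structure map into the direct image. -/
def pushUnit : Coh.structureModule Y ⟶ (Coh.push f).obj (Coh.structureModule X) :=
  mkHom (fun V (r : Γ(Y, V)) => (f.app V).hom r) (fun V s t => map_add _ _ _)
    (fun V r s => (map_mul (f.app V).hom r s)) fun V V' h s =>
    ConcreteCategory.congr_hom (f.c.naturality (homOfLE h).op) s

/-- The structure map of a finite flat cover of invertible degree splits. -/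
theorem exists_retraction [IsFinite f] [Flat f] [LocallyOfFinitePresentation f] {d : ℕ}
    (hd : ∀ y, f.finrank y = d) (hu : IsUnit (d : Γ(Y, ⊤))) :
    ∃ r : (Coh.push f).obj (Coh.structureModule X) ⟶ Coh.structureModule Y, pushUnit f ≫ r = 𝟙 _ := by
  let A := RelSpec.QCAlg.directImage f
  have hA' : FlatMod.IsFinLocFreeOfRank d A.toModule := Groth.L27.Deg.isFinLocFreeOfRank_push f hd
  obtain ⟨τ, hτ⟩ := exists_isTrace (A := A) fun y => by
    obtain ⟨U, hy, e⟩ := hA' y
    exact ⟨U, d, hy, e⟩
  let τ' : (Coh.push f).obj (Coh.structureModule X) ⟶ Coh.structureModule Y := τ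
  have key : ∀ (V : Y.Opens) (r : Γ(Y, V)),
      τ'.app V ((pushUnit f).app V r) = ((d : Γ(Y, V)) * r : Γ(Y, V)) := fun V r => by
    refine fn_ext fun y hy => ?_
    obtain ⟨W, b, hW, hyW, hWV, hb⟩ := exists_basisOn_of_rank hA' y V hy
    refine ⟨W, hWV, hyW, ?_⟩
    have hg := goodB_of_isBasisOn A hb
    have h2 : τ.app W (show Γ(A.toModule, W) from (f.app W).hom (rO hWV r)) = ((d : Γ(Y, W)) * rO hWV r : Γ(Y, W)) := by
      letI := algS A W
      refine (isTrace_app hτ hW ⟨_, _, hg⟩ (algebraMap Γ(Y, W) (Sec A W) (rO hWV r))).trans ?_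
      rw [tr, Algebra.trace_algebraMap_of_basis (hg.basis le_rfl), Fintype.card_fin, nsmul_eq_mul]
    refine Eq.trans ?_ (h2.trans ?_)
    · refine (app_rM (pushUnit f ≫ τ') hWV r).symm.trans ?_
      rfl
    · show _ = rO hWV ((d : Γ(Y, V)) * r)
      exact (congrArg (fun z => z * rO hWV r) (map_natCast (Y.presheaf.map (homOfLE hWV).op).hom d).symm).trans
        (map_mul (Y.presheaf.map (homOfLE hWV).op).hom _ _).symm
  obtain ⟨v, hv⟩ := hu.exists_right_inv
  let s : Coh.structureModule Y ⟶ Coh.structureModule Y :=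
    mkHom (M := Coh.structureModule Y) (N := Coh.structureModule Y)
      (fun V r => (show Γ(Y, V) from rO (le_top (a := V)) v * (show Γ(Y, V) from r)))
      (fun V s t => mul_add (rO (le_top (a := V)) v) (show Γ(Y, V) from s) (show Γ(Y, V) from t))
      (fun V r s => mul_left_comm (rO (le_top (a := V)) v) r (show Γ(Y, V) from s)) fun V V' h s => by
        refine Eq.trans ?_ (map_mul (Y.presheaf.map (homOfLE h).op).hom (rO (le_top (a := V)) v)
          (show Γ(Y, V) from s)).symm
        exact congrArg (fun z => z * (show Γ(Y, V') from rM (Coh.structureModule Y) h s)) (rO_rO _ h v).symm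
  refine ⟨τ' ≫ s, hom_ext fun V r' => ?_⟩
  obtain ⟨r, rfl⟩ : ∃ r : Γ(Y, V), r = r' := ⟨r', rfl⟩
  show s.app V (τ'.app V ((pushUnit f).app V r)) = r
  rw [key]
  show rO (le_top (a := V)) v * ((d : Γ(Y, V)) * r) = r
  rw [← mul_assoc, mul_comm _ (d : Γ(Y, V)),
    show (d : Γ(Y, V)) = rO (le_top (a := V)) (d : Γ(Y, ⊤)) from
      (map_natCast (Y.presheaf.map (homOfLE (le_top (a := V))).op).hom d).symm,
    ← map_mul, hv, map_one, one_mul]

/-- Vanishing of cohomology descends along a finite flat cover of invertible degree. -/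
theorem subsingleton_HH_of_pullback [IsFinite f] [Flat f] [LocallyOfFinitePresentation f] {d : ℕ}
    (hd : ∀ y, f.finrank y = d) (hu : IsUnit (d : Γ(Y, ⊤))) {L : Y.Modules} (hL : FlatMod.IsFinLocFree L)
    [Coh.IsQCoh ((Scheme.Modules.pullback f).obj L)] (j : ℕ)
    (h : Subsingleton (Coh.HH X ((Scheme.Modules.pullback f).obj L) j)) : Subsingleton (Coh.HH Y L j) := by
  obtain ⟨r, hr⟩ := exists_retraction f hd hu
  let e : CohB1.tensorMod L ((Coh.push f).obj (Coh.structureModule X)) ≅
      (Coh.push f).obj ((Scheme.Modules.pullback f).obj L) :=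
    (Groth.L17.ProjFormula.projIso f L hL).app (Coh.structureModule X) ≪≫
      (Coh.push f).mapIso (tensorUnitRight ((Scheme.Modules.pullback f).obj L))
  refine Groth.L16.Existence.subsingleton_of_retract
    ((tensorUnitRight L).inv ≫ (tensorLeftF L).map (pushUnit f) ≫ e.hom)
    (e.inv ≫ (tensorLeftF L).map r ≫ (tensorUnitRight L).hom) ?_ j ?_
  · rw [Category.assoc, Category.assoc, e.hom_inv_id_assoc, ← Functor.map_comp_assoc, hr, CategoryTheory.Functor.map_id]
    exact ((tensorUnitRight L).inv ≫= Category.id_comp _).trans (tensorUnitRight L).inv_hom_id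
  · obtain ⟨e'⟩ := Groth.L17.nonempty_HH_push_of_isAffineHom f ((Scheme.Modules.pullback f).obj L) j
    exact e'.symm.toEquiv.subsingleton

end Groth.Agent.Pic0
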