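import Groth.Agent.L26.Pic0.NonDeg
import Groth.Agent.L26.Pic0.TraceRetract
import Groth.Agent.L26.Pic0.NonVanish
import Groth.Agent.L16.Existence.AmpleVanish

/-!
# Cohomology of ample invertible modules on an abelian variety
-/

set_option autoImplicit false
set_option linter.style.haveILetI false
set_option linter.unusedSectionVars false
set_option backward.isDefEq.respectTransparency false

universe u

open CategoryTheory CategoryTheory.Limits MonoidalCategory CartesianMonoidalCategory AlgebraicGeometry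
open scoped MonObj

noncomputable section

namespace Groth.Agent.Pic0

open Groth.Agent.AV Groth.Agent.Poincare Groth.Agent.Poincare.Rosati Groth.Agent.Poincare.Orth DegreeForm
open Groth.L08.Cube (trK pc kpt kpt_injective exists_kpt exists_inverseCl pullCl_mul pullCl_pc)

attribute [local instance] Groth.L08.Cube.clMonoid InterPic.picLaw

variable {K : Type u} [Field K] [IsAlgClosed K] {A : Over (Spec (CommRingCat.of K))} [GrpObj A]
  [IsCommMonObj A] [IsProper A.hom] [GeometricallyIntegral A.hom]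

/-- Rational points are divisible. -/
theorem exists_root {n : ℕ} (hn : 1 ≤ n) (a : 𝟙_ (Over (Spec (CommRingCat.of K))) ⟶ A) :
    ∃ x : 𝟙_ (Over (Spec (CommRingCat.of K))) ⟶ A, x ^ n = a := by
  obtain ⟨_, _, hs, _⟩ := Degree.isogeny_pow (A := A) hn
  haveI := hs
  haveI : JacobsonSpace A.left := LocallyOfFiniteType.jacobsonSpace A.hom
  obtain ⟨x, hx⟩ := (𝟙 A ^ n).left.surjective (kpt a)
  obtain ⟨z, hz, hzc⟩ := nonempty_inter_closedPoints (Z := (𝟙 A ^ n).left ⁻¹' {kpt a}) ⟨x, hx⟩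
    ((Groth.L08.Cube.isClosed_kpt a).preimage (𝟙 A ^ n).left.continuous).isLocallyClosed
  obtain ⟨a', rfl⟩ := exists_kpt z (mem_closedPoints_iff.1 hzc)
  refine ⟨a', ?_⟩
  have h2 : a' ≫ (𝟙 A ^ n) = a := kpt_injective
    ((Scheme.Hom.comp_apply a'.left (𝟙 A ^ n).left _).trans hz)
  rwa [MonObj.comp_pow, Category.comp_id] at h2

/-- Every ample module has a symmetric translate. -/
theorem exists_symmetric_translate (L : A.left.Modules) (hLa : CohB1.IsAmple L) :
    ∃ x : 𝟙_ (Over (Spec (CommRingCat.of K))) ⟶ A,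
      pc L ((𝟙 A)⁻¹ ≫ trK x) = pc L (trK x) := by
  have hL := hLa.1
  obtain ⟨b, ⟨N, rfl, hN⟩, hLN⟩ := exists_inverseCl (⟨L, rfl, hL⟩ : PicF.IsInvertibleCl (PicF.cl L))
  obtain ⟨M, hM, hMinv⟩ : PicF.IsInvertibleCl (pc L (𝟙 A)⁻¹ * PicF.cl N) :=
    Groth.Agent.AbDualLib.isInvertibleCl_mulCl (Groth.L08.Cube.isInvertibleCl_pc L hL _) ⟨N, rfl, hN⟩
  let β : (𝟙_ (Over (Spec (CommRingCat.of K))) ⟶ A) → Additive (PicLoc.PicSet A.left) :=
    fun c => Orth.bil L hL (𝟙 A) (toUnit A ≫ c)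
  have hι : ∀ c, F L hL ((𝟙 A)⁻¹ ≫ trK c) = F L hL (𝟙 A)⁻¹ - β c := fun c => by
    have : (𝟙 A)⁻¹ ≫ trK c = (𝟙 A)⁻¹ * (toUnit A ≫ c) := by
      simp [trK, MonObj.comp_mul]
    rw [this, F_mul, F_const, add_zero, bil_inv_left, sub_eq_add_neg]
  have hι' : ∀ c, F L hL (trK c)⁻¹ = F L hL (𝟙 A)⁻¹ + β c := fun c => by
    have : (trK c)⁻¹ = (𝟙 A)⁻¹ * (toUnit A ≫ c⁻¹) := by
      rw [trK, mul_inv, GrpObj.comp_inv]
    rw [this, F_mul, F_const, add_zero, bil_inv_left, GrpObj.comp_inv, bil_inv_right, neg_neg]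
  have hfix : ∀ c, pc M (trK c) = PicF.cl M := fun c => by
    have h : F L hL (trK c)⁻¹ + F L hL (𝟙 A) = F L hL (𝟙 A)⁻¹ + F L hL (trK c) := by
      rw [hι', F_trK]
      abel
    have h' := congrArg (fun z => (Additive.toMul z).1) h
    change pc L (trK c)⁻¹ * pc L (𝟙 A) = pc L (𝟙 A)⁻¹ * pc L (trK c) at h'
    have hinv : pc L (trK c) * pc N (trK c) = 1 := by
      have h := congrArg (PicF.pullCl (trK c).left) hLN
      rwa [pullCl_mul, Groth.L08.Cube.pullCl_one] at h
    have e : pc M (trK c) = pc L (trK c)⁻¹ * pc N (trK c) := by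
      refine (congrArg (PicF.pullCl (trK c).left) hM).trans ?_
      rw [pullCl_mul, pullCl_pc, GrpObj.comp_inv, Category.comp_id]
    rw [e, hM]
    calc _ = pc L (trK c)⁻¹ * pc L (𝟙 A) * pc N (trK c) * PicF.cl N := by
          rw [pc_id]
          calc _ = pc L (trK c)⁻¹ * pc N (trK c) * (PicF.cl L * PicF.cl N) := by rw [hLN, mul_one]
            _ = _ := by ac_rfl
      _ = pc L (𝟙 A)⁻¹ * PicF.cl N * (pc L (trK c) * pc N (trK c)) := by rw [h']; ac_rfl
      _ = _ := by rw [hinv, mul_one]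
  obtain ⟨a, ha⟩ := exists_translate_of_isAmple L N M hLa hN hLN hMinv hfix
  have ha' : F L hL (trK a) = F L hL (𝟙 A)⁻¹ := ext_val (by
    show pc L (trK a) = pc L (𝟙 A)⁻¹
    calc pc L (trK a) = pc L (trK a) * (PicF.cl L * PicF.cl N) := by rw [hLN, mul_one]
      _ = pc L (trK a) * PicF.cl N * PicF.cl L := by ac_rfl
      _ = pc L (𝟙 A)⁻¹ * (PicF.cl L * PicF.cl N) := by rw [← ha, hM]; ac_rfl
      _ = _ := by rw [hLN, mul_one])
  obtain ⟨x, rfl⟩ := exists_root (le_of_lt one_lt_two) a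
  refine ⟨x, ?_⟩
  have h : F L hL ((𝟙 A)⁻¹ ≫ trK x) = F L hL (trK x) := by
    rw [F_trK, MonObj.comp_pow, Orth.bil_pow_right, two_nsmul] at ha'
    rw [hι, F_trK, ← ha']
    show β x + β x + _ - β x = β x + _
    abel
  exact congrArg (fun z => (Additive.toMul z).1) h

/-- An ample symmetric module has no higher cohomology. -/
theorem subsingleton_HH_of_symmetric (L : A.left.Modules) (hLa : CohB1.IsAmple L)
    (hsym : pc L (𝟙 A)⁻¹ = pc L (𝟙 A)) (j : ℕ) (hj : 0 < j) : Subsingleton (Coh.HH A.left L j) := by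
  letI : A.left.Over (Spec (CommRingCat.of K)) := ⟨A.hom⟩
  haveI : IsProper (A.left ↘ Spec (CommRingCat.of K)) := ‹IsProper A.hom›
  haveI : IsLocallyNoetherian A.left := LocallyOfFiniteType.isLocallyNoetherian A.hom
  obtain ⟨d₀, hd⟩ := Groth.L16.Existence.exists_vanishing_of_isAmple (A := K) hLa
    (Groth.L16.CohClosedPush.isCoh_structure (X := A.left))
  obtain ⟨N, hN1, hNu⟩ : ∃ N : ℕ, d₀ + 1 ≤ N ∧ (N : K) ≠ 0 := by
    by_cases h : ((d₀ + 1 : ℕ) : K) = 0
    · refine ⟨d₀ + 2, Nat.le_succ _, fun h' => one_ne_zero (α := K) ?_⟩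
      rw [Nat.cast_succ, h, zero_add] at h'
      exact h'
    · exact ⟨d₀ + 1, le_rfl, h⟩
  have hN0 : 1 ≤ N := le_trans (Nat.le_add_left 1 d₀) hN1
  obtain ⟨g, -, hg⟩ := Groth.L08.GrpDim.exists_dim A
  obtain ⟨_, _, _, _⟩ := Degree.isogeny_pow (A := A) hN0
  haveI := Groth.L21.Extend.isQCoh_of_isInvertible
    (Groth.L18.Ample.isInvertible_pullback (𝟙 A ^ N).left hLa.1)
  refine subsingleton_HH_of_pullback (𝟙 A ^ N).left (Degree.finrank_pow hN0 hg) ?_
    (Groth.L16.Existence.isFinLocFree_of_isInvertible hLa.1) j ?_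
  · have h := (isUnit_iff_ne_zero.2 (pow_ne_zero (2 * g) hNu)).map ((Scheme.ΓSpecIso (CommRingCat.of K)).inv ≫ A.hom.appTop).hom
    rwa [map_pow, map_natCast, ← Nat.cast_pow] at h
  · have e : Nonempty ((Scheme.Modules.pullback (𝟙 A ^ N).left).obj L ≅
        CohB1.tensorMod (CohB1.tensorPow L (N ^ 2)) (Coh.structureModule A.left)) := by
      refine (PicGrp.cl_eq_cl_iff _ _).1 ?_
      have h := Groth.L08.Cube.pc_pow L hLa.1 N hN0
      rw [hsym, ← pow_add, show N * (N + 1) / 2 + N * (N - 1) / 2 = N ^ 2 by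
        obtain ⟨m, rfl⟩ : ∃ m, N = m + 1 := ⟨N - 1, by omega⟩
        obtain ⟨a, ha⟩ := Nat.even_mul_succ_self m
        have e1 : (m + 1) * (m + 1 + 1) = 2 * (a + (m + 1)) := by linarith
        have e2 : (m + 1) * (m + 1 - 1) = 2 * a := by rw [Nat.add_sub_cancel]; linarith
        have e3 : (m + 1) ^ 2 = a + a + (m + 1) := by linarith
        omega] at h
      refine (show PicF.cl _ = pc L (𝟙 A ^ N) from rfl).trans (h.trans ?_)
      rw [PicGrp.cl_eq_cl_iff _ _ |>.2 ⟨Groth.L00.Tensor.tensorUnitRight _⟩, Groth.L08.Cube.cl_tensorPow, pc_id]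
    obtain ⟨e⟩ := e
    exact subsingleton_HH_congr e.symm j (hd _ (by nlinarith) j hj)

/-- Ample modules have no higher cohomology and some sections. -/
theorem cohomology_of_isAmple (L : A.left.Modules) (hLa : CohB1.IsAmple L) :
    (∀ j : ℕ, 0 < j → Subsingleton (Coh.HH A.left L j)) ∧ Nontrivial (Coh.HH A.left L 0) := by
  have hpos : ∀ j : ℕ, 0 < j → Subsingleton (Coh.HH A.left L j) := fun j hj => by
    obtain ⟨x, hx⟩ := exists_symmetric_translate L hLa
    haveI := Groth.L08.Cube.isIso_trK (A := A) x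
    let L' := (Scheme.Modules.pullback (trK x).left).obj L
    have hL' : CohB1.IsAmple L' := Groth.L18.Ample.isAmple_pullback_of_isAffineHom (trK x).left hLa
    have hsym : pc L' (𝟙 A)⁻¹ = pc L' (𝟙 A) := by
      show PicF.pullCl _ (pc L (trK x)) = PicF.pullCl _ (pc L (trK x))
      rw [pullCl_pc, pullCl_pc, hx, Category.id_comp]
    obtain ⟨e⟩ := nonempty_HH_pullback (trK x).left L j
    haveI := subsingleton_HH_of_symmetric L' hL' hsym j hj
    exact e.symm.toEquiv.subsingleton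
  refine ⟨hpos, not_subsingleton_iff_nontrivial.1 fun h0 => ?_⟩
  obtain ⟨i, hi⟩ := exists_not_subsingleton_HH_of_finite L hLa.1 (Groth.L08.Cube.finite_fixed_of_isAmple L hLa)
  rcases Nat.eq_zero_or_pos i with rfl | hi0
  · exact hi h0
  · exact hi (hpos i hi0)

end Groth.Agent.Pic0
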