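import Groth.Agent.L26.Pic0.AlbClasses
import Groth.Agent.L26.AV.TorsPts
import Groth.Agent.L08.Cube.NPull

/-!
Divisibility of the group of classes algebraically equivalent to zero on a smooth variety.
-/

open CategoryTheory CategoryTheory.Limits AlgebraicGeometry TopologicalSpace
open MonoidalCategory CartesianMonoidalCategory MonObj GrpObj
open Groth.L08.Cube (pc trK)
open Groth.Agent.AbDualLib Groth.Agent.KLMulN Groth.Agent.MumfordQuot

universe u

noncomputable section

namespace Groth.Agent.Pic0.AlbCls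

set_option backward.isDefEq.respectTransparency false
set_option backward.isDefEq.respectTransparency.types false
set_option linter.style.haveILetI false
set_option linter.unusedSectionVars false
set_option maxSynthPendingDepth 3

attribute [local instance] Groth.L08.Cube.clMonoid

variable {k : Type u} [Field k] [IsAlgClosed k] {W : Over (Spec (CommRingCat.of k))}

theorem AlbCl.isInvertibleCl {c : (PicF.Cl W.left)ˣ} (h : AlbCl c) : PicF.IsInvertibleCl (c : PicF.Cl W.left) := by
  obtain ⟨J, _, _, _, _, L, hL, f, a, rfl⟩ := h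
  exact isInvertibleCl_bil L hL _ _

theorem AlbCl.exists_root {c : (PicF.Cl W.left)ˣ} (h : AlbCl c) {n : ℕ} (hn : 1 ≤ n) :
    ∃ d : (PicF.Cl W.left)ˣ, AlbCl d ∧ d ^ n = c := by
  obtain ⟨J, _, _, _, _, L, hL, f, a, rfl⟩ := h
  obtain ⟨z, hz⟩ : ∃ z : 𝟙_ (Over (Spec (CommRingCat.of k))) ⟶ J, z ^ n = a :=
    Groth.Agent.AV.TorsPts.exists_pow_eq hn a
  refine ⟨bil L hL f (toUnit W ≫ z), ⟨J, inferInstance, inferInstance, inferInstance, inferInstance, L, hL, f, z, rfl⟩, ?_⟩
  subst hz
  clear hn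
  induction n with
  | zero => rw [pow_zero, pow_zero, MonObj.comp_one, bil_one_right]
  | succ m ih => rw [pow_succ, pow_succ, MonObj.comp_mul, bil_mul_right, ih]

/-- A class some positive power of which is algebraically trivial is algebraically trivial times torsion. -/
theorem exists_algEquiv_tensor_torsion [Smooth W.hom] [IsSeparated W.hom] [QuasiCompact W.hom]
    [GeometricallyIntegral W.hom] (L : W.left.Modules) (hL : PicF.IsInvertible L)
    (htau : Pic13.IsTauEquivZero k W.left L) :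
    ∃ (E T : W.left.Modules), PicF.IsInvertible E ∧ PicF.IsInvertible T ∧ Pic13.IsAlgEquivZero k W.left E ∧
      (∃ m : ℕ, 0 < m ∧ Nonempty (CohB1.tensorPow T m ≅ Coh.structureModule W.left)) ∧
      Nonempty (L ≅ CohB1.tensorMod E T) := by
  obtain ⟨n, hn, halg⟩ := htau
  obtain ⟨c, hc, hcl⟩ := exists_albCl_of_algEquiv _ halg
  obtain ⟨d, hd, rfl⟩ := hc.exists_root hn
  obtain ⟨E, hE, hEi⟩ : PicF.IsInvertibleCl ((d : PicF.Cl W.left)) :=
    hd.isInvertibleCl
  obtain ⟨T, hT, hTi⟩ : PicF.IsInvertibleCl (PicF.cl L * ((d⁻¹ : (PicF.Cl W.left)ˣ) : PicF.Cl W.left)) :=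
    isInvertibleCl_mulCl ⟨L, rfl, hL⟩ hd.inv.isInvertibleCl
  refine ⟨E, T, hEi, hTi, hd.isAlgEquivZero E hE, ⟨n, hn, (PicGrp.cl_eq_cl_iff _ _).1 ?_⟩,
    (PicGrp.cl_eq_cl_iff _ _).1 ?_⟩
  · rw [Groth.L08.Cube.cl_tensorPow, hT, mul_pow, ← Groth.L08.Cube.cl_tensorPow, ← hcl, ← Units.val_pow_eq_pow_val,
      ← Units.val_mul, inv_pow, mul_inv_cancel]
    rfl
  · rw [show PicF.cl (CohB1.tensorMod E T) = PicF.cl E * PicF.cl T from (PicGrp.mulCl_cl E T).symm, hE, hT,
      mul_left_comm, Units.mul_inv, _root_.mul_one]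

end Groth.Agent.Pic0.AlbCls
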