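/-
Curves inside closed sets of an abelian variety, and translations they do not see.
-/
import Groth.Agent.L26.H1Bound.Finite
import Groth.Agent.L26.Pic0.CurveChain
import Groth.Agent.L26.Weil.Apply

/-!
# Curves inside closed subsets

An infinite closed subset of an abelian variety receives a non-constant map from a smooth proper curve, and
every translation of an ample module is seen along such a map.
-/

set_option autoImplicit false
set_option linter.style.haveILetI false
set_option linter.unusedSectionVars false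
set_option backward.isDefEq.respectTransparency false

universe u

open CategoryTheory CategoryTheory.Limits MonoidalCategory CartesianMonoidalCategory AlgebraicGeometry TopologicalSpace
open scoped MonObj

noncomputable section

namespace Groth.Agent.L26.InvisibleCurve

open Groth.L08.Cube Groth.Agent.AbDualLib Groth.Agent.Pic0 Groth.Agent.L26.H1Bound

attribute [local instance] clMonoid

variable {K : Type u} [Field K] [IsAlgClosed K] {A : Over (Spec (CommRingCat.of K))} [GrpObj A] [IsProper A.hom]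
  [GeometricallyIntegral A.hom]

/-- An infinite closed set receives a non-constant curve. -/
theorem exists_curve {Z : Set A.left} (hZ : IsClosed Z) (hinf : Z.Infinite) :
    ∃ (X : Over (Spec (CommRingCat.of K))) (_ : IsProper X.hom) (_ : Smooth X.hom) (_ : GeometricallyIntegral X.hom)
      (_ : topologicalKrullDim X.left = 1) (ν : X ⟶ A) (c c' : 𝟙_ (Over (Spec (CommRingCat.of K))) ⟶ X),
      c ≫ ν ≠ c' ≫ ν ∧ ∀ x, ν.left x ∈ Z := by
  haveI : JacobsonSpace A.left := LocallyOfFiniteType.jacobsonSpace A.hom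
  haveI : IsLocallyNoetherian A.left := LocallyOfFiniteType.isLocallyNoetherian A.hom
  haveI : CompactSpace A.left := QuasiCompact.compactSpace_of_compactSpace A.hom
  haveI : IsNoetherian A.left := {}
  obtain ⟨S, hS, hSc, hSi, hSu⟩ := NoetherianSpace.exists_finite_set_isClosed_irreducible hZ
  obtain ⟨T, hT, hTinf⟩ : ∃ T ∈ S, T.Infinite := by
    by_contra hcon
    push Not at hcon
    exact hinf (hSu ▸ hS.sUnion hcon)
  obtain ⟨x, x', hx, hx', hne⟩ : ∃ x x', x ∈ T ∩ closedPoints A.left ∧ x' ∈ T ∩ closedPoints A.left ∧ x ≠ x' := by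
    by_contra hcon
    push Not at hcon
    have hsub : (T ∩ closedPoints A.left).Subsingleton := fun a ha b hb => hcon a b ha hb
    have hc : IsClosed (T ∩ closedPoints A.left) := by
      rcases hsub.eq_empty_or_singleton with h | ⟨a, h⟩
      · rw [h]; exact isClosed_empty
      · rw [h]; exact mem_closedPoints_iff.1 ((h.ge rfl : a ∈ T ∩ closedPoints A.left)).2
    refine hTinf ((hsub.finite).subset ?_)
    conv_lhs => rw [← closure_inter_closedPoints (hSc T hT)]
    exact hc.closure_subset
  let I := Scheme.IdealSheafData.vanishingIdeal (⟨T, hSc T hT⟩ : Closeds A.left)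
  haveI : IsIntegral I.subscheme := isIntegral_vanishingIdeal _ (hSi T hT)
  let Y : Over (Spec (CommRingCat.of K)) := Over.mk (I.subschemeι ≫ A.hom)
  let iY : Y ⟶ A := Over.homMk I.subschemeι rfl
  haveI : IsProper Y.hom := inferInstanceAs (IsProper (I.subschemeι ≫ A.hom))
  haveI : LocallyOfFiniteType Y.hom := inferInstance
  haveI : IsIntegral Y.left := ‹IsIntegral I.subscheme›
  haveI : QuasiCompact Y.hom := inferInstance
  haveI : ConnectedSpace Y.left := inferInstance
  have hrg : Set.range I.subschemeι = T := by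
    rw [I.range_subschemeι, Scheme.IdealSheafData.coe_support_vanishingIdeal]
    rfl
  have hlift : ∀ z ∈ T ∩ closedPoints A.left, ∃ y : 𝟙_ (Over (Spec (CommRingCat.of K))) ⟶ Y, kpt (y ≫ iY) = z := by
    intro z hz
    obtain ⟨p, rfl⟩ : z ∈ Set.range I.subschemeι := hrg.symm ▸ hz.1
    have hp : IsClosed ({p} : Set Y.left) := by
      have h1 := (mem_closedPoints_iff.1 hz.2).preimage I.subschemeι.continuous
      rwa [← Set.image_singleton, I.subschemeι.isEmbedding.injective.preimage_image] at h1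
    obtain ⟨y, rfl⟩ := exists_kpt (A := Y) p hp
    exact ⟨y, (Scheme.Hom.comp_apply _ _ _)⟩
  obtain ⟨y, hy⟩ := hlift x hx
  obtain ⟨y', hy'⟩ := hlift x' hx'
  obtain ⟨a, a', hlink, haa'⟩ : ∃ a a', Chain.CurveLink₁ Y a a' ∧ a ≫ iY ≠ a' ≫ iY := by
    by_contra hcon
    push Not at hcon
    exact hne (hy ▸ hy' ▸ congrArg kpt (Chain.eq_of_curveLink Y (fun a => a ≫ iY) hcon y y'))
  obtain ⟨X, hX1, hX2, hX3, hX4, V, g, c, c', rfl, rfl⟩ := hlink
  haveI := hX1
  haveI := hX2
  haveI := hX3
  haveI : AlgebraicGeometry.IsIntegral X.left := GeometricallyIntegral.isIntegral_of_subsingleton X.hom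
  have hVne : (V : Set X.left).Nonempty := ⟨_, (c.left (IsLocalRing.closedPoint K)).2⟩
  have hVd : Dense (V : Set X.left) := V.2.dense hVne
  obtain ⟨W, hVW, h, hh, hhg, hW⟩ := Groth.L26.Weil.exists_extension_proper (pX := X.hom) (pG := A.hom) hVd
    (g ≫ iY).left (Over.w (g ≫ iY))
  have hWtop : W = ⊤ := by
    refine top_le_iff.1 fun z _ => hW z ?_
    rw [ringKrullDim_stalk_eq_coheight, ← hX4, Groth.L19.topologicalKrullDim_eq_krullDim]
    exact Order.coheight_le_krullDim z
  subst hWtop
  let ν : X ⟶ A := Over.homMk (X.left.topIso.inv ≫ h) (by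
    rw [Category.assoc, hh]
    exact X.left.topIso.inv_hom_id_assoc _)
  have hν : V.ι ≫ ν.left = (g ≫ iY).left := by
    show V.ι ≫ X.left.topIso.inv ≫ h = _
    rw [← hhg, ← Category.assoc]
    congr 1
    rw [← cancel_mono (⊤ : X.left.Opens).ι, Category.assoc, Scheme.homOfLE_ι]
    exact congrArg (V.ι ≫ ·) X.left.topIso.inv_hom_id |>.trans (Category.comp_id _)
  let d : 𝟙_ (Over (Spec (CommRingCat.of K))) ⟶ X := Over.homMk (c.left ≫ V.ι) (by
    rw [Category.assoc]; exact Over.w c)
  let d' : 𝟙_ (Over (Spec (CommRingCat.of K))) ⟶ X := Over.homMk (c'.left ≫ V.ι) (by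
    rw [Category.assoc]; exact Over.w c')
  have hd : ∀ (e : 𝟙_ (Over (Spec (CommRingCat.of K))) ⟶ Over.mk (V.ι ≫ X.hom)) (he),
      (Over.homMk (e.left ≫ V.ι) he : 𝟙_ (Over (Spec (CommRingCat.of K))) ⟶ X) ≫ ν = (e ≫ g) ≫ iY := fun e he => by
    refine Over.OverMorphism.ext ?_
    show (e.left ≫ V.ι) ≫ ν.left = (e.left ≫ g.left) ≫ iY.left
    rw [Category.assoc, hν, Category.assoc]
    rfl
  refine ⟨X, hX1, hX2, hX3, hX4, ν, d, d', fun e => haa' ((hd c _).symm.trans (e.trans (hd c' _))), fun z => ?_⟩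
  rw [hSu]
  refine ⟨T, hT, ?_⟩
  have hc : IsClosed (ν.left ⁻¹' T) := (hSc T hT).preimage ν.left.continuous
  have hsub : (V : Set X.left) ⊆ ν.left ⁻¹' T := fun v hv => by
    show ν.left v ∈ T
    rw [← hrg]
    refine ⟨g.left ⟨v, hv⟩, ?_⟩
    have := congrArg (fun m : (V : Scheme.{u}) ⟶ A.left => m ⟨v, hv⟩) hν
    exact this.symm
  exact hc.closure_subset_iff.2 hsub (hVd.closure_eq ▸ Set.mem_univ z)

/-- A curve along which no translation of an ample module is seen is constant. -/
theorem const_of_forall_fix {C : Over (Spec (CommRingCat.of K))} [IsProper C.hom] [GeometricallyIntegral C.hom]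
    (L : A.left.Modules) (hLa : CohB1.IsAmple L) (ν : C ⟶ A)
    (hA : ∀ a : 𝟙_ (Over (Spec (CommRingCat.of K))) ⟶ A, Fix L ν a)
    (c₀ c₁ : 𝟙_ (Over (Spec (CommRingCat.of K))) ⟶ C) : c₀ ≫ ν = c₁ ≫ ν := by
  have hL := hLa.1
  haveI : IsCommMonObj A := isCommMonObj_of_isProper_of_geometricallyIntegral A
  haveI : JacobsonSpace A.left := LocallyOfFiniteType.jacobsonSpace A.hom
  haveI : JacobsonSpace C.left := LocallyOfFiniteType.jacobsonSpace C.hom
  haveI : IsReduced A.left := haveI := GeometricallyIntegral.isIntegral_of_subsingleton A.hom; inferInstance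
  haveI : AlgebraicGeometry.IsIntegral C.left := GeometricallyIntegral.isIntegral_of_subsingleton C.hom
  let e : 𝟙_ (Over (Spec (CommRingCat.of K))) ⟶ A := (c₀ ≫ ν)⁻¹
  let h' : C ⟶ A := ν * cst' C e
  have hpt : ∀ c : 𝟙_ (Over (Spec (CommRingCat.of K))) ⟶ C, c ≫ h' = (c ≫ ν) * e := fun c => by
    show c ≫ (ν * cst' C e) = _
    rw [MonObj.comp_mul, comp_cst', cst', toUnit_unique (toUnit (𝟙_ (Over (Spec (CommRingCat.of K))))) (𝟙 _),
      Category.id_comp]
  have hc₀ : c₀ ≫ h' = 1 := (hpt c₀).trans (mul_inv_cancel _)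
  have hadd := pc_mul_of_fix L hL h' c₀ hc₀ (𝟙 A) fun a => by
    show pc L (ν * cst' C e * cst' C (a ≫ 𝟙 A)) = pc L (ν * cst' C e)
    rw [Category.comp_id, mul_assoc, cst', cst', ← MonObj.comp_mul]
    exact (hA _).trans (hA e).symm
  have hfix : ∀ c : 𝟙_ (Over (Spec (CommRingCat.of K))) ⟶ C, pc L (trK (c ≫ h')) = PicF.cl L := fun c => by
    have e' := congrArg (PicF.pullCl (lift (toUnit A ≫ c) (𝟙 A)).left) hadd
    rw [pullCl_mul, pullCl_pc, pullCl_pc, pullCl_pc, MonObj.comp_mul, lift_fst_assoc, lift_snd_assoc,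
      Category.id_comp, Category.assoc, pc_const L hL, one_mul, pc_id, mul_comm] at e'
    exact e'
  let S : Set A.left := kpt '' {d | pc L (trK d) = PicF.cl L}
  have hSf : S.Finite := (finite_fixed_of_isAmple L hLa).image _
  have hScl : ∀ s ∈ S, IsClosed ({s} : Set A.left) := by
    rintro _ ⟨d, -, rfl⟩
    exact isClosed_kpt d
  have hSc : IsClosed S := by
    have := hSf.isClosed_biUnion (f := fun y => ({y} : Set A.left)) hScl
    rwa [Set.biUnion_of_singleton] at this
  haveI : IsProper h'.left := Groth.Agent.L26.AlbProper.isProper_left h'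
  let T : Set A.left := Set.range h'.left
  have hTc : IsClosed T := h'.left.isClosedMap.isClosed_range
  have hTS : T ⊆ S := by
    conv_lhs => rw [← closure_inter_closedPoints hTc]
    refine hSc.closure_subset_iff.2 ?_
    rintro _ ⟨⟨w, rfl⟩, hwc⟩
    obtain ⟨w', hw', hw'c⟩ := nonempty_inter_closedPoints (Z := h'.left ⁻¹' {h'.left w}) ⟨w, rfl⟩
      ((mem_closedPoints_iff.1 hwc).preimage h'.left.continuous).isLocallyClosed
    obtain ⟨q, rfl⟩ := exists_kpt w' hw'c
    exact ⟨q ≫ h', hfix q, (Scheme.Hom.comp_apply _ _ _).trans hw'⟩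
  have hTi : IsIrreducible T := by
    rw [show T = h'.left '' Set.univ from Set.image_univ.symm]
    exact (IrreducibleSpace.isIrreducible_univ C.left).image _ h'.left.continuous.continuousOn
  have hg := hTi.isGenericPoint_genericPoint hTc
  have hT1 : T.Subsingleton := by
    have h1 := hScl _ (hTS hg.mem)
    rw [← hg.def, h1.closure_eq]
    exact Set.subsingleton_singleton
  have h01 : c₀ ≫ h' = c₁ ≫ h' := kpt_injective <| hT1
    ⟨c₀.left (IsLocalRing.closedPoint K), (Scheme.Hom.comp_apply _ _ _).symm⟩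
    ⟨c₁.left (IsLocalRing.closedPoint K), (Scheme.Hom.comp_apply _ _ _).symm⟩
  rw [hpt, hpt] at h01
  exact mul_right_cancel h01

end Groth.Agent.L26.InvisibleCurve
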