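/-
Coherent modules invariant under twisting by invertible modules.
-/
import Groth.Agent.L21.Bundle.Calc
import Groth.Agent.L21.Bundle.Twist
import Groth.Agent.L20.ExtPull
import Groth.Agent.L12.ExtSh.TensorLine
import Groth.Agent.L12.KDetLine
import Groth.Agent.L08.Cube.NPull
import Groth.Agent.L16.Rees.PushExact
import Groth.Agent.L00.DerivedApi

/-!
# Twist-invariant coherent modules on curves, and twisting of cohomology sheaves

If a coherent module of positive rank on a regular curve is invariant under a twist by an invertible module,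
that module is torsion in the Picard group.
-/

set_option autoImplicit false
set_option linter.style.haveILetI false
set_option backward.isDefEq.respectTransparency false

universe u

open CategoryTheory CategoryTheory.Limits AlgebraicGeometry

noncomputable section

namespace Groth.Agent.L26.TwistInv

attribute [local instance] HasDerivedCategory.standard
attribute [local instance] Groth.L08.Cube.clMonoid

variable {X : Scheme.{u}}

/-- Cohomology sheaves commute with twisting by an invertible module. -/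
theorem nonempty_HD_twist {M : X.Modules} (hM : PicF.IsInvertible M) [DCoh.HasLTensorMod M]
    (K : DCoh.D X) (i : ℤ) :
    Nonempty (DCoh.HD ((DCoh.LTensorMod M).obj K) i ≅ CohB1.tensorMod (DCoh.HD K i) M) := by
  obtain ⟨h1, h2⟩ := Groth.L16.Rees.PushExact.exact_instances (O := M)
    (Groth.L18.KRRAmple.isFinLocFree_of_rank (Groth.L21.Bundle.locFree_one hM))
  haveI := h1
  haveI := h2
  obtain ⟨P₀, ⟨e₀⟩⟩ : ∃ P : CochainComplex X.Modules ℤ, Nonempty (DCoh.toD X P ≅ K) :=
    ⟨DerivedCategory.Q.objPreimage K, ⟨DerivedCategory.Q.objObjPreimageIso K⟩⟩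
  let P := (Groth.L00.KFlat.RF X).obj P₀
  have hP : DCoh.IsKFlat P := Groth.L00.KFlat.isKFlat_RF P₀
  haveI := Groth.L00.KFlat.quasiIso_rF P₀
  let e : DCoh.toD X P ≅ K := asIso (DerivedCategory.Q.map ((Groth.L00.KFlat.rF X).app P₀)) ≪≫ e₀
  refine ⟨(DerivedCategory.homologyFunctor X.Modules i).mapIso ((DCoh.LTensorMod M).mapIso e.symm ≪≫
      Groth.L00.DerivedApi.objIso (Groth.L00.DerivedApi.acyclicKFlat_tensorMod M) P hP) ≪≫
    (DerivedCategory.homologyFunctorFactors X.Modules i).app _ ≪≫
    (show (((DCoh.tensorRightMod M).mapHomologicalComplex (ComplexShape.up ℤ)).obj P).homology i ≅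
      (DCoh.tensorRightMod M).obj (P.homology i) from (P.sc i).mapHomologyIso (DCoh.tensorRightMod M)) ≪≫
    (DCoh.tensorRightMod M).mapIso (((DerivedCategory.homologyFunctorFactors X.Modules i).app P).symm ≪≫
      (DerivedCategory.homologyFunctor X.Modules i).mapIso e)⟩

section Curve

open Groth.L21.Bundle Groth.L00.Tensor

variable [IsIntegral X] [IsLocallyNoetherian X]
  (hreg : ∀ x : X, IsRegularLocalRing (X.presheaf.stalk x)) (hd : topologicalKrullDim X = 1)

include hreg hd in
theorem comp_eq_zero_of_rk {K Q : X.Modules} {s : ℕ} (hQ : FlatMod.IsFinLocFreeOfRank s Q)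
    (hK : Coh.IsCoh K) (h0 : rk K = 0) (f : K ⟶ Q) : f = 0 := by
  refine eq_zero_of_comp_eq_zero hreg hd.le hQ (Groth.L16.CohKernel.isCoh_kernel_cokernel hK hK (𝟙 K)).1 hK
    (kernel.ι (𝟙 K)) ?_ f ?_
  · rw [h0, rk_isZero (IsZero.of_mono_eq_zero (kernel.ι (𝟙 K)) (by simpa using kernel.condition (𝟙 K)))]
  · rw [show kernel.ι (𝟙 K) = 0 by simpa using kernel.condition (𝟙 K), zero_comp]

include hreg hd in
/-- A coherent module invariant under a twist has a locally free quotient invariant under that twist. -/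
theorem exists_locFree_twist_iso {C N : X.Modules} (hC : Coh.IsCoh C) (hN : PicF.IsInvertible N)
    (e : CohB1.tensorMod C N ≅ C) :
    ∃ Q : X.Modules, FlatMod.IsFinLocFreeOfRank (rk C) Q ∧ Nonempty (CohB1.tensorMod Q N ≅ Q) := by
  obtain ⟨Q, p, hp, hK, hK0, hQ⟩ := exists_locFree_quotient hreg hd.le hC
  haveI := hp
  have hQN : FlatMod.IsFinLocFreeOfRank (rk C) (CohB1.tensorMod Q N) := locFree_twist hd hreg hN hQ
  have hcQ := Groth.L21.Bundle.isCoh_of_rank hQ
  have hcQN := Groth.L21.Bundle.isCoh_of_rank hQN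
  have hCN := coh_twist hN hC
  let q : CohB1.tensorMod C N ⟶ CohB1.tensorMod Q N := (tensorRightF N).map p
  haveI : Epi q := (Groth.L03.Euler.shortExact_tensor hN (shortExact_kernel p)).epi_g
  have hq0 : rk (kernel q) = 0 := by
    have h := rk_add (shortExact_kernel q) hCN
    dsimp only at h
    rw [rk_twist hN, rk_twist hN, rk_eq hQ] at h
    omega
  have hKq : Coh.IsCoh (kernel q) := (Groth.L16.CohKernel.isCoh_kernel_cokernel hCN hcQN q).1
  have hu := comp_eq_zero_of_rk hreg hd hQN hK hK0 (kernel.ι p ≫ e.inv ≫ q)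
  have hv := comp_eq_zero_of_rk hreg hd hQ hKq hq0 (kernel.ι q ≫ e.hom ≫ p)
  obtain ⟨u, hu⟩ := (shortExact_kernel p).exact.desc' (e.inv ≫ q) hu
  obtain ⟨v, hv⟩ := (shortExact_kernel q).exact.desc' (e.hom ≫ p) hv
  dsimp only at hu hv
  refine ⟨Q, hQ, ⟨⟨v, u, ?_, ?_⟩⟩⟩
  · rw [← cancel_epi q, ← Category.assoc, hv, Category.assoc, hu, e.hom_inv_id_assoc, Category.comp_id]
  · rw [← cancel_epi p, ← Category.assoc, hu, Category.assoc, hv, e.inv_hom_id_assoc, Category.comp_id]

include hreg hd in
/-- The rank kills the class of a twist fixing the module. -/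
theorem pow_rk_eq_one_of_twist_iso {C N : X.Modules} (hC : Coh.IsCoh C) (hN : PicF.IsInvertible N)
    (e : CohB1.tensorMod C N ≅ C) : (PicF.cl N : PicF.Cl X) ^ rk C = 1 := by
  obtain ⟨Q, hQ, ⟨eQ⟩⟩ := exists_locFree_twist_iso hreg hd hC hN e
  haveI : Coh.IsQCoh Q := (Groth.L21.Bundle.isCoh_of_rank hQ).1
  have hW := Groth.L12.ExtSh.isExtPow_wedgeMod Q (rk C)
  have hWi : PicF.IsInvertible (Groth.L12.ExtSh.wedgeMod Q (rk C)) := Groth.L12.KDetLine.isInvertible_wedge hQ
  obtain ⟨ι⟩ := Groth.L12.ExtSh.nonempty_extPow_tensor_iso hN (Groth.L20.ExtPull.isExtPow_congr eQ.symm hW) hW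
  obtain ⟨c, -, hc⟩ := Groth.L08.Cube.exists_inverseCl (show PicF.IsInvertibleCl (PicF.cl (Groth.L12.ExtSh.wedgeMod Q (rk C))) from ⟨_, rfl, hWi⟩)
  set w : PicF.Cl X := PicF.cl (Groth.L12.ExtSh.wedgeMod Q (rk C)) with hw
  have h : w = w * PicF.cl N ^ rk C := by
    rw [← Groth.L08.Cube.cl_tensorPow N]
    exact (PicGrp.cl_eq_cl_iff _ _).2 ⟨ι⟩
  calc (PicF.cl N : PicF.Cl X) ^ rk C = (w * c) * PicF.cl N ^ rk C := by rw [hc, one_mul]
    _ = (w * PicF.cl N ^ rk C) * c := by ac_rfl
    _ = 1 := by rw [← h, hc]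

/-- A coherent module supported everywhere has positive rank. -/
theorem rk_pos_of_mem_support {C : X.Modules} (hC : Coh.IsCoh C) (h : genericPoint X ∈ CohB1.support C) :
    0 < rk C := by
  haveI := finite_generic hC
  haveI : Nontrivial (C.presheaf.stalk (genericPoint X)) := not_subsingleton_iff_nontrivial.1 h
  exact Module.finrank_pos (R := X.functionField) (M := C.presheaf.stalk (genericPoint X))

end Curve

end Groth.Agent.L26.TwistInv
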